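import Groth.Agent.Lib.GrpQuot.Affine

/-!
# Conjugation of stabilizers
-/

set_option autoImplicit false
set_option linter.style.haveILetI false
set_option backward.isDefEq.respectTransparency.types false
universe u

open CategoryTheory CategoryTheory.Limits AlgebraicGeometry

noncomputable section

namespace Groth.Agent.GrpQuot

open Groth.Agent.GrpdB

variable {S : Scheme.{u}} (G : Grpd.GroupoidScheme S)

theorem stab_t {T : Scheme.{u}} (z : T ⟶ G.stabilizer) :
    (z ≫ pullback.fst G.j G.diag) ≫ G.t = z ≫ G.stabilizerToU := by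
  have h : (z ≫ pullback.fst G.j G.diag) ≫ G.j = (z ≫ G.stabilizerToU) ≫ G.diag := by
    rw [Category.assoc, Category.assoc]; exact congrArg (z ≫ ·) pullback.condition
  simpa [Category.assoc, j_fst, diag_fst] using congrArg (· ≫ pullback.fst G.pU G.pU) h

theorem stab_s {T : Scheme.{u}} (z : T ⟶ G.stabilizer) :
    (z ≫ pullback.fst G.j G.diag) ≫ G.s = z ≫ G.stabilizerToU := by
  have h : (z ≫ pullback.fst G.j G.diag) ≫ G.j = (z ≫ G.stabilizerToU) ≫ G.diag := by
    rw [Category.assoc, Category.assoc]; exact congrArg (z ≫ ·) pullback.condition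
  simpa [Category.assoc, j_snd, diag_snd] using congrArg (· ≫ pullback.snd G.pU G.pU) h

theorem stab_ext {T : Scheme.{u}} {z z' : T ⟶ G.stabilizer}
    (h₁ : z ≫ pullback.fst G.j G.diag = z' ≫ pullback.fst G.j G.diag)
    (h₂ : z ≫ G.stabilizerToU = z' ≫ G.stabilizerToU) : z = z' := pullback.hom_ext h₁ h₂

/-- A loop as a point of the stabilizer. -/
def stabLift {T : Scheme.{u}} (g : T ⟶ G.R) (u : T ⟶ G.U) (ht : g ≫ G.t = u) (hs : g ≫ G.s = u) : T ⟶ G.stabilizer :=
  pullback.lift g u (lift_cond g u ht hs)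

theorem stabLift_fst {T : Scheme.{u}} (g : T ⟶ G.R) (u : T ⟶ G.U) (ht : g ≫ G.t = u) (hs : g ≫ G.s = u) :
    stabLift G g u ht hs ≫ pullback.fst G.j G.diag = g := pullback.lift_fst _ _ _

theorem stabLift_toU {T : Scheme.{u}} (g : T ⟶ G.R) (u : T ⟶ G.U) (ht : g ≫ G.t = u) (hs : g ≫ G.s = u) :
    stabLift G g u ht hs ≫ G.stabilizerToU = u := pullback.lift_snd _ _ _

variable {G} in
theorem conj_cond {T : Scheme.{u}} (σ r : T ⟶ G.R) (hs : σ ≫ G.s = r ≫ G.t) (ht : σ ≫ G.t = r ≫ G.t) :
    inv' r ≫ G.s = cmp G σ r hs ≫ G.t := (inv_s r).trans (ht.symm.trans (cmp_t σ r hs).symm)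

variable {G} in
theorem unconj {T : Scheme.{u}} (σ r a x : T ⟶ G.R) (hs : σ ≫ G.s = r ≫ G.t) (ht : σ ≫ G.t = r ≫ G.t)
    {h₀ : inv' r ≫ G.s = cmp G σ r hs ≫ G.t} (h2 : a = r)
    (hm : x = cmp G (inv' r) (cmp G σ r hs) h₀) (h : x ≫ G.s = inv' a ≫ G.t)
    (h' : a ≫ G.s = cmp G x (inv' a) h ≫ G.t) : cmp G a (cmp G x (inv' a) h) h' = σ := by
  subst h2 hm
  refine (cmp_congr rfl (cmp_assoc _ _ _ _ ((cmp_s _ _ _).trans (inv_t _).symm)) _).trans ?_
  rw [cancel_left']
  · exact cancel_right _ _ _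
  · rw [cmp_t, cmp_t, ht]

/-- Pulled back along `t` or along `s`, the stabilizer is the same. -/
theorem exists_isPullback_conj :
    ∃ conj : pullback G.stabilizerToU G.t ⟶ G.stabilizer,
      IsPullback conj (pullback.snd G.stabilizerToU G.t) G.stabilizerToU G.s := by
  let z := pullback.fst G.stabilizerToU G.t
  let r := pullback.snd G.stabilizerToU G.t
  let σ := z ≫ pullback.fst G.j G.diag
  have hs : σ ≫ G.s = r ≫ G.t := (stab_s G z).trans pullback.condition
  have ht : σ ≫ G.t = r ≫ G.t := (stab_t G z).trans pullback.condition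
  let conj := stabLift G (cmp G (inv' r) (cmp G σ r hs) (conj_cond σ r hs ht)) (r ≫ G.s)
    ((cmp_t _ _ _).trans (inv_t r)) ((cmp_s _ _ _).trans (cmp_s _ _ _))
  have hc : conj ≫ G.stabilizerToU = r ≫ G.s := stabLift_toU _ _ _ _ _
  have key : ∀ {T : Scheme.{u}} (m : T ⟶ pullback G.stabilizerToU G.t),
      (m ≫ conj) ≫ pullback.fst G.j G.diag = cmp G (inv' (m ≫ r)) (cmp G (m ≫ σ) (m ≫ r)
        ((Category.assoc m σ G.s).trans ((congrArg (m ≫ ·) hs).trans (Category.assoc _ _ _).symm)))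
        (conj_cond _ _ ((Category.assoc m σ G.s).trans ((congrArg (m ≫ ·) hs).trans (Category.assoc _ _ _).symm)) ((Category.assoc m σ G.t).trans ((congrArg (m ≫ ·) ht).trans (Category.assoc _ _ _).symm))) := by
    intro T m
    rw [Category.assoc, stabLift_fst, comp_cmp]
    exact cmp_congr (Category.assoc _ _ _).symm (comp_cmp m σ r hs) _
  refine ⟨conj, ⟨⟨hc⟩, ⟨PullbackCone.IsLimit.mk _ ?_ ?_ ?_ ?_⟩⟩⟩
  · intro s
    refine pullback.lift (stabLift G (cmp G s.snd (cmp G (s.fst ≫ pullback.fst G.j G.diag) (inv' s.snd)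
      ((stab_s G s.fst).trans (s.condition.trans (inv_t _).symm)))
      (s.condition.symm.trans ((stab_t G s.fst).symm.trans (cmp_t _ _ _).symm))) (s.snd ≫ G.t)
      (cmp_t _ _ _) ((cmp_s _ _ _).trans ((cmp_s _ _ _).trans (inv_s _)))) s.snd (stabLift_toU _ _ _ _ _)
  · intro s
    refine stab_ext G ((key _).trans ?_) ?_
    · refine (cmp_congr (congrArg inv' (pullback.lift_snd _ _ _))
        (cmp_congr ((Category.assoc _ _ _).symm.trans ((congrArg (· ≫ _) (pullback.lift_fst _ _ _)).trans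
          (stabLift_fst _ _ _ _ _))) (pullback.lift_snd _ _ _) _) _).trans ?_
      refine (cmp_congr rfl (cmp_assoc _ _ _ _ ((cmp_s _ _ _).trans (inv_s _))) _).trans ?_
      rw [cancel_left]
      exact cancel_right' _ _ ((stab_s G s.fst).trans s.condition)
    · rw [Category.assoc, hc, ← Category.assoc, pullback.lift_snd, s.condition]
  · intro s
    exact pullback.lift_snd _ _ _
  · intro s m h1 h2
    apply pullback.hom_ext
    · rw [pullback.lift_fst]
      refine stab_ext G ?_ ?_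
      · rw [stabLift_fst, Category.assoc]
        have hm : s.fst ≫ pullback.fst G.j G.diag = _ := (congrArg (· ≫ pullback.fst G.j G.diag) h1.symm).trans (key m)
        symm
        exact unconj _ _ _ _ _ ((Category.assoc m σ G.t).trans ((congrArg (m ≫ ·) ht).trans (Category.assoc _ _ _).symm)) h2.symm hm _ _
      · rw [stabLift_toU, Category.assoc, pullback.condition, ← Category.assoc, h2]
    · rw [pullback.lift_snd, h2]

end Groth.Agent.GrpQuot
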