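import Groth.Agent.Lib.GrpQuot.Glue
import Groth.Agent.Lib.FinQuot.Scheme
import Groth.Prelude.Def_Mor2

/-!
# The equivalence relation case
-/

set_option autoImplicit false
set_option linter.style.haveILetI false
set_option linter.unusedSectionVars false
set_option backward.isDefEq.respectTransparency.types false
universe u

open CategoryTheory CategoryTheory.Limits AlgebraicGeometry TopologicalSpace

noncomputable section

namespace Groth.Agent.GrpQuot

open Groth.Agent.GrpdB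

variable {S : Scheme.{u}} {G : Grpd.GroupoidScheme S}

theorem hom_ext_of_mono_j [Mono G.j] {T : Scheme.{u}} {a b : T ⟶ G.R} (ht : a ≫ G.t = b ≫ G.t)
    (hs : a ≫ G.s = b ≫ G.s) : a = b := by
  rw [← cancel_mono G.j]
  apply pullback.hom_ext
  · rw [Category.assoc, Category.assoc, j_fst, ht]
  · rw [Category.assoc, Category.assoc, j_snd, hs]

theorem schEqv (hext : ∀ {T : Scheme.{u}} (a b : T ⟶ G.R), a ≫ G.s = b ≫ G.s → a ≫ G.t = b ≫ G.t → a = b) :
    FinQuot.SchEqv G.s G.t :=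
  ⟨hext, ⟨G.e, G.e_s, G.e_t⟩, ⟨G.i, G.i_s, G.i_t⟩, fun a b h =>
    ⟨cmp G b a h.symm, cmp_s _ _ _, cmp_t _ _ _⟩⟩

theorem restr_ext [Mono G.j] (O : G.U.Opens) (hO : G.s ⁻¹ᵁ O = G.t ⁻¹ᵁ O) {T : Scheme.{u}}
    (a b : T ⟶ (restr G O hO).R) (hs : a ≫ (restr G O hO).s = b ≫ (restr G O hO).s)
    (ht : a ≫ (restr G O hO).t = b ≫ (restr G O hO).t) : a = b :=
  (cancel_mono (G.s ⁻¹ᵁ O).ι).1 (hom_ext_of_mono_j
    ((comp_tO G O hO ht).trans (comp_tO G O hO rfl).symm) ((comp_sO G O hs).trans (comp_sO G O rfl).symm))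

theorem restr_quotient [IsFinite G.s] [Flat G.s] [LocallyOfFinitePresentation G.s] [Mono G.j] {O : G.U.Opens}
    (hOa : IsAffineOpen O) (hO : G.s ⁻¹ᵁ O = G.t ⁻¹ᵁ O) :
    ∃ (M : Scheme.{u}) (q : O.toScheme ⟶ M), IsQuot G O.ι q ∧ Mor2.IsFinLocFree q ∧
      IsPullback (sO G O) (tO G O hO) q q := by
  haveI : IsAffine (restr G O hO).U := hOa
  obtain ⟨h1, h2, h3, -, h5⟩ := (schEqv (G := restr G O hO) (fun a b => restr_ext O hO a b)).quotient
  exact ⟨_, (restr G O hO).toQuot, IsQuot.of_restr G O hO isQuot_toQuot, ⟨h1, h2, h3⟩, h5⟩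

/-- Two quotients of the same thing. -/
theorem IsQuot.exists_iso {O Y Y' : Scheme.{u}} {j : O ⟶ G.U} {p : O ⟶ Y} {q : O ⟶ Y'} (hp : IsQuot G j p)
    (hq : IsQuot G j q) : ∃ e : Y ≅ Y', p ≫ e.hom = q := by
  obtain ⟨φ, hφ, -⟩ := hp.descTop q hq.inv
  obtain ⟨ψ, hψ, -⟩ := hq.descTop p hp.inv
  exact ⟨⟨φ, ψ, hp.hom_ext (by rw [reassoc_of% hφ, hψ, Category.comp_id]),
    hq.hom_ext (by rw [reassoc_of% hψ, hφ, Category.comp_id])⟩, hφ⟩

section

variable [IsFinite G.s] [Flat G.s] [LocallyOfFinitePresentation G.s] [Mono G.j]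
  (hb : ∀ x : G.U, ∃ V : G.U.Opens, IsAffineOpen V ∧ G.t.base '' (G.s.base ⁻¹' {x}) ⊆ (V : Set G.U))

include hb in
theorem exists_affine_chart' (x : G.U) :
    ∃ c : Chart G, x ∈ c.W ∧ Mor2.IsFinLocFree c.p ∧ IsPullback (sO G c.W) (tO G c.W c.inv) c.p c.p := by
  obtain ⟨V, hV, hxV⟩ := hb x
  obtain ⟨W, hWa, hxW, -, hWi⟩ := exists_invariant_affine x V hV (fun r hr => hxV ⟨r, hr, rfl⟩)
  obtain ⟨M, q, hQ, ⟨h1, h2, h3⟩, h5⟩ := restr_quotient hWa hWi
  let c : Chart G := ⟨W, hWi, M, q, hQ⟩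
  obtain ⟨e, he⟩ := hQ.exists_iso c.isQuot
  refine ⟨c, hxW, ?_, ?_⟩
  · rw [← he]
    exact ⟨inferInstance, inferInstance, inferInstance⟩
  · rw [← he]
    exact h5.of_iso (Iso.refl _) (Iso.refl _) (Iso.refl _) e (by simp [c]) (by simp [c]) (by simp [c]) (by simp [c])

variable (hcov : ∀ x : G.U, ∃ c : Chart G, x ∈ c.W)

include hb in
theorem exists_lift_glued {T : Scheme.{u}} (x y : T ⟶ G.U) (h : x ≫ toGlued hcov = y ≫ toGlued hcov) :
    ∃ r : T ⟶ G.R, r ≫ G.t = x ∧ r ≫ G.s = y := by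
  choose c hc hfl hpb using exists_affine_chart' (G := G) hb
  let O : T → T.Opens := fun z => x ⁻¹ᵁ (c (x z)).W
  have hyO : ∀ z w, w ∈ O z → y w ∈ (c (x z)).W := by
    intro z w hw
    have := congr($(h) w)
    rw [Scheme.Hom.comp_apply, Scheme.Hom.comp_apply] at this
    obtain ⟨r, h1, h2⟩ := (toGlued_eq_iff hcov _ _).1 this
    exact (mem_iff_of_arrow (c (x z)).inv h1 h2).1 hw
  let a : ∀ z, (O z).toScheme ⟶ (c (x z)).W.toScheme := fun z => x.resLE _ _ le_rfl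
  let b : ∀ z, (O z).toScheme ⟶ (c (x z)).W.toScheme := fun z => y.resLE _ _ (hyO z)
  have hab : ∀ z, b z ≫ (c (x z)).p = a z ≫ (c (x z)).p := fun z => by
    rw [← cancel_mono (c (x z)).ι, Category.assoc, Category.assoc, ← ι_toGlued hcov]
    simp only [a, b, Scheme.Hom.resLE_comp_ι_assoc, h]
  let r : ∀ z, (O z).toScheme ⟶ G.R := fun z =>
    (hpb (x z)).lift (b z) (a z) (hab z) ≫ (G.s ⁻¹ᵁ (c (x z)).W).ι
  have hr : ∀ z, r z ≫ G.t = (O z).ι ≫ x ∧ r z ≫ G.s = (O z).ι ≫ y := fun z =>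
    ⟨(comp_tO G _ (c (x z)).inv ((hpb (x z)).lift_snd _ _ _)).trans (Scheme.Hom.resLE_comp_ι _ _),
     (comp_sO G _ ((hpb (x z)).lift_fst _ _ _)).trans (Scheme.Hom.resLE_comp_ι _ _)⟩
  clear_value r
  let 𝒰 : T.OpenCover := Scheme.Cover.mkOfCovers T (fun z => (O z).toScheme) (fun z => (O z).ι)
    (fun z => ⟨z, ⟨z, hc (x z)⟩, rfl⟩) (fun _ => inferInstance)
  have hcompat : ∀ i j : T, pullback.fst (O i).ι (O j).ι ≫ r i = pullback.snd (O i).ι (O j).ι ≫ r j := by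
    intro i j
    apply hom_ext_of_mono_j
    · rw [Category.assoc, Category.assoc, (hr i).1, (hr j).1, pullback.condition_assoc]
    · rw [Category.assoc, Category.assoc, (hr i).2, (hr j).2, pullback.condition_assoc]
  refine ⟨𝒰.glueMorphisms r hcompat, ?_, ?_⟩
  · refine 𝒰.hom_ext _ _ fun z => ?_
    rw [Scheme.Cover.ι_glueMorphisms_assoc]
    exact (hr z).1
  · refine 𝒰.hom_ext _ _ fun z => ?_
    rw [Scheme.Cover.ι_glueMorphisms_assoc]
    exact (hr z).2

include hb in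
theorem isPullback_glued : IsPullback G.t G.s (toGlued hcov) (toGlued hcov) := by
  have key := fun (s : PullbackCone (toGlued hcov) (toGlued hcov)) =>
    exists_lift_glued hb hcov s.fst s.snd s.condition
  exact ⟨⟨t_toGlued hcov⟩, ⟨PullbackCone.IsLimit.mk _ (fun s => (key s).choose) (fun s => (key s).choose_spec.1)
    (fun s => (key s).choose_spec.2)
    fun s m h1 h2 => hom_ext_of_mono_j (h1.trans (key s).choose_spec.1.symm) (h2.trans (key s).choose_spec.2.symm)⟩⟩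

include hb in
theorem isFinLocFree_glued : Mor2.IsFinLocFree (toGlued hcov) := by
  choose c hc hfl hpb using exists_affine_chart' (G := G) hb
  let 𝒱 : (Quot G).OpenCover := Scheme.Cover.mkOfCovers G.U (fun x => (c x).M) (fun x => (c x).ι) (fun y => by
    obtain ⟨x, rfl⟩ := (surjective_toGlued hcov).surj y
    exact ⟨x, (c x).p ⟨x, hc x⟩, (toGlued_apply hcov (c x) ⟨x, hc x⟩).symm⟩) (fun _ => inferInstance)
  have key : ∀ (P : MorphismProperty Scheme.{u}) [IsZariskiLocalAtTarget P], (∀ x, P (c x).p) → P (toGlued hcov) := by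
    intro P _ hP
    refine IsZariskiLocalAtTarget.of_openCover 𝒱 fun x => ?_
    show P (pullback.snd (toGlued hcov) (c x).ι)
    rw [← (isPullback_toGlued hcov (c x)).flip.isoPullback_inv_snd]
    exact MorphismProperty.RespectsIso.precomp P _ _ (hP x)
  exact ⟨key @IsFinite fun x => (hfl x).1, key @Flat fun x => (hfl x).2.1,
    key @LocallyOfFinitePresentation fun x => (hfl x).2.2⟩

end

end Groth.Agent.GrpQuot
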