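import Mathlib.AlgebraicGeometry.Morphisms.SchemeTheoreticallyDominant
import Mathlib.AlgebraicGeometry.Morphisms.Flat
import Mathlib.AlgebraicGeometry.Morphisms.ClosedImmersion
import Mathlib.CategoryTheory.Subobject.Basic

/-!
# fpqc descent of closed and open subschemes
-/

universe u

set_option linter.style.haveILetI false

open CategoryTheory Limits AlgebraicGeometry TopologicalSpace

namespace Groth.Agent.GrpQuot.SubDesc

variable {X Y : Scheme.{u}}

theorem stalkMap_injective_of_flat (f : X ⟶ Y) [Flat f] (x : X) :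
    Function.Injective (f.stalkMap x).hom := by
  have hfl : (f.stalkMap x).hom.Flat := Flat.stalkMap f x
  letI := (f.stalkMap x).hom.toAlgebra
  haveI : Module.Flat (Y.presheaf.stalk (f x)) (X.presheaf.stalk x) := hfl
  haveI : IsLocalHom (algebraMap (Y.presheaf.stalk (f x)) (X.presheaf.stalk x)) :=
    inferInstanceAs (IsLocalHom (f.stalkMap x).hom)
  haveI := Module.FaithfullyFlat.of_flat_of_isLocalHom
    (A := Y.presheaf.stalk (f x)) (B := X.presheaf.stalk x)
  exact FaithfulSMul.algebraMap_injective (Y.presheaf.stalk (f x)) (X.presheaf.stalk x)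

instance (priority := low) isSTD_of_flat_surjective (f : X ⟶ Y) [Flat f] [Surjective f] :
    IsSchemeTheoreticallyDominant f := by
  rw [isSchemeTheoreticallyDominant_iff]
  refine le_bot_iff.1 fun V s hs ↦ ?_
  have h0 : f.app V.1 s = 0 := f.ideal_ker_le V hs
  show s ∈ (⊥ : Ideal Γ(Y, V.1))
  rw [Ideal.mem_bot]
  apply Y.IsSheaf.section_ext
  intro y hy
  obtain ⟨x, rfl⟩ := f.surjective y
  have : Y.presheaf.germ V.1 (f x) hy s = Y.presheaf.germ V.1 (f x) hy 0 := by
    apply stalkMap_injective_of_flat f x
    rw [Scheme.Hom.germ_stalkMap_apply, Scheme.Hom.germ_stalkMap_apply, h0, map_zero, map_zero, map_zero]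
  obtain ⟨W, hW, iU, iV, e⟩ := Y.presheaf.germ_eq _ hy hy _ _ this
  exact ⟨W, iU.le, hW, by simpa [Subsingleton.elim (homOfLE iU.le) iU] using e⟩

/-- The factorisation through the scheme theoretic image is scheme theoretically dominant. -/
instance isSTD_toImage (g : X ⟶ Y) [QuasiCompact g] :
    IsSchemeTheoreticallyDominant g.toImage := by
  rw [isSchemeTheoreticallyDominant_iff]
  refine Scheme.IdealSheafData.ext_of_iSup_eq_top
    (fun U : Y.affineOpens ↦ ⟨g.imageι ⁻¹ᵁ U.1, U.2.preimage g.imageι⟩) ?_ fun U ↦ ?_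
  · rw [eq_top_iff]
    intro z _
    obtain ⟨_, ⟨V, hV, rfl⟩, hzV, -⟩ :=
      Y.isBasis_affineOpens.exists_subset_of_mem_open (Set.mem_univ (g.imageι z)) isOpen_univ
    exact Opens.mem_iSup.2 ⟨⟨V, hV⟩, hzV⟩
  · rw [Scheme.Hom.ker_apply, Scheme.IdealSheafData.ideal_bot, Pi.bot_apply,
      ← RingHom.injective_iff_ker_eq_bot]
    exact g.toImage_app_injective U

variable {S : Scheme.{u}}

theorem ker_pullback_fst_eq_comap (f : X ⟶ S) [Flat f] (g : Y ⟶ S) [QuasiCompact g] :
    (pullback.fst f g).ker = g.ker.comap f := by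
  let m : pullback f g ⟶ pullback f g.imageι :=
    pullback.map f g f g.imageι (𝟙 _) g.toImage (𝟙 _) (by simp) (by simp)
  have sq : IsPullback m (pullback.snd f g) (pullback.snd f g.imageι) g.toImage := by
    refine IsPullback.of_right ?_ (pullback.lift_snd _ _ _)
      (IsPullback.of_hasPullback f g.imageι)
    rw [Scheme.Hom.toImage_imageι, pullback.lift_fst, Category.comp_id]
    exact IsPullback.of_hasPullback f g
  haveI : Flat (pullback.snd f g.imageι) := inferInstance
  haveI : IsSchemeTheoreticallyDominant m :=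
    IsSchemeTheoreticallyDominant.of_isPullback sq.flip
  have e : pullback.fst f g = m ≫ pullback.fst f g.imageι :=
    ((pullback.lift_fst _ _ _).trans (Category.comp_id _)).symm
  rw [e, Scheme.Hom.ker_comp, Scheme.Hom.ker_eq_bot m, Scheme.IdealSheafData.map_bot,
    Scheme.IdealSheafData.ker_fst_of_isClosedImmersion, Scheme.IdealSheafData.ker_subschemeι]

variable {X' : Scheme.{u}} (π : X ⟶ X') [Flat π] [Surjective π] [QuasiCompact π]

theorem map_comap_of_flat_surjective (I : X'.IdealSheafData) :
    (I.comap π).map π = I := by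
  rw [← Scheme.IdealSheafData.ker_subschemeι I, ← Scheme.IdealSheafData.ker_fst_of_isClosedImmersion,
    ← Scheme.Hom.ker_comp, pullback.condition, Scheme.Hom.ker_comp,
    Scheme.Hom.ker_eq_bot (pullback.snd π I.subschemeι), Scheme.IdealSheafData.map_bot]

theorem comap_map_of_comap_eq (J : X.IdealSheafData)
    (h : J.comap (pullback.fst π π) = J.comap (pullback.snd π π)) :
    (J.map π).comap π = J := by
  let ι := J.subschemeι
  have hJ : J.map π = (ι ≫ π).ker := rfl
  rw [hJ, ← ker_pullback_fst_eq_comap π (ι ≫ π)]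
  -- `pullback π (ι ≫ π)` is the preimage of `J` under the second projection
  let A := pullback (pullback.snd π π) ι
  have sqA : IsPullback (pullback.fst (pullback.snd π π) ι ≫ pullback.fst π π)
      (pullback.snd (pullback.snd π π) ι) π (ι ≫ π) :=
    ((IsPullback.of_hasPullback (pullback.snd π π) ι).flip.paste_vert
      (IsPullback.of_hasPullback π π).flip).flip
  rw [← sqA.isoPullback_inv_fst, Scheme.Hom.ker_comp_of_isIso]
  -- the preimage of `J` under the second projection is the one under the first one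
  let B := pullback (pullback.fst π π) ι
  have e : (pullback.fst (pullback.fst π π) ι).ker = (pullback.fst (pullback.snd π π) ι).ker := by
    rw [Scheme.IdealSheafData.ker_fst_of_isClosedImmersion,
      Scheme.IdealSheafData.ker_fst_of_isClosedImmersion, Scheme.IdealSheafData.ker_subschemeι, h]
  rw [Scheme.Hom.ker_comp, ← e, ← Scheme.Hom.ker_comp, pullback.condition, Scheme.Hom.ker_comp,
    Scheme.Hom.ker_eq_bot (pullback.snd (pullback.fst π π) ι), Scheme.IdealSheafData.map_bot,
    Scheme.IdealSheafData.ker_subschemeι]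

/-- A closed subscheme of `X` stable under the descent datum descends. -/
theorem exists_eq_of_comap_eq (J : X.IdealSheafData)
    (h : J.comap (pullback.fst π π) = J.comap (pullback.snd π π)) :
    ∃! I : X'.IdealSheafData, I.comap π = J :=
  ⟨J.map π, comap_map_of_comap_eq π J h, fun I hI ↦ by
    rw [← hI, map_comap_of_flat_surjective π I]⟩

/-! ### In terms of subobjects -/

variable {π}

theorem subobject_eq_iff_ker (A B : Subobject X) [IsClosedImmersion A.arrow]
    [IsClosedImmersion B.arrow] : A = B ↔ A.arrow.ker = B.arrow.ker := by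
  refine ⟨fun h ↦ by subst h; rfl, fun h ↦ le_antisymm ?_ ?_⟩
  · exact Subobject.le_of_comm (IsClosedImmersion.lift B.arrow A.arrow h.symm.le)
      (IsClosedImmersion.lift_fac _ _ _)
  · exact Subobject.le_of_comm (IsClosedImmersion.lift A.arrow B.arrow h.le)
      (IsClosedImmersion.lift_fac _ _ _)

theorem pullback_obj_arrow (f : X ⟶ Y) (B : Subobject Y) [IsClosedImmersion B.arrow] :
    IsClosedImmersion ((Subobject.pullback f).obj B).arrow ∧
      ((Subobject.pullback f).obj B).arrow.ker = B.arrow.ker.comap f := by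
  have h : (Subobject.pullback f).obj B = Subobject.mk (pullback.fst f B.arrow) := by
    conv_lhs => rw [← Subobject.mk_arrow B]
    exact Subobject.pullback_obj_mk (IsPullback.of_hasPullback f B.arrow).flip
  rw [h, ← Subobject.underlyingIso_hom_comp_eq_mk]
  exact ⟨inferInstance, by
    rw [Scheme.Hom.ker_comp_of_isIso, Scheme.IdealSheafData.ker_fst_of_isClosedImmersion]⟩

theorem mk_subschemeι_arrow (I : Y.IdealSheafData) :
    IsClosedImmersion (Subobject.mk I.subschemeι).arrow ∧
      (Subobject.mk I.subschemeι).arrow.ker = I := by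
  rw [← Subobject.underlyingIso_hom_comp_eq_mk]
  exact ⟨inferInstance, by
    rw [Scheme.Hom.ker_comp_of_isIso, Scheme.IdealSheafData.ker_subschemeι]⟩

end Groth.Agent.GrpQuot.SubDesc

namespace Groth.Agent.GrpQuot.SubDesc

variable {X Y X' : Scheme.{u}}

theorem subobject_eq_iff_range (A B : Subobject X) [IsOpenImmersion A.arrow]
    [IsOpenImmersion B.arrow] : A = B ↔ Set.range A.arrow = Set.range B.arrow := by
  refine ⟨fun h ↦ by subst h; rfl, fun h ↦ le_antisymm ?_ ?_⟩
  · exact Subobject.le_of_comm (IsOpenImmersion.lift B.arrow A.arrow h.le)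
      (IsOpenImmersion.lift_fac _ _ _)
  · exact Subobject.le_of_comm (IsOpenImmersion.lift A.arrow B.arrow h.symm.le)
      (IsOpenImmersion.lift_fac _ _ _)

theorem range_mk_arrow {Z : Scheme.{u}} (j : Z ⟶ Y) [IsOpenImmersion j] :
    IsOpenImmersion (Subobject.mk j).arrow ∧ Set.range (Subobject.mk j).arrow = Set.range j := by
  rw [← Subobject.underlyingIso_hom_comp_eq_mk]
  refine ⟨inferInstance, ?_⟩
  rw [Scheme.Hom.comp_base, TopCat.coe_comp, Set.range_comp, Set.range_eq_univ.2, Set.image_univ]
  exact (Subobject.underlyingIso j).hom.homeomorph.surjective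

theorem range_pullback_obj_arrow (f : X ⟶ Y) (B : Subobject Y) [IsOpenImmersion B.arrow] :
    IsOpenImmersion ((Subobject.pullback f).obj B).arrow ∧
      Set.range ((Subobject.pullback f).obj B).arrow = f ⁻¹' Set.range B.arrow := by
  have h : (Subobject.pullback f).obj B = Subobject.mk (pullback.fst f B.arrow) := by
    conv_lhs => rw [← Subobject.mk_arrow B]
    exact Subobject.pullback_obj_mk (IsPullback.of_hasPullback f B.arrow).flip
  rw [h]
  refine ⟨(range_mk_arrow _).1, ?_⟩
  rw [(range_mk_arrow _).2, Scheme.Pullback.range_fst]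

variable (π : X ⟶ X') [Flat π] [Surjective π] [QuasiCompact π]

theorem isOpen_image_of_saturated {U : Set X} (hU : IsOpen U)
    (h : pullback.fst π π ⁻¹' U = pullback.snd π π ⁻¹' U) :
    IsOpen (π '' U) ∧ π ⁻¹' (π '' U) = U := by
  have e : π ⁻¹' (π '' U) = U := by
    refine subset_antisymm (fun x ⟨y, hy, hxy⟩ ↦ ?_) (Set.subset_preimage_image _ _)
    obtain ⟨z, hz1, hz2⟩ := Scheme.Pullback.exists_preimage_pullback y x hxy
    have : z ∈ pullback.fst π π ⁻¹' U := by rwa [Set.mem_preimage, hz1]
    rw [h, Set.mem_preimage, hz2] at this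
    exact this
  refine ⟨?_, e⟩
  rw [← (Flat.isQuotientMap_of_surjective π).isOpen_preimage]
  rwa [e]

end Groth.Agent.GrpQuot.SubDesc
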