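import Groth.Agent.Lib.GrpQuot.SubDesc
import Groth.Agent.Lib.EffCartier.Basic
import Mathlib.AlgebraicGeometry.Sites.Fpqc
import Mathlib.AlgebraicGeometry.Morphisms.FlatDescent

/-!
# fpqc descent of closed subschemes along families
-/

universe w u

set_option linter.style.haveILetI false
set_option linter.unusedSectionVars false
set_option backward.isDefEq.respectTransparency.types false

open CategoryTheory Limits AlgebraicGeometry TopologicalSpace

namespace Groth.Agent.GrpQuot.SubDesc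

variable {X Y : Scheme.{u}}

theorem comap_injective (f : X ⟶ Y) [Flat f] [Surjective f] :
    Function.Injective fun I : Y.IdealSheafData ↦ I.comap f := by
  intro I J h
  have key : ∀ K : Y.IdealSheafData, (K.comap f).map f = K := fun K ↦ by
    rw [← Scheme.IdealSheafData.ker_subschemeι K,
      ← Scheme.IdealSheafData.ker_fst_of_isClosedImmersion, ← Scheme.Hom.ker_comp,
      pullback.condition, Scheme.Hom.ker_comp, Scheme.Hom.ker_eq_bot (pullback.snd f K.subschemeι),
      Scheme.IdealSheafData.map_bot]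
  rw [← key I, ← key J]
  exact congrArg (Scheme.IdealSheafData.map · f) h

theorem comap_inj_ideal {W : X.affineOpens} (f : X ⟶ Y) [IsOpenImmersion f]
    {I J : Y.IdealSheafData} (h : I.comap f = J.comap f) :
    I.ideal ⟨f ''ᵁ W.1, W.2.image_of_isOpenImmersion f⟩ =
      J.ideal ⟨f ''ᵁ W.1, W.2.image_of_isOpenImmersion f⟩ := by
  have e := congrArg (fun K : X.IdealSheafData ↦ K.ideal W) h
  simp only [Scheme.IdealSheafData.ideal_comap_of_isOpenImmersion] at e
  exact Ideal.comap_injective_of_surjective _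
    (ConcreteCategory.bijective_of_isIso (f.appIso W.1).inv).surjective e

/-- Ideal sheaves can be compared on an open cover. -/
theorem ext_openCover (c : Y.OpenCover) {I J : Y.IdealSheafData}
    (h : ∀ i, I.comap (c.f i) = J.comap (c.f i)) : I = J := by
  refine Scheme.IdealSheafData.ext_of_iSup_eq_top
    (fun p : Σ i : c.I₀, (c.X i).affineOpens ↦
      ⟨c.f p.1 ''ᵁ p.2.1, p.2.2.image_of_isOpenImmersion (c.f p.1)⟩) ?_
    fun p ↦ comap_inj_ideal (c.f p.1) (h p.1)
  rw [eq_top_iff]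
  intro y _
  obtain ⟨x, hx⟩ := c.covers y
  obtain ⟨W, hW, hxW, -⟩ := exists_isAffineOpen_mem_and_subset (X := c.X (c.idx y)) (x := x)
    (U := ⊤) trivial
  exact Opens.mem_iSup.2 ⟨⟨c.idx y, ⟨W, hW⟩⟩, ⟨x, hxW, hx⟩⟩

theorem comap_inf (f : X ⟶ Y) [IsOpenImmersion f] (I J : Y.IdealSheafData) :
    (I ⊓ J).comap f = I.comap f ⊓ J.comap f := by
  ext W : 2
  simp only [Scheme.IdealSheafData.ideal_comap_of_isOpenImmersion,
    Scheme.IdealSheafData.ideal_inf, Pi.inf_apply]
  exact Ideal.comap_inf _ _ _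

theorem comap_iInf (f : X ⟶ Y) [IsOpenImmersion f] {κ : Type*} [Finite κ]
    (I : κ → Y.IdealSheafData) : (⨅ k, I k).comap f = ⨅ k, (I k).comap f := by
  ext W : 2
  rw [Scheme.IdealSheafData.ideal_comap_of_isOpenImmersion, Scheme.IdealSheafData.ideal_iInf,
    Scheme.IdealSheafData.ideal_iInf, iInf_apply, iInf_apply, Ideal.comap_iInf]
  simp [Scheme.IdealSheafData.ideal_comap_of_isOpenImmersion]

theorem comap_map_of_mono (f : X ⟶ Y) [Flat f] [Mono f] [QuasiCompact f] (J : X.IdealSheafData) :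
    (J.map f).comap f = J := by
  have hJ : J.map f = (J.subschemeι ≫ f).ker := rfl
  rw [hJ, ← ker_pullback_fst_eq_comap f (J.subschemeι ≫ f)]
  have sq : IsPullback J.subschemeι (𝟙 _) f (J.subschemeι ≫ f) := by
    simpa using ((IsPullback.of_id_snd (f := J.subschemeι)).paste_horiz
      (IsKernelPair.id_of_mono f))
  rw [← sq.isoPullback_inv_fst, Scheme.Hom.ker_comp_of_isIso, Scheme.IdealSheafData.ker_subschemeι]

theorem bijective_ι_appLE (U : Y.Opens) (h : (⊤ : U.toScheme.Opens) ≤ U.ι ⁻¹ᵁ U) :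
    Function.Bijective (U.ι.appLE U ⊤ h).hom := by
  have hU : U.ι ''ᵁ ⊤ = U := by simp
  rw [Scheme.Opens.ι_appLE, show (homOfLE _ : U.ι ''ᵁ ⊤ ⟶ U) = eqToHom hU from
    Subsingleton.elim _ _]
  exact ConcreteCategory.bijective_of_isIso (Y.presheaf.map (eqToHom hU).op)

/-- Gluing of ideal sheaves given on the affine open subschemes. -/
theorem exists_glue (I : ∀ U : Y.affineOpens, U.1.toScheme.IdealSheafData)
    (h : ∀ (U V : Y.affineOpens) (e : U.1 ≤ V.1), (I V).comap (Y.homOfLE e) = I U) :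
    ∃ K : Y.IdealSheafData, ∀ U : Y.affineOpens, K.comap U.1.ι = I U := by
  have le : ∀ U : Y.affineOpens, (⊤ : U.1.toScheme.Opens) ≤ U.1.ι ⁻¹ᵁ U.1 := fun U ↦ by simp
  let top : ∀ U : Y.affineOpens, U.1.toScheme.affineOpens := fun U ↦
    ⟨⊤, haveI : IsAffine U.1.toScheme := U.2; isAffineOpen_top _⟩
  let φ : ∀ U : Y.affineOpens, Γ(Y, U.1) ⟶ Γ(U.1.toScheme, ⊤) := fun U ↦
    U.1.ι.appLE U.1 ⊤ (le U)
  have hφ : ∀ U, Function.Bijective (φ U).hom := fun U ↦ bijective_ι_appLE _ _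
  let K : ∀ U : Y.affineOpens, Ideal Γ(Y, U.1) := fun U ↦
    ((I U).ideal (top U)).comap (φ U).hom
  have hK : ∀ U, (K U).map (φ U).hom = (I U).ideal (top U) := fun U ↦
    Ideal.map_comap_of_surjective _ (hφ U).surjective _
  have hbasic : ∀ (U : Y.affineOpens) (g : Γ(Y, U.1)),
      (K U).map (Y.presheaf.map (homOfLE (Y.basicOpen_le g)).op).hom =
        K (Y.affineBasicOpen g) := by
    intro U g
    let D := Y.affineBasicOpen g
    have hle : D.1 ≤ U.1 := Y.basicOpen_le g
    let j : D.1.toScheme ⟶ U.1.toScheme := Y.homOfLE hle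
    have e : (Y.presheaf.map (homOfLE hle).op) ≫ φ D = φ U ≫ j.appLE ⊤ ⊤ le_top := by
      rw [Scheme.Hom.map_appLE, Scheme.Hom.appLE_comp_appLE]
      simp [j]
    have e2 := congrArg (fun ψ : Γ(Y, U.1) ⟶ Γ(D.1.toScheme, ⊤) ↦ (K U).map ψ.hom) e
    simp only [CommRingCat.hom_comp, ← Ideal.map_map, hK] at e2
    rw [← EffCartier.comap_ideal (I U) j (top U) (top D) le_top, h D U hle, ← hK D] at e2
    have := congrArg (Ideal.comap (φ D).hom) e2
    rwa [Ideal.comap_map_of_bijective _ (hφ D), Ideal.comap_map_of_bijective _ (hφ D)] at this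
  let 𝓚 : Y.IdealSheafData := { ideal := K, map_ideal_basicOpen := hbasic }
  refine ⟨𝓚, fun U ↦ ?_⟩
  haveI : IsAffine U.1.toScheme := U.2
  refine Scheme.IdealSheafData.ext_of_isAffine ?_
  show (𝓚.comap U.1.ι).ideal (top U) = (I U).ideal (top U)
  rw [EffCartier.comap_ideal 𝓚 U.1.ι U (top U) (le U)]
  exact hK U

section sigma

variable {n : ℕ} (U : Fin n → Scheme.{u}) [∀ k, IsAffine (U k)]

theorem exists_comap_sigma_ι (J : ∀ k, (U k).IdealSheafData) :
    ∃ K : (∐ U).IdealSheafData, ∀ k, K.comap (Sigma.ι U k) = J k := by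
  refine ⟨⨅ k, (J k).map (Sigma.ι U k), fun k ↦ ?_⟩
  rw [comap_iInf]
  refine le_antisymm ((iInf_le _ k).trans (comap_map_of_mono _ _).le) (le_iInf fun j ↦ ?_)
  rcases eq_or_ne j k with rfl | hne
  · exact (comap_map_of_mono _ _).ge
  have : ((J j).map (Sigma.ι U j)).comap (Sigma.ι U k) = ⊤ := by
    rw [← Scheme.IdealSheafData.support_eq_bot_iff, Scheme.IdealSheafData.support_comap,
      eq_bot_iff]
    intro x hx
    have hx' : Sigma.ι U k x ∈
        closure (Sigma.ι U j '' ((J j).support : Set (U j))) := by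
      have := hx
      rwa [Scheme.IdealSheafData.support_map] at this
    have hdis := (disjoint_opensRange_sigmaι U j k hne)
    have hcl := closure_mono (Set.image_subset_range _ _) hx'
    obtain ⟨z, hz, hzj⟩ := mem_closure_iff.1 hcl (Sigma.ι U k).opensRange
      (Sigma.ι U k).opensRange.2 ⟨x, rfl⟩
    exact (disjoint_iff.1 hdis).le ⟨hzj, hz⟩
  rw [this]
  exact le_top

end sigma

variable {S : Scheme.{u}} {ι : Type w} {X : ι → Scheme.{u}} (f : ∀ i, X i ⟶ S)

/-- Every affine open of `S` is covered by finitely many affine opens of the `X i`. -/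
def IsQCCovering : Prop :=
  ∀ V : S.affineOpens, ∃ (n : ℕ) (a : Fin n → ι) (U : ∀ k, (X (a k)).Opens),
    (∀ k, IsAffineOpen (U k)) ∧ ⋃ k, f (a k) '' (U k : Set (X (a k))) = (V.1 : Set S)

theorem flat_and_isQCCovering (hf : Presieve.ofArrows X f ∈ Scheme.fpqcPrecoverage S) :
    (∀ i, Flat (f i)) ∧ IsQCCovering f := by
  let E : PreZeroHypercover.{w} S := ⟨ι, X, f⟩
  have h1 : E.presieve₀ ∈ Scheme.qcPrecoverage S ∧
      E.presieve₀ ∈ Scheme.precoverage @Flat S := hf
  refine ⟨fun i ↦ ((Scheme.ofArrows_mem_precoverage_iff _).1 h1.2).2 i, fun V ↦ ?_⟩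
  haveI : QuasiCompactCover E := Scheme.presieve₀_mem_qcPrecoverage_iff.1 h1.1
  exact QuasiCompactCover.exists_isAffineOpen_of_isCompact E V.2.isCompact

/-- On an affine open, a finite disjoint union of affines covering it. -/
theorem exists_affine_cover (hflat : ∀ i, Flat (f i)) (hqc : IsQCCovering f)
    (V : S.affineOpens) :
    ∃ (n : ℕ) (a : Fin n → ι) (U : Fin n → Scheme.{u}) (_ : ∀ k, IsAffine (U k))
      (x : ∀ k, U k ⟶ X (a k)) (g : ∀ k, U k ⟶ V.1.toScheme),
      (∀ k, g k ≫ V.1.ι = x k ≫ f (a k)) ∧ Flat (Sigma.desc g) ∧ Surjective (Sigma.desc g) ∧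
      IsAffineHom (Sigma.desc g) := by
  obtain ⟨n, a, W, hW, hc⟩ := hqc V
  have hle : ∀ k, W k ≤ f (a k) ⁻¹ᵁ V.1 := fun k z hz ↦ by
    have : f (a k) z ∈ (V.1 : Set S) := hc ▸ Set.mem_iUnion.2 ⟨k, ⟨z, hz, rfl⟩⟩
    exact this
  let g : ∀ k, (W k).toScheme ⟶ V.1.toScheme := fun k ↦ (f (a k)).resLE V.1 (W k) (hle k)
  haveI : ∀ k, IsAffine (W k).toScheme := hW
  haveI : IsAffine V.1.toScheme := V.2
  refine ⟨n, a, fun k ↦ (W k).toScheme, inferInstance, fun k ↦ (W k).ι, g,
    fun k ↦ Scheme.Hom.resLE_comp_ι _ _, ?_, ⟨fun v ↦ ?_⟩, inferInstance⟩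
  · refine IsZariskiLocalAtSource.of_openCover (sigmaOpenCover _) fun (k : Fin n) ↦ ?_
    haveI := hflat (a k)
    show Flat (Sigma.ι (fun k ↦ (W k).toScheme) k ≫ Sigma.desc g)
    rw [Sigma.ι_desc]
    haveI : Flat (g k ≫ V.1.ι) := by
      rw [Scheme.Hom.resLE_comp_ι]; infer_instance
    exact MorphismProperty.of_postcomp (W := @Flat) (W' := @IsOpenImmersion) (g k) V.1.ι
      inferInstance ‹_›
  · have hv : v.1 ∈ (V.1 : Set S) := v.2
    rw [← hc, Set.mem_iUnion] at hv
    obtain ⟨k, z, hz, hzv⟩ := hv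
    refine ⟨Sigma.ι (fun k ↦ (W k).toScheme) k ⟨z, hz⟩, ?_⟩
    rw [← Scheme.Hom.comp_apply, Sigma.ι_desc]
    apply V.1.ι.isOpenEmbedding.injective
    rw [← Scheme.Hom.comp_apply, Scheme.Hom.resLE_comp_ι]
    exact hzv

/-- The ideal sheaf on `V` descends the data `J`. -/
def IsLoc (J : ∀ i, (X i).IdealSheafData) (V : S.Opens) (I : V.toScheme.IdealSheafData) : Prop :=
  ∀ (T : Scheme.{u}) (g : T ⟶ V.toScheme) (i : ι) (x : T ⟶ X i),
    g ≫ V.ι = x ≫ f i → I.comap g = (J i).comap x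

variable (J : ∀ i, (X i).IdealSheafData)
  (hJ : ∀ (T : Scheme.{u}) (i j : ι) (x₀ : T ⟶ X i) (x₁ : T ⟶ X j),
    x₀ ≫ f i = x₁ ≫ f j → (J i).comap x₀ = (J j).comap x₁)

include hJ in
theorem exists_isLoc (hflat : ∀ i, Flat (f i)) (hqc : IsQCCovering f) (V : S.affineOpens) :
    ∃ I, IsLoc f J V.1 I ∧ ∀ I', IsLoc f J V.1 I' → I' = I := by
  obtain ⟨n, a, U, _, x, g, hxg, hπ1, hπ2, hπ3⟩ := exists_affine_cover f hflat hqc V
  let π := Sigma.desc g
  obtain ⟨K, hK⟩ := exists_comap_sigma_ι U fun k ↦ (J (a k)).comap (x k)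
  have hdd : K.comap (pullback.fst π π) = K.comap (pullback.snd π π) := by
    refine ext_openCover
      (Scheme.Pullback.openCoverOfLeftRight (sigmaOpenCover U) (sigmaOpenCover U) π π)
      fun p ↦ ?_
    rw [← Scheme.IdealSheafData.comap_comp, ← Scheme.IdealSheafData.comap_comp]
    let A := pullback (Sigma.ι U p.1 ≫ π) (Sigma.ι U p.2 ≫ π)
    let m : A ⟶ pullback π π :=
      pullback.map _ _ π π (Sigma.ι U p.1) (Sigma.ι U p.2) (𝟙 _) (by simp) (by simp)
    show K.comap (m ≫ pullback.fst π π) = K.comap (m ≫ pullback.snd π π)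
    rw [show m ≫ pullback.fst π π = pullback.fst _ _ ≫ Sigma.ι U p.1 from pullback.lift_fst _ _ _,
      show m ≫ pullback.snd π π = pullback.snd _ _ ≫ Sigma.ι U p.2 from pullback.lift_snd _ _ _, Scheme.IdealSheafData.comap_comp,
      Scheme.IdealSheafData.comap_comp, hK, hK, ← Scheme.IdealSheafData.comap_comp,
      ← Scheme.IdealSheafData.comap_comp]
    apply hJ
    rw [Category.assoc, Category.assoc, ← hxg, ← hxg]
    have := pullback.condition (f := Sigma.ι U p.1 ≫ π) (g := Sigma.ι U p.2 ≫ π)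
    simp only [π, Sigma.ι_desc] at this
    exact (congrArg (· ≫ V.1.ι) this).trans (Category.assoc _ _ _) |> (Category.assoc _ _ _).symm.trans
  have hI : (K.map π).comap π = K := comap_map_of_comap_eq π K hdd
  refine ⟨K.map π, fun T w i y hy ↦ ?_, fun I' hI' ↦ ?_⟩
  · apply comap_injective (pullback.fst w π)
    refine ext_openCover (Scheme.Pullback.openCoverOfRight (sigmaOpenCover U) w π) fun k ↦ ?_
    let A := pullback w (Sigma.ι U k ≫ π)
    let m : A ⟶ pullback w π := pullback.map _ _ w π (𝟙 _) (Sigma.ι U k) (𝟙 _) (by simp) (by simp)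
    show (((K.map π).comap w).comap (pullback.fst w π)).comap m =
      (((J i).comap y).comap (pullback.fst w π)).comap m
    rw [← Scheme.IdealSheafData.comap_comp _ (pullback.fst w π) w, pullback.condition,
      Scheme.IdealSheafData.comap_comp, hI, ← Scheme.IdealSheafData.comap_comp,
      show m ≫ pullback.snd w π = pullback.snd w (Sigma.ι U k ≫ π) ≫ Sigma.ι U k from
        pullback.lift_snd _ _ _,
      Scheme.IdealSheafData.comap_comp, hK, ← Scheme.IdealSheafData.comap_comp,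
      ← Scheme.IdealSheafData.comap_comp, ← Scheme.IdealSheafData.comap_comp,
      show m ≫ pullback.fst w π = pullback.fst w (Sigma.ι U k ≫ π) by
        exact (pullback.lift_fst _ _ _).trans (Category.comp_id _)]
    apply hJ
    rw [Category.assoc, Category.assoc, ← hxg, ← hy, pullback.condition_assoc]
    simp [π]
  · apply comap_injective π
    refine ext_openCover (sigmaOpenCover U) fun k ↦ ?_
    show (I'.comap π).comap (Sigma.ι U k) = ((K.map π).comap π).comap (Sigma.ι U k)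
    rw [hI, hK, ← Scheme.IdealSheafData.comap_comp]
    exact hI' _ _ _ _ (by rw [Sigma.ι_desc]; exact hxg k)

include hJ in
/-- fpqc descent of closed subschemes along a family. -/
theorem exists_descend_family (hflat : ∀ i, Flat (f i)) (hqc : IsQCCovering f) :
    ∃ I : S.IdealSheafData, ∀ i, I.comap (f i) = J i := by
  choose L hL hLu using fun V ↦ exists_isLoc f J hJ hflat hqc V
  obtain ⟨I, hI⟩ := exists_glue L fun V W e ↦ hLu V _ fun T g i x h ↦ by
    rw [← Scheme.IdealSheafData.comap_comp]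
    exact hL W T _ i x (by rw [Category.assoc, Scheme.homOfLE_ι, h])
  refine ⟨I, fun i ↦ ?_⟩
  let c : (X i).OpenCover :=
    (Scheme.openCoverOfIsOpenCover S (fun V : S.affineOpens ↦ V.1)
      (iSup_affineOpens_eq_top S)).pullback₁ (f i)
  refine ext_openCover c fun V ↦ ?_
  rw [← Scheme.IdealSheafData.comap_comp]
  show I.comap (pullback.fst (f i) V.1.ι ≫ f i) = (J i).comap (pullback.fst (f i) V.1.ι)
  rw [pullback.condition, Scheme.IdealSheafData.comap_comp, hI]
  exact hL V _ _ i _ pullback.condition.symm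

variable (hflat : ∀ i, Flat (f i)) (hqc : IsQCCovering f)

include hflat hqc in
/-- Ideal sheaves can be compared on an fpqc covering family. -/
theorem ext_family {I I' : S.IdealSheafData} (h : ∀ i, I.comap (f i) = I'.comap (f i)) :
    I = I' := by
  refine ext_openCover (Scheme.openCoverOfIsOpenCover S (fun V : S.affineOpens ↦ V.1)
    (iSup_affineOpens_eq_top S)) fun (V : S.affineOpens) ↦ ?_
  show I.comap V.1.ι = I'.comap V.1.ι
  have hJ : ∀ (T : Scheme.{u}) (i j : ι) (x₀ : T ⟶ X i) (x₁ : T ⟶ X j),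
      x₀ ≫ f i = x₁ ≫ f j → (I.comap (f i)).comap x₀ = (I.comap (f j)).comap x₁ :=
    fun T i j x₀ x₁ e ↦ by
      rw [← Scheme.IdealSheafData.comap_comp, ← Scheme.IdealSheafData.comap_comp, e]
  obtain ⟨L, -, hu⟩ := exists_isLoc f (fun i ↦ I.comap (f i)) hJ hflat hqc V
  rw [hu (I.comap V.1.ι) fun T g i x e ↦ ?_, hu (I'.comap V.1.ι) fun T g i x e ↦ ?_]
  · show (I'.comap V.1.ι).comap g = (I.comap (f i)).comap x
    rw [h, ← Scheme.IdealSheafData.comap_comp, ← Scheme.IdealSheafData.comap_comp, e]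
  · show (I.comap V.1.ι).comap g = (I.comap (f i)).comap x
    rw [← Scheme.IdealSheafData.comap_comp, ← Scheme.IdealSheafData.comap_comp, e]

include hqc in
theorem exists_eq_apply (s : S) : ∃ i x, f i x = s := by
  obtain ⟨V, hV, hsV, -⟩ := exists_isAffineOpen_mem_and_subset (X := S) (x := s) (U := ⊤) trivial
  obtain ⟨n, a, U, _, hc⟩ := hqc ⟨V, hV⟩
  have : s ∈ ⋃ k, f (a k) '' (U k : Set (X (a k))) := hc ▸ hsV
  obtain ⟨k, x, -, hx⟩ := Set.mem_iUnion.1 this
  exact ⟨a k, x, hx⟩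

include hflat hqc in
theorem pullback_family {T : Scheme.{u}} (g : T ⟶ S) :
    (∀ i, Flat (pullback.fst g (f i))) ∧ IsQCCovering (fun i ↦ pullback.fst g (f i)) := by
  refine ⟨fun i ↦ haveI := hflat i; inferInstance, fun V ↦ ?_⟩
  let E : PreZeroHypercover.{w} S := ⟨ι, X, f⟩
  haveI : QuasiCompactCover E := ⟨fun {U} hU ↦ by
    obtain ⟨n, a, W, hW, hc⟩ := hqc ⟨U, hU⟩
    exact .of_finite a W (fun k ↦ (hW k).isCompact) hc⟩
  exact QuasiCompactCover.exists_isAffineOpen_of_isCompact (E.pullback₁ g) V.2.isCompact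

/-- The open subset descending a compatible family of open subsets. -/
theorem exists_open_descend (hflat : ∀ i, Flat (f i)) (hqc : IsQCCovering f)
    (A : ∀ i, Set (X i)) (hA : ∀ i, IsOpen (A i))
    (hcompat : ∀ (i j : ι) (z : ↥(pullback (f j) (f i))),
      pullback.fst (f j) (f i) z ∈ A j → pullback.snd (f j) (f i) z ∈ A i) :
    ∃ W : S.Opens, ∀ i, f i ⁻¹' (W : Set S) = A i := by
  let W : Set S := ⋃ i, f i '' A i
  have hpre : ∀ i, f i ⁻¹' W = A i := fun i ↦ by
    refine subset_antisymm (fun x hx ↦ ?_) fun x hx ↦ Set.mem_iUnion.2 ⟨i, x, hx, rfl⟩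
    obtain ⟨j, y, hy, hyx⟩ := Set.mem_iUnion.1 hx
    obtain ⟨z, hzy, hzx⟩ := Scheme.Pullback.exists_preimage_pullback (f := f j) (g := f i) y x hyx
    have := hcompat i j z (by rwa [hzy])
    rwa [hzx] at this
  refine ⟨⟨W, isOpen_iff_forall_mem_open.2 fun s hs ↦ ?_⟩, hpre⟩
  obtain ⟨V, hV, hsV, -⟩ := exists_isAffineOpen_mem_and_subset (X := S) (x := s) (U := ⊤) trivial
  refine ⟨W ∩ V, Set.inter_subset_left, ?_, hs, hsV⟩
  obtain ⟨n, a, U, _, x, g, hxg, _, _, _⟩ := exists_affine_cover f hflat hqc ⟨V, hV⟩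
  let π := Sigma.desc g
  have ho : IsOpen (V.ι ⁻¹' W) := by
    rw [← (Flat.isQuotientMap_of_surjective π).isOpen_preimage]
    refine isOpen_iff_forall_mem_open.2 fun z hz ↦ ?_
    obtain ⟨(k : Fin n), y, rfl⟩ := Scheme.Cover.exists_eq (sigmaOpenCover U) z
    change U k at y
    refine ⟨Sigma.ι U k '' (x k ⁻¹' A (a k)), ?_, ?_, y, ?_, rfl⟩
    · rintro _ ⟨w, hw, rfl⟩
      show V.ι (π (Sigma.ι U k w)) ∈ W
      rw [← hpre] at hw
      rw [← Scheme.Hom.comp_apply (Sigma.ι U k) π, Sigma.ι_desc, ← Scheme.Hom.comp_apply, hxg]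
      exact hw
    · exact (Sigma.ι U k).isOpenEmbedding.isOpenMap _ ((hA _).preimage (x k).continuous)
    · show x k y ∈ A (a k)
      rw [← hpre]
      show f (a k) (x k y) ∈ W
      rw [← Scheme.Hom.comp_apply, ← hxg k, Scheme.Hom.comp_apply]
      have hz' : V.ι (π (Sigma.ι U k y)) ∈ W := hz
      rw [← Scheme.Hom.comp_apply (Sigma.ι U k) π, Sigma.ι_desc] at hz'
      exact hz'
  have e : V.ι '' (V.ι ⁻¹' W) = W ∩ V := by
    rw [Set.image_preimage_eq_inter_range, Scheme.Opens.range_ι]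
  rw [← e]
  exact V.ι.isOpenEmbedding.isOpenMap _ ho

include hflat hqc in
/-- Properties of morphisms descend along fpqc covering families. -/
theorem descend_family (P : MorphismProperty Scheme.{u}) [IsZariskiLocalAtTarget P]
    [P.IsStableUnderBaseChange]
    [hP : P.DescendsAlong (@Surjective ⊓ @Flat ⊓ @QuasiCompact : MorphismProperty Scheme.{u})]
    {Z : Scheme.{u}} (p : Z ⟶ S) (h : ∀ i, P (pullback.fst (f i) p)) : P p := by
  refine (IsZariskiLocalAtTarget.iff_of_openCover (P := P)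
    (Scheme.openCoverOfIsOpenCover S (fun V : S.affineOpens ↦ V.1)
      (iSup_affineOpens_eq_top S))).2 fun (V : S.affineOpens) ↦ ?_
  show P (pullback.snd p V.1.ι)
  obtain ⟨n, a, U, _, x, g, hxg, hπ1, hπ2, hπ3⟩ := exists_affine_cover f hflat hqc V
  let π := Sigma.desc g
  refine MorphismProperty.of_pullback_fst_of_descendsAlong (P := P)
    (Q := (@Surjective ⊓ @Flat ⊓ @QuasiCompact : MorphismProperty Scheme.{u})) (f := π)
    ⟨⟨hπ2, hπ1⟩, inferInstance⟩ ?_
  refine (IsZariskiLocalAtTarget.iff_of_openCover (P := P) (sigmaOpenCover U)).2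
    fun (k : Fin n) ↦ ?_
  show P (pullback.snd (pullback.fst π (pullback.snd p V.1.ι)) (Sigma.ι U k))
  have sq1 : IsPullback (pullback.snd (pullback.fst π (pullback.snd p V.1.ι)) (Sigma.ι U k))
      (pullback.fst (pullback.fst π (pullback.snd p V.1.ι)) (Sigma.ι U k) ≫
        pullback.snd π (pullback.snd p V.1.ι) ≫ pullback.fst p V.1.ι)
      (Sigma.ι U k ≫ π ≫ V.1.ι) p :=
    (IsPullback.of_hasPullback _ _).flip.paste_vert
      ((IsPullback.of_hasPullback π (pullback.snd p V.1.ι)).paste_vert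
        (IsPullback.of_hasPullback p V.1.ι).flip)
  have e : Sigma.ι U k ≫ π ≫ V.1.ι = x k ≫ f (a k) := by
    rw [← hxg k, ← Category.assoc, Sigma.ι_desc]
  rw [e] at sq1
  let m := pullback.lift (f := f (a k)) (g := p)
    (pullback.snd (pullback.fst π (pullback.snd p V.1.ι)) (Sigma.ι U k) ≫ x k) _
    (by rw [Category.assoc]; exact sq1.w)
  have sq2 : IsPullback m (pullback.snd (pullback.fst π (pullback.snd p V.1.ι)) (Sigma.ι U k))
      (pullback.fst (f (a k)) p) (x k) := by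
    refine IsPullback.of_right ?_ (pullback.lift_fst _ _ _)
      (IsPullback.of_hasPullback (f (a k)) p).flip
    rw [pullback.lift_snd]
    exact sq1.flip
  exact MorphismProperty.of_isPullback sq2 (h (a k))

end Groth.Agent.GrpQuot.SubDesc
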