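import Groth.Agent.Lib.AlgSpace.Quot
import Groth.Prelude.Def_QuotSh
import Mathlib.CategoryTheory.Sites.RegularEpi
import Mathlib.CategoryTheory.EquivalenceRelation

/-!
# Fppf quotients of equivalence relations: effective iff representing the quotient sheaf
-/

set_option autoImplicit false
set_option linter.style.haveILetI false
set_option backward.isDefEq.respectTransparency.types false
universe u

open CategoryTheory CategoryTheory.Limits AlgebraicGeometry Opposite AlgSp

namespace Groth.Agent.GrpQuot

variable {S : Scheme.{u}} {R U Y : Over S} {s t : R ⟶ U} {q : U ⟶ Y}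

theorem yon_map_repIso {V W : Over S} (g : V ⟶ W) :
    (yon S).map g ≫ (QuotSh.repIsoUliftYoneda Scheme.fppfPrecoverage W).inv =
      (QuotSh.repIsoUliftYoneda Scheme.fppfPrecoverage V).inv ≫ QuotSh.repMap Scheme.fppfPrecoverage g := by
  rw [Iso.eq_inv_comp, ← Category.assoc, Iso.comp_inv_eq]
  apply ObjectProperty.hom_ext
  apply sheafify_hom_ext _ _ _ ((yon S).obj W).property
  simp only [QuotSh.repIsoUliftYoneda, QuotSh.repMap]
  simp [sheafificationIso]
  have k₁ := toSheafify_sheafifyLift (QuotSh.J Scheme.fppfPrecoverage S)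
    (𝟙 ((yon S).obj V).obj) ((yon S).obj V).property
  have k₂ := toSheafify_naturality (QuotSh.J Scheme.fppfPrecoverage S)
    (Functor.whiskerRight (yoneda.map g) uliftFunctor.{u + 1, u})
  refine ((Category.assoc _ _ _).symm.trans ((congrArg (· ≫ ((yon S).map g).hom) k₁).trans
    (Category.id_comp _))).trans ?_
  refine Eq.trans ?_ ((Category.assoc _ _ _).trans rfl)
  refine Eq.trans ?_ (congrArg (· ≫ _) k₂)
  refine Eq.trans ?_ (Category.assoc _ _ _).symm
  refine Eq.trans ?_ (congrArg (_ ≫ ·) (toSheafify_sheafifyLift _ _ ((yon S).obj W).property).symm)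
  exact (Category.comp_id _).symm

theorem yon_map_comp_eq (w : s ≫ q = t ≫ q) :
    (yon S).map s ≫ (yon S).map q = (yon S).map t ≫ (yon S).map q := by
  rw [← Functor.map_comp, ← Functor.map_comp, w]

/-- Being the fppf quotient sheaf is being a coequalizer of representable sheaves. -/
theorem isQuotient_iff (w : s ≫ q = t ≫ q) :
    QuotSh.IsQuotient Scheme.fppfPrecoverage s t q ↔
      Nonempty (IsColimit (Cofork.ofπ ((yon S).map q) (yon_map_comp_eq w))) := by
  obtain ⟨w', ⟨hc⟩⟩ := AlgSpace.nonempty_isColimit_quot s t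
  set p := (QuotSh.repIsoUliftYoneda Scheme.fppfPrecoverage U).inv ≫ QuotSh.quotπ Scheme.fppfPrecoverage s t
  let e : QuotSh.quot Scheme.fppfPrecoverage s t ⟶ (yon S).obj Y :=
    QuotSh.quotDesc Scheme.fppfPrecoverage q w ≫ (QuotSh.repIsoUliftYoneda Scheme.fppfPrecoverage Y).hom
  have hπd : QuotSh.quotπ Scheme.fppfPrecoverage s t ≫ QuotSh.quotDesc Scheme.fppfPrecoverage q w =
      QuotSh.repMap Scheme.fppfPrecoverage q := coequalizer.π_desc _ _
  have hpe : p ≫ e = (yon S).map q := by
    show (_ ≫ _) ≫ _ ≫ _ = _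
    rw [Category.assoc, reassoc_of% hπd, ← Category.assoc, ← yon_map_repIso, Category.assoc, Iso.inv_hom_id,
      Category.comp_id]
  constructor
  · rintro ⟨_, hiso⟩
    haveI : IsIso e := by haveI := hiso; infer_instance
    exact ⟨IsColimit.ofIsoColimit hc (Cofork.ext (asIso e) hpe)⟩
  · rintro ⟨hq⟩
    refine ⟨w, ?_⟩
    have he : e = (hc.coconePointUniqueUpToIso hq).hom :=
      Cofork.IsColimit.hom_ext hc (hpe.trans (hc.comp_coconePointUniqueUpToIso_hom hq WalkingParallelPair.one).symm)
    haveI : IsIso e := he ▸ inferInstance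
    exact IsIso.of_isIso_comp_right (QuotSh.quotDesc Scheme.fppfPrecoverage q w)
      (QuotSh.repIsoUliftYoneda Scheme.fppfPrecoverage Y).hom

/-- An fppf cover is the quotient of its kernel pair. -/
theorem isQuotient_of_isKernelPair (hk : IsKernelPair q s t) [Flat q.left] [Surjective q.left]
    [LocallyOfFinitePresentation q.left] : QuotSh.IsQuotient Scheme.fppfPrecoverage s t q := by
  refine (isQuotient_iff hk.w).2 ?_
  haveI hls : Sheaf.IsLocallySurjective ((yon S).map q) :=
    AlgSpace.isLocallySurjective_of_lifts _ fun T g => by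
      obtain ⟨g', rfl⟩ := (yon S).map_surjective g
      refine ⟨pullback q g', pullback.snd q g', (yon S).map (pullback.fst q g'), ?_, ?_, ?_, ?_⟩
      any_goals
        have sq := ((IsPullback.of_hasPullback q g').map (Over.forget S)).flip
        first
          | exact MorphismProperty.of_isPullback (P := @Flat) sq.flip ‹_›
          | exact MorphismProperty.of_isPullback (P := @Surjective) sq.flip ‹_›
          | exact MorphismProperty.of_isPullback (P := @LocallyOfFinitePresentation) sq.flip ‹_›
      rw [← Functor.map_comp, ← Functor.map_comp, pullback.condition]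
  haveI : Epi ((yon S).map q) := (CategoryTheory.Sheaf.isLocallySurjective_iff_epi _).1 hls
  haveI : IsRegularEpi ((yon S).map q) := IsRegularEpiCategory.regularEpiOfEpi _
  exact ⟨IsKernelPair.toCoequalizer' (IsPullback.map (yon S) hk : IsKernelPair ((yon S).map q) _ _)⟩

theorem isEqvRel_of_isEquivalenceRelation [IsEquivalenceRelation s t] : IsEqvRel s t := by
  obtain ⟨h⟩ := (‹IsEquivalenceRelation s t›).nonempty_equivalenceRelation
  refine ⟨fun T r r' e₁ e₂ => h.right_cancellation r r' e₂ e₁, fun T => ⟨fun a => ?_, ?_, ?_⟩⟩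
  · exact ⟨a ≫ h.r, by simp, by simp⟩
  · rintro a b ⟨r, rfl, rfl⟩
    exact ⟨r ≫ h.s, by rw [Category.assoc, SymmetricRelation.symmetry₂ h.toSymmetricRelation],
      by rw [Category.assoc, SymmetricRelation.symmetry₁ h.toSymmetricRelation]⟩
  · rintro a b c ⟨r, rfl, rfl⟩ ⟨r', h1, rfl⟩
    refine ⟨PullbackCone.IsLimit.lift h.isLimit r' r h1 ≫ h.t, ?_, ?_⟩
    · rw [Category.assoc, TransitiveRelation.transitivity₂ h.toTransitiveRelation, PullbackCone.IsLimit.lift_snd_assoc]
    · rw [Category.assoc, TransitiveRelation.transitivity₁ h.toTransitiveRelation, PullbackCone.IsLimit.lift_fst_assoc]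

/-- A quotient of an fppf equivalence relation is an fppf cover with that kernel pair. -/
theorem isKernelPair_of_isQuotient (h : IsEqvRel s t) (hq : QuotSh.IsQuotient Scheme.fppfPrecoverage s t q)
    [Flat s.left] [Surjective s.left] [LocallyOfFinitePresentation s.left] :
    IsKernelPair q s t ∧ Flat q.left ∧ Surjective q.left ∧ LocallyOfFinitePresentation q.left := by
  obtain ⟨w, -⟩ := id hq
  obtain ⟨hc⟩ := (isQuotient_iff w).1 hq
  have sq := AlgSpace.isPullback_of_isEqvRel h _ hc
  haveI : Epi ((yon S).map q) := Cofork.IsColimit.epi hc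
  haveI : Sheaf.IsLocallySurjective ((yon S).map q) := (CategoryTheory.Sheaf.isLocallySurjective_iff_epi _).2 ‹_›
  have hk : IsPullback t s q q := IsPullback.of_map (yon S) (by rw [w]) sq
  haveI := AlgSpace.isLocalAtTarget_fppf (@Flat : MorphismProperty Scheme.{u})
  haveI := AlgSpace.isLocalAtTarget_fppf (@Surjective : MorphismProperty Scheme.{u})
  haveI := AlgSpace.isLocalAtTarget_fppf (@LocallyOfFinitePresentation : MorphismProperty Scheme.{u})
  have hrep : ∀ (P : MorphismProperty Scheme.{u}) [P.IsStableUnderBaseChange]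
      [P.IsLocalAtTarget Scheme.fppfPrecoverage], P s.left → P q.left := by
    intro P _ _ hs
    have hr : Representable ((yon S).map q) :=
      ((AlgSpace.repWith_yon_iff (P := ⊤) _).2 trivial).1
    exact (repWith_yon_map_iff _ _).1
      (AlgSpace.repWith_of_locallySurjective hr sq P ((repWith_yon_map_iff _ _).2 hs))
  exact ⟨hk.flip, hrep _ ‹_›, hrep _ ‹_›, hrep _ ‹_›⟩

end Groth.Agent.GrpQuot
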