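import Groth.Agent.Lib.GrpQuot.Affine
import Groth.Agent.Lib.FinEtQuot.Algebra
import Mathlib.AlgebraicGeometry.Morphisms.QuasiFinite

/-!
# Invariant affine neighbourhoods
-/

set_option autoImplicit false
set_option linter.style.haveILetI false
set_option backward.isDefEq.respectTransparency.types false
universe u

open CategoryTheory CategoryTheory.Limits AlgebraicGeometry TopologicalSpace

namespace Groth.Agent.GrpQuot

open Groth.Agent.GrpdB

variable {S : Scheme.{u}} (G : Grpd.GroupoidScheme S)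

/-- The largest invariant subset of `D`. -/
def core (D : Set G.U) : Set G.U := (G.t '' (G.s ⁻¹' Dᶜ))ᶜ

variable {G}

theorem mem_core {D : Set G.U} {u : G.U} : u ∈ core G D ↔ ∀ r : G.R, G.t r = u → G.s r ∈ D :=
  ⟨fun h r hr => by_contra fun hn => h ⟨r, hn, hr⟩, fun h ⟨r, hn, hr⟩ => hn (h r hr)⟩

theorem core_subset (D : Set G.U) : core G D ⊆ D := fun u hu => by_contra fun hn => hu (subset_saturation _ hn)

theorem core_invariant (D : Set G.U) : G.s ⁻¹' core G D = G.t ⁻¹' core G D := by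
  exact congrArg (fun s : Set G.R => sᶜ) (saturation_invariant Dᶜ)

theorem isOpen_core [IsFinite G.t] {D : Set G.U} (hD : IsOpen D) : IsOpen (core G D) :=
  (G.t.isClosedMap _ (hD.isClosed_compl.preimage G.s.continuous)).isOpen_compl

theorem finite_orbit [IsFinite G.s] (u : G.U) : (G.t '' (G.s ⁻¹' {u})).Finite :=
  (G.s.finite_preimage_singleton u).image _

/-- A function on an affine open, supported in a given open, and non-vanishing at finitely many points. -/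
theorem exists_basicOpen_mem_finite {X : Scheme.{u}} {V : X.Opens} (hV : IsAffineOpen V) {P : Set X}
    (hP : P.Finite) (V' : X.Opens) (hle : V' ≤ V) (hPV : P ⊆ V') :
    ∃ f : Γ(X, V), X.basicOpen f ≤ V' ∧ P ⊆ X.basicOpen f := by
  classical
  let C : Set (Spec Γ(X, V)) := hV.fromSpec ⁻¹' (V' : Set X)ᶜ
  obtain ⟨I, hI⟩ := (PrimeSpectrum.isClosed_iff_zeroLocus_ideal _).1 (V'.2.isClosed_compl.preimage hV.fromSpec.continuous)
  have hI' : ∀ w, hV.fromSpec w ∉ V' ↔ (I : Set Γ(X, V)) ⊆ w.asIdeal := fun w => (Set.ext_iff.1 hI w).trans Iff.rfl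
  haveI := hP.fintype
  let q : P → PrimeSpectrum Γ(X, V) := fun x => hV.primeIdealOf ⟨x.1, hle (hPV x.2)⟩
  have hnot : ∀ x : P, ¬ I ≤ (q x).asIdeal := by
    intro x hle'
    refine (hI' (q x)).2 hle' ?_
    rw [hV.fromSpec_primeIdealOf]
    exact hPV x.2
  have hns : ¬ ((I : Set Γ(X, V)) ⊆ ⋃ x ∈ (Finset.univ : Finset P), ((q x).asIdeal : Set Γ(X, V))) := by
    rw [show (⋃ x ∈ (Finset.univ : Finset P), ((q x).asIdeal : Set Γ(X, V))) =
      ⋃ x ∈ ((Finset.univ : Finset P) : Set P), ((q x).asIdeal : Set Γ(X, V)) by simp]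
    intro hsub
    rcases isEmpty_or_nonempty P with hemp | ⟨⟨x₀⟩⟩
    · have := hsub I.zero_mem
      simp at this
    · obtain ⟨x, -, hx⟩ := (Ideal.subset_union_prime (f := fun x => (q x).asIdeal) x₀ x₀
        (fun x _ _ _ => (q x).isPrime)).1 hsub
      exact hnot x hx
  obtain ⟨f, hf, hfP⟩ := Set.not_subset.1 hns
  refine ⟨f, fun z hz => ?_, fun x hx => ?_⟩
  · by_contra hn
    have hzV : z ∈ V := X.basicOpen_le f hz
    have := (hI' (hV.primeIdealOf ⟨z, hzV⟩)).1 (by rw [hV.fromSpec_primeIdealOf]; exact hn)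
    have hmem : hV.primeIdealOf ⟨z, hzV⟩ ∈ hV.fromSpec ⁻¹ᵁ X.basicOpen f := by
      show hV.fromSpec _ ∈ X.basicOpen f
      rw [hV.fromSpec_primeIdealOf]; exact hz
    rw [hV.fromSpec_preimage_basicOpen] at hmem
    exact hmem (this hf)
  · have hxV : x ∈ V := hle (hPV hx)
    have hmem : hV.primeIdealOf ⟨x, hxV⟩ ∈ PrimeSpectrum.basicOpen f := fun hfx =>
      hfP (Set.mem_biUnion (x := (⟨x, hx⟩ : P)) (by simp) hfx)
    rw [← hV.fromSpec_preimage_basicOpen] at hmem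
    have h2 : hV.fromSpec (hV.primeIdealOf ⟨x, hxV⟩) ∈ X.basicOpen f := hmem
    rwa [hV.fromSpec_primeIdealOf] at h2

/-- Along a finite locally free morphism, the locus over an affine open whose fibres avoid the zeros of a
function is affine. -/
theorem isAffineOpen_of_forall_fibre {X Y : Scheme.{u}} (g : X ⟶ Y) [IsFinite g] [Flat g]
    [LocallyOfFinitePresentation g] {D : Y.Opens} (hD : IsAffineOpen D) (b : Γ(X, g ⁻¹ᵁ D)) (W : Y.Opens)
    (hW : ∀ y, y ∈ W ↔ y ∈ D ∧ ∀ r, g r = y → r ∈ X.basicOpen b) : IsAffineOpen W := by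
  have hB : IsAffineOpen (g ⁻¹ᵁ D) := hD.preimage g
  letI := (g.app D).hom.toAlgebra
  have : Module.Finite Γ(Y, D) Γ(X, g ⁻¹ᵁ D) := RingHom.finite_algebraMap.1 (g.finite_app D hD)
  have : Module.Flat Γ(Y, D) Γ(X, g ⁻¹ᵁ D) := by
    have h := HasRingHomProperty.appLE (P := @Flat) g ‹_› ⟨D, hD⟩ ⟨_, hB⟩ le_rfl
    rw [← Scheme.Hom.app_eq_appLE] at h
    exact RingHom.flat_algebraMap_iff.1 h
  have : Algebra.FinitePresentation Γ(Y, D) Γ(X, g ⁻¹ᵁ D) := by
    have h := HasRingHomProperty.appLE (P := @LocallyOfFinitePresentation) g ‹_› ⟨D, hD⟩ ⟨_, hB⟩ le_rfl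
    rw [← Scheme.Hom.app_eq_appLE] at h
    exact h
  have : Module.FinitePresentation Γ(Y, D) Γ(X, g ⁻¹ᵁ D) :=
    Module.FinitePresentation.of_finite_of_finitePresentation _ _
  have : Module.Projective Γ(Y, D) Γ(X, g ⁻¹ᵁ D) := Module.Flat.projective_of_finitePresentation
  obtain ⟨h, hh⟩ := FinEtQuot.exists_forall_notMem_iff (A := Γ(Y, D)) b
  suffices W = Y.basicOpen h by rw [this]; exact hD.basicOpen h
  have hcomap : ∀ (r : X) (hr : r ∈ g ⁻¹ᵁ D),
      (hB.primeIdealOf ⟨r, hr⟩).comap (algebraMap Γ(Y, D) Γ(X, g ⁻¹ᵁ D)) = hD.primeIdealOf ⟨g r, hr⟩ := fun r hr => by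
    rw [← IsAffineOpen.comap_primeIdealOf_appLE D hD (g ⁻¹ᵁ D) hB le_rfl hr]
    simp [RingHom.algebraMap_toAlgebra, Scheme.Hom.app_eq_appLE]
  have hbasic : ∀ {Z : Scheme.{u}} {V : Z.Opens} (hV : IsAffineOpen V) (f : Γ(Z, V)) (z : Z) (hz : z ∈ V),
      z ∈ Z.basicOpen f ↔ f ∉ (hV.primeIdealOf ⟨z, hz⟩).asIdeal := by
    intro Z V hV f z hz
    rw [← PrimeSpectrum.mem_basicOpen, ← hV.fromSpec_preimage_basicOpen]
    show _ ↔ hV.fromSpec _ ∈ Z.basicOpen f
    rw [hV.fromSpec_primeIdealOf]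
  ext y
  rw [SetLike.mem_coe, SetLike.mem_coe, hW]
  constructor
  · rintro ⟨hy, hall⟩
    rw [hbasic hD h y hy, hh]
    intro q hq
    have hr : hB.fromSpec q ∈ g ⁻¹ᵁ D := hB.range_fromSpec.subset ⟨q, rfl⟩
    have hq' : hB.primeIdealOf ⟨_, hr⟩ = q :=
      hB.fromSpec.isOpenEmbedding.injective (hB.fromSpec_primeIdealOf _)
    have := hcomap _ hr
    rw [hq', hq] at this
    have e : g (hB.fromSpec q) = y := (congrArg Subtype.val ((hD.isoSpec.hom.homeomorph.injective this))).symm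
    have hb := (hbasic hB b _ hr).1 (hall _ e)
    rwa [hq'] at hb
  · intro hy
    have hyD : y ∈ D := Y.basicOpen_le h hy
    refine ⟨hyD, fun r hr => ?_⟩
    subst hr
    rw [hbasic hD h _ hyD, hh] at hy
    rw [hbasic hB b r hyD]
    exact hy _ (hcomap r hyD)

theorem exists_invariant_affine [IsFinite G.s] [Flat G.s] [LocallyOfFinitePresentation G.s] (u : G.U)
    (V : G.U.Opens) (hV : IsAffineOpen V) (huV : ∀ r : G.R, G.s r = u → G.t r ∈ V) :
    ∃ W : G.U.Opens, IsAffineOpen W ∧ u ∈ W ∧ W ≤ V ∧ G.s ⁻¹ᵁ W = G.t ⁻¹ᵁ W := by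
  haveI := isFinite_t G
  haveI := flat_t G
  haveI := lfp_t G
  let V' : G.U.Opens := ⟨core G V, isOpen_core V.2⟩
  let P : Set G.U := G.t '' (G.s ⁻¹' {u})
  have hPV : P ⊆ V' := by
    rintro _ ⟨r₀, hr₀, rfl⟩
    refine mem_core.2 fun r hr => ?_
    obtain ⟨z, hz₁, hz₂⟩ := exists_comp_point (G.i r) r₀ (by rw [s_i]; exact hr)
    rw [t_i] at hz₁
    rw [← hz₁]
    exact huV z (hz₂.trans hr₀)
  obtain ⟨f, hfV', hfP⟩ := exists_basicOpen_mem_finite hV (finite_orbit u) V' (core_subset _) hPV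
  set D := G.U.basicOpen f
  let W : G.U.Opens := ⟨core G D, isOpen_core D.2⟩
  have hWD : W ≤ D := core_subset _
  refine ⟨W, ?_, ?_, hWD.trans (G.U.basicOpen_le f), Opens.ext (core_invariant _)⟩
  · have hsub : G.t ⁻¹ᵁ D ≤ G.s ⁻¹ᵁ V := fun r hr => by
      have : r ∈ G.t ⁻¹' core G V := hfV' hr
      rw [← core_invariant] at this
      exact core_subset _ this
    refine isAffineOpen_of_forall_fibre G.t (hV.basicOpen f) (G.s.appLE V (G.t ⁻¹ᵁ D) hsub f) W fun y => ?_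
    rw [Scheme.Hom.appLE, CommRingCat.comp_apply, Scheme.basicOpen_res, ← Scheme.preimage_basicOpen]
    constructor
    · exact fun hy => ⟨hWD hy, fun r hr => ⟨show G.t r ∈ D from hr ▸ hWD hy, mem_core.1 hy r hr⟩⟩
    · rintro ⟨-, hall⟩
      exact mem_core.2 fun r hr => (hall r hr).2
  · refine mem_core.2 fun r hr => hfP ⟨G.i r, ?_, t_i r⟩
    show G.s (G.i r) = u
    rw [s_i, hr]

end Groth.Agent.GrpQuot
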