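import Groth.Prelude.Def_QuotSh
import Mathlib.CategoryTheory.Sites.LocallyBijective
import Mathlib.CategoryTheory.Sites.RegularEpi
import Mathlib.CategoryTheory.EquivalenceRelation

/-!
# Classes in the quotient sheaf of an equivalence relation, for any topology
-/

set_option autoImplicit false
set_option linter.style.haveILetI false
set_option backward.isDefEq.respectTransparency.types false
universe u

open CategoryTheory CategoryTheory.Limits AlgebraicGeometry Opposite

namespace Groth.Agent.GrpQuot.QuotSheaf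

variable {K : Precoverage Scheme.{u}} {S : Scheme.{u}}

variable (K) in
theorem repMap_comp {A B C : Over S} (f : A ⟶ B) (g : B ⟶ C) :
    QuotSh.repMap K (f ≫ g) = QuotSh.repMap K f ≫ QuotSh.repMap K g := by
  show (presheafToSheaf _ _).map _ = _
  rw [Functor.map_comp, Functor.whiskerRight_comp, Functor.map_comp]

/-- The tautological element. -/
def gen (T : Over S) : (yoneda.obj T ⋙ uliftFunctor.{u + 1, u}).obj (op T) := ULift.up (𝟙 T)

theorem map_gen {T T' : Over S} (a : T' ⟶ T) :
    (yoneda.obj T ⋙ uliftFunctor.{u + 1, u}).map a.op (gen T) = ULift.up a :=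
  congrArg ULift.up (Category.comp_id a)

theorem app_gen {T T' : Over S} (a : T' ⟶ T) :
    (Functor.whiskerRight (yoneda.map a) uliftFunctor.{u + 1, u}).app (op T') (gen T') =
      ULift.up a :=
  congrArg ULift.up (Category.id_comp a)

/-- The element corresponding to a map out of a representable sheaf. -/
noncomputable def el {T : Over S} {F : QuotSh.Sh K S} (g : QuotSh.rep K T ⟶ F) :
    F.obj.obj (op T) :=
  g.hom.app (op T) ((toSheafify (QuotSh.J K S) (yoneda.obj T ⋙ uliftFunctor.{u + 1, u})).app (op T)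
    (gen T))

theorem el_injective {T : Over S} {F : QuotSh.Sh K S} :
    Function.Injective (el : (QuotSh.rep K T ⟶ F) → _) := fun g g' h ↦ by
  apply ObjectProperty.hom_ext
  apply sheafify_hom_ext _ _ _ F.property
  ext T' ⟨a⟩
  have hn := fun (φ : QuotSh.rep K T ⟶ F) ↦
    NatTrans.naturality_apply (toSheafify (QuotSh.J K S)
      (yoneda.obj T ⋙ uliftFunctor.{u + 1, u}) ≫ φ.hom) a.op (gen T)
  have e₁ := hn g
  have e₂ := hn g'
  simp only [el] at h
  rw [map_gen] at e₁ e₂
  simp only [NatTrans.comp_app, CategoryTheory.comp_apply] at e₁ e₂ ⊢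
  rw [h] at e₁
  exact e₁.trans e₂.symm

theorem el_comp {T : Over S} {F G : QuotSh.Sh K S} (g : QuotSh.rep K T ⟶ F) (h : F ⟶ G) :
    el (g ≫ h) = h.hom.app (op T) (el g) := rfl

theorem el_repMap_comp {T T' : Over S} (a : T' ⟶ T) {F : QuotSh.Sh K S}
    (g : QuotSh.rep K T ⟶ F) :
    el (QuotSh.repMap K a ≫ g) = F.obj.map a.op (el g) := by
  show g.hom.app (op T') ((QuotSh.repMap K a).hom.app (op T') _) = _
  have h1 := congr($(toSheafify_naturality (QuotSh.J K S)
    (Functor.whiskerRight (yoneda.map a) uliftFunctor.{u + 1, u})).app (op T') (gen T'))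
  simp only [NatTrans.comp_app, CategoryTheory.comp_apply] at h1
  have h2 := NatTrans.naturality_apply (toSheafify (QuotSh.J K S)
      (yoneda.obj T ⋙ uliftFunctor.{u + 1, u}) ≫ g.hom) a.op (gen T)
  simp only [NatTrans.comp_app, CategoryTheory.comp_apply] at h2
  rw [app_gen] at h1
  rw [map_gen] at h2
  exact (congrArg (g.hom.app (op T')) h1).symm.trans h2

/-- Maps out of a representable sheaf are local. -/
theorem hom_ext_local {T : Over S} {F : QuotSh.Sh K S} (g g' : QuotSh.rep K T ⟶ F) (W : Sieve T)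
    (hW : W ∈ QuotSh.J K S T)
    (h : ∀ ⦃T' : Over S⦄ (f : T' ⟶ T), W f → QuotSh.repMap K f ≫ g = QuotSh.repMap K f ≫ g') :
    g = g' := by
  refine el_injective (((isSheaf_iff_isSheaf_of_type _ _).1 F.property W hW).isSeparatedFor.ext
    fun T' f hf ↦ ?_)
  rw [← el_repMap_comp, ← el_repMap_comp, h f hf]

variable {R U : Over S} {s t : R ⟶ U}

variable (K s t) in
/-- The class of a point. -/
noncomputable def cls {T : Over S} (a : T ⟶ U) : QuotSh.rep K T ⟶ QuotSh.quot K s t :=
  QuotSh.repMap K a ≫ QuotSh.quotπ K s t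

theorem repMap_cls {T T' : Over S} (f : T' ⟶ T) (a : T ⟶ U) :
    QuotSh.repMap K f ≫ cls K s t a = cls K s t (f ≫ a) := by
  rw [cls, cls, repMap_comp, Category.assoc]

theorem cls_eq_of_rel {T : Over S} {a b : T ⟶ U} (r : T ⟶ R) (h₁ : r ≫ s = a) (h₂ : r ≫ t = b) :
    cls K s t a = cls K s t b := by
  subst h₁ h₂
  rw [cls, cls, repMap_comp, repMap_comp, Category.assoc, Category.assoc, QuotSh.quot_condition]

/-- Maps to the quotient sheaf lift locally. -/
theorem exists_local_lift {T : Over S} (σ : QuotSh.rep K T ⟶ QuotSh.quot K s t) :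
    ∃ W ∈ QuotSh.J K S T, ∀ ⦃T' : Over S⦄ (f : T' ⟶ T), (W : Sieve T) f →
      ∃ u : T' ⟶ U, QuotSh.repMap K f ≫ σ = cls K s t u := by
  haveI : Epi (QuotSh.quotπ K s t) :=
    inferInstanceAs (Epi (coequalizer.π (QuotSh.repMap K s) (QuotSh.repMap K t)))
  haveI hls : Sheaf.IsLocallySurjective (QuotSh.quotπ K s t) :=
    (Sheaf.isLocallySurjective_iff_epi _).2 ‹_›
  haveI : Presheaf.IsLocallySurjective (QuotSh.J K S) (QuotSh.quotπ K s t).hom := hls
  let π₀ := toSheafify (QuotSh.J K S) (yoneda.obj U ⋙ uliftFunctor.{u + 1, u}) ≫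
    (QuotSh.quotπ K s t).hom
  haveI : Presheaf.IsLocallySurjective (QuotSh.J K S) π₀ := Presheaf.isLocallySurjective_comp _ _ _
  refine ⟨Presheaf.imageSieve π₀ (el σ), Presheaf.imageSieve_mem _ π₀ _, ?_⟩
  rintro T' f ⟨⟨u⟩, hu⟩
  refine ⟨u, el_injective ?_⟩
  rw [el_repMap_comp, ← hu, cls, el_repMap_comp]
  have h2 := NatTrans.naturality_apply π₀ u.op (gen U)
  rw [map_gen] at h2
  exact h2

section eqv

variable [IsEquivalenceRelation s t]

theorem injective_of_eqv {T : Over S} (r r' : T ⟶ R) (h₁ : r ≫ s = r' ≫ s)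
    (h₂ : r ≫ t = r' ≫ t) : r = r' :=
  (‹IsEquivalenceRelation s t›).nonempty_equivalenceRelation.some.right_cancellation r r' h₁ h₂

theorem equivalence_of_eqv (T : Over S) :
    Equivalence fun a b : T ⟶ U ↦ ∃ r : T ⟶ R, r ≫ s = a ∧ r ≫ t = b := by
  obtain ⟨h⟩ := (‹IsEquivalenceRelation s t›).nonempty_equivalenceRelation
  refine ⟨fun a ↦ ⟨a ≫ h.r, by simp, by simp⟩, ?_, ?_⟩
  · rintro a b ⟨r, rfl, rfl⟩
    exact ⟨r ≫ h.s, by rw [Category.assoc, SymmetricRelation.symmetry₁ h.toSymmetricRelation],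
      by rw [Category.assoc, SymmetricRelation.symmetry₂ h.toSymmetricRelation]⟩
  · rintro a b c ⟨r, rfl, rfl⟩ ⟨r', h1, rfl⟩
    refine ⟨PullbackCone.IsLimit.lift h.isLimit r r' h1.symm ≫ h.t, ?_, ?_⟩
    · rw [Category.assoc, TransitiveRelation.transitivity₁ h.toTransitiveRelation,
        PullbackCone.IsLimit.lift_fst_assoc]
    · rw [Category.assoc, TransitiveRelation.transitivity₂ h.toTransitiveRelation,
        PullbackCone.IsLimit.lift_snd_assoc]

variable (s t) in
/-- The setoid of an equivalence relation on points. -/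
def setoid (T : Over S) : Setoid (T ⟶ U) := ⟨_, equivalence_of_eqv (s := s) (t := t) T⟩

variable (s t) in
/-- The presheaf quotient. -/
def quotPre : (Over S)ᵒᵖ ⥤ Type (u + 1) where
  obj T := ULift.{u + 1} (Quotient (setoid s t T.unop))
  map {T T'} f := TypeCat.ofHom fun x => ⟨Quotient.map (sa := setoid s t T.unop)
    (sb := setoid s t T'.unop) (fun a => f.unop ≫ a) (by
      rintro a b ⟨r, rfl, rfl⟩
      exact ⟨f.unop ≫ r, Category.assoc _ _ _, Category.assoc _ _ _⟩) x.down⟩
  map_id T := by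
    ext ⟨x⟩
    induction x using Quotient.ind with
    | _ a => simp
  map_comp f g := by
    ext ⟨x⟩
    induction x using Quotient.ind with
    | _ a => simp

variable (s t) in
/-- The presheaf quotient map. -/
def quotPreπ : yoneda.obj U ⋙ uliftFunctor.{u + 1, u} ⟶ quotPre s t where
  app T := TypeCat.ofHom fun x => ⟨Quotient.mk (setoid s t T.unop) x.down⟩
  naturality _ _ _ := rfl

/-- Points with the same class are related. -/
theorem exists_rel_of_cls_eq [(QuotSh.J K S).Subcanonical] {T : Over S} {a b : T ⟶ U}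
    (e : cls K s t a = cls K s t b) : ∃ r : T ⟶ R, r ≫ s = a ∧ r ≫ t = b := by
  let J := QuotSh.J K S
  let Q := quotPre s t
  let m : QuotSh.rep K U ⟶ (presheafToSheaf J (Type (u + 1))).obj Q :=
    (presheafToSheaf J _).map (quotPreπ s t)
  have hm : QuotSh.repMap K s ≫ m = QuotSh.repMap K t ≫ m := by
    rw [← Functor.map_comp, ← Functor.map_comp]
    congr 1
    ext T ⟨r⟩
    exact congrArg ULift.up (Quotient.sound ⟨r, rfl, rfl⟩)
  have hπ : QuotSh.quotπ K s t ≫ coequalizer.desc m hm = m := coequalizer.π_desc _ _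
  have e' : QuotSh.repMap K a ≫ m = QuotSh.repMap K b ≫ m := by
    rw [← hπ]
    exact (Category.assoc _ _ _).symm.trans
      ((congrArg (· ≫ coequalizer.desc m hm) e).trans (Category.assoc _ _ _))
  have key : ∀ x : T ⟶ U, el (QuotSh.repMap K x ≫ m) =
      (toSheafify J Q).app (op T) ⟨Quotient.mk (setoid s t T) x⟩ := fun x ↦ by
    rw [el_repMap_comp]
    have h1 := congr($(toSheafify_naturality J (quotPreπ s t)).app (op U) (gen U))
    simp only [NatTrans.comp_app, CategoryTheory.comp_apply] at h1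
    have h2 := NatTrans.naturality_apply (toSheafify J Q) x.op
      ((quotPreπ s t).app (op U) (gen U))
    refine (congrArg _ h1).symm.trans (h2.symm.trans (congrArg _ ?_))
    show ULift.up _ = ULift.up _
    simp [quotPreπ, gen]
  have e'' := congrArg el e'
  rw [key, key] at e''
  have hJ := Presheaf.equalizerSieve_mem J (toSheafify J Q) _ _ e''
  let E := Presheaf.equalizerSieve (F := Q) (X := op T) ⟨Quotient.mk (setoid s t T) a⟩
    ⟨Quotient.mk (setoid s t T) b⟩
  have hE : ∀ ⦃T' : Over S⦄ (f : T' ⟶ T), E f → ∃ r : T' ⟶ R, r ≫ s = f ≫ a ∧ r ≫ t = f ≫ b :=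
    fun T' f hf => Quotient.exact (congrArg ULift.down hf)
  choose r hr₁ hr₂ using hE
  have hy : ∀ V : Over S, Presieve.IsSheaf J (yoneda.obj V) := fun V ↦
    GrothendieckTopology.Subcanonical.isSheaf_of_isRepresentable _
  let x : Presieve.FamilyOfElements (yoneda.obj R) E.arrows := fun T' f hf => r f hf
  have hx : x.Compatible := fun Y₁ Y₂ Z g₁ g₂ f₁ f₂ h₁ h₂ ee => by
    refine injective_of_eqv (s := s) (t := t) _ _ ?_ ?_
    · change (g₁ ≫ r f₁ h₁) ≫ s = (g₂ ≫ r f₂ h₂) ≫ s
      rw [Category.assoc, hr₁, ← Category.assoc, ee, Category.assoc, Category.assoc, hr₁]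
    · change (g₁ ≫ r f₁ h₁) ≫ t = (g₂ ≫ r f₂ h₂) ≫ t
      rw [Category.assoc, hr₂, ← Category.assoc, ee, Category.assoc, Category.assoc, hr₂]
  have hR := hy R E hJ
  have hU := (hy U E hJ).isSeparatedFor
  refine ⟨hR.amalgamate x hx, hU.ext fun T' f hf => ?_, hU.ext fun T' f hf => ?_⟩
  · change f ≫ hR.amalgamate x hx ≫ s = f ≫ a
    rw [← Category.assoc, show f ≫ hR.amalgamate x hx = r f hf from hR.valid_glue hx f hf, hr₁]
  · change f ≫ hR.amalgamate x hx ≫ t = f ≫ b
    rw [← Category.assoc, show f ≫ hR.amalgamate x hx = r f hf from hR.valid_glue hx f hf, hr₂]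

end eqv

end Groth.Agent.GrpQuot.QuotSheaf
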