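import Groth.Agent.Lib.GrpQuot.SubDescFam
import Groth.Agent.Lib.GrpQuot.QuotSheaf
import Groth.Agent.Lib.FpqcDesc.Basic
import Mathlib.AlgebraicGeometry.Morphisms.LocalFlatDescent
import Mathlib.AlgebraicGeometry.Pullbacks
import Mathlib.CategoryTheory.Sites.SubcanonicalOver

/-!
# Sections of fpqc quotient sheaves and stable subschemes of `U × T`
-/

set_option autoImplicit false
set_option linter.style.haveILetI false
set_option backward.isDefEq.respectTransparency.types false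
universe w u

open CategoryTheory CategoryTheory.Limits AlgebraicGeometry MonoidalCategory CartesianMonoidalCategory
open Groth.Agent.GrpQuot.SubDesc Groth.Agent.GrpQuot.QuotSheaf

namespace Groth.Agent.GrpQuot.QuotSection

theorem flat_codescendsAlong :
    RingHom.CodescendsAlong RingHom.Flat RingHom.FaithfullyFlat := by
  refine .mk _ RingHom.Flat.respectsIso fun R S T _ _ _ _ _ h h' => ?_
  rw [RingHom.flat_algebraMap_iff] at h' ⊢
  rw [RingHom.faithfullyFlat_algebraMap_iff] at h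
  exact Module.Flat.of_flat_tensorProduct R T S

theorem descendsAlong_flat : MorphismProperty.DescendsAlong @Flat.{u}
    (@Surjective ⊓ @Flat ⊓ @QuasiCompact) :=
  HasRingHomProperty.descendsAlong_flat flat_codescendsAlong

theorem closedImmersion_factors_iff {Z P A : Scheme.{u}} (i : Z ⟶ P) [IsClosedImmersion i]
    (z : A ⟶ P) : (∃ w : A ⟶ Z, w ≫ i = z) ↔ i.ker.comap z = ⊥ := by
  refine ⟨fun ⟨w, hw⟩ ↦ ?_, fun h ↦ ?_⟩
  · subst hw
    rw [eq_bot_iff, ← Scheme.IdealSheafData.le_map_iff_comap_le, Scheme.IdealSheafData.map_bot]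
    exact Scheme.Hom.le_ker_comp w i
  · have hle : i.ker ≤ z.ker := by
      rw [← Scheme.IdealSheafData.map_bot z, Scheme.IdealSheafData.le_map_iff_comap_le, h]
    exact ⟨IsClosedImmersion.lift i z hle, IsClosedImmersion.lift_fac _ _ _⟩

theorem openImmersion_factors_iff {Z P A : Scheme.{u}} (i : Z ⟶ P) [IsOpenImmersion i]
    (z : A ⟶ P) : (∃ w : A ⟶ Z, w ≫ i = z) ↔ Set.range z ⊆ Set.range i := by
  refine ⟨fun ⟨w, hw⟩ ↦ ?_, fun h ↦
    ⟨IsOpenImmersion.lift i z h, IsOpenImmersion.lift_fac _ _ _⟩⟩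
  subst hw
  rw [Scheme.Hom.comp_base, TopCat.coe_comp]
  exact Set.range_comp_subset_range _ _

theorem over_factors {S : Scheme.{u}} {A B C : Over S} (i : B ⟶ C) (z : A ⟶ C) :
    (∃ w : A ⟶ B, w ≫ i = z) ↔ ∃ w : A.left ⟶ B.left, w ≫ i.left = z.left := by
  refine ⟨fun ⟨w, hw⟩ ↦ ⟨w.left, by rw [← Over.comp_left, hw]⟩, fun ⟨w, hw⟩ ↦ ?_⟩
  exact ⟨Over.homMk w (by rw [← Over.w i, ← Category.assoc, hw, Over.w z]),
    Over.OverMorphism.ext hw⟩

/-! ### Predicates on points which are local for an fpqc covering family -/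

section descent

variable {S : Scheme.{u}} {P : Over S} {ι : Type w} {W : ι → Over S} (a : ∀ i, W i ⟶ P)
  (hflat : ∀ i, Flat (a i).left) (hqc : IsQCCovering fun i ↦ (a i).left)
  {Z : ι → Over S} (j : ∀ i, Z i ⟶ W i)
  (E : ∀ ⦃A : Over S⦄, (A ⟶ P) → Prop)

/-- `E` is the functor of a subobject which is given on the members of a covering family. -/
structure IsSubLoc : Prop where
  fac : ∀ ⦃A : Over S⦄ (i : ι) (x : A ⟶ W i), (∃ w : A ⟶ Z i, w ≫ j i = x) ↔ E (x ≫ a i)
  pre : ∀ ⦃A B : Over S⦄ (h : A ⟶ B) (z : B ⟶ P), E z → E (h ≫ z)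
  loc : ∀ ⦃A : Over S⦄ (z : A ⟶ P),
    (∀ ⦃B : Over S⦄ (h : B ⟶ A) (i : ι) (x : B ⟶ W i), h ≫ z = x ≫ a i → E (h ≫ z)) → E z

variable {a j E} (H : IsSubLoc a j E)

include H in
theorem fac_left {T : Scheme.{u}} {i k : ι} (x₀ : T ⟶ (W i).left) (x₁ : T ⟶ (W k).left)
    (h : x₀ ≫ (a i).left = x₁ ≫ (a k).left) :
    (∃ w : T ⟶ (Z i).left, w ≫ (j i).left = x₀) →
      ∃ w : T ⟶ (Z k).left, w ≫ (j k).left = x₁ := by
  intro hx
  let A : Over S := Over.mk (x₀ ≫ (W i).hom)
  let y₀ : A ⟶ W i := Over.homMk x₀ rfl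
  let y₁ : A ⟶ W k := Over.homMk x₁ (by
    show x₁ ≫ (W k).hom = x₀ ≫ (W i).hom
    rw [← Over.w (a i), ← Over.w (a k), ← Category.assoc, ← Category.assoc, h])
  have e : y₀ ≫ a i = y₁ ≫ a k := Over.OverMorphism.ext h
  have := (H.fac i y₀).1 ((over_factors (j i) y₀).2 hx)
  rw [e] at this
  exact (over_factors (j k) y₁).1 ((H.fac k y₁).2 this)

include H hflat hqc in
theorem exists_closed_of_isSubLoc (hj : ∀ i, IsClosedImmersion (j i).left) :
    ∃ (Z₀ : Over S) (i₀ : Z₀ ⟶ P), IsClosedImmersion i₀.left ∧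
      ∀ ⦃A : Over S⦄ (z : A ⟶ P), (∃ w : A ⟶ Z₀, w ≫ i₀ = z) ↔ E z := by
  haveI := hj
  obtain ⟨I, hI⟩ := exists_descend_family (fun i ↦ (a i).left) (fun i ↦ (j i).left.ker)
    (fun T i k x₀ x₁ h ↦ by
      rw [← Scheme.IdealSheafData.ker_fst_of_isClosedImmersion,
        ← Scheme.IdealSheafData.ker_fst_of_isClosedImmersion]
      have key : ∀ {i k : ι} (x₀ : T ⟶ (W i).left) (x₁ : T ⟶ (W k).left),
          x₀ ≫ (a i).left = x₁ ≫ (a k).left →
          (pullback.fst x₁ (j k).left).ker ≤ (pullback.fst x₀ (j i).left).ker := by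
        intro i k x₀ x₁ h
        obtain ⟨w, hw⟩ := fac_left H (pullback.fst x₀ (j i).left ≫ x₀)
          (pullback.fst x₀ (j i).left ≫ x₁) (by rw [Category.assoc, Category.assoc, h])
          ⟨pullback.snd _ _, pullback.condition.symm⟩
        rw [← pullback.lift_fst (f := x₁) (g := (j k).left) _ w hw.symm]
        exact Scheme.Hom.le_ker_comp _ _
      exact le_antisymm (key x₁ x₀ h.symm) (key x₀ x₁ h)) hflat hqc
  let Z₀ : Over S := Over.mk (I.subschemeι ≫ P.hom)
  let i₀ : Z₀ ⟶ P := Over.homMk I.subschemeι rfl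
  haveI : IsClosedImmersion i₀.left := inferInstanceAs (IsClosedImmersion I.subschemeι)
  have hker : i₀.left.ker = I := I.ker_subschemeι
  refine ⟨Z₀, i₀, inferInstance, fun A z ↦ ?_⟩
  rw [over_factors, closedImmersion_factors_iff, hker]
  constructor
  · intro hz
    refine H.loc z fun B h i x e ↦ ?_
    rw [e]
    refine (H.fac i x).1 ((over_factors _ _).2 ((closedImmersion_factors_iff _ _).2 ?_))
    rw [← hI i, ← Scheme.IdealSheafData.comap_comp, ← Over.comp_left, ← e, Over.comp_left,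
      Scheme.IdealSheafData.comap_comp, hz, Scheme.IdealSheafData.comap_bot]
  · intro hz
    obtain ⟨h1, h2⟩ := pullback_family (fun i ↦ (a i).left) hflat hqc z.left
    refine ext_family _ h1 h2 fun i ↦ ?_
    rw [Scheme.IdealSheafData.comap_bot, ← Scheme.IdealSheafData.comap_comp, pullback.condition,
      Scheme.IdealSheafData.comap_comp, hI, ← closedImmersion_factors_iff]
    let B : Over S := Over.mk (pullback.fst z.left (a i).left ≫ A.hom)
    let h : B ⟶ A := Over.homMk (pullback.fst z.left (a i).left) rfl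
    let x : B ⟶ W i := Over.homMk (pullback.snd z.left (a i).left) (by
      show _ = pullback.fst z.left (a i).left ≫ A.hom
      rw [← Over.w (a i), ← Over.w z, pullback.condition_assoc])
    have e : h ≫ z = x ≫ a i := Over.OverMorphism.ext pullback.condition
    exact (over_factors (j i) x).1 ((H.fac i x).2 (e ▸ H.pre h z hz))

include H hflat hqc in
theorem exists_open_of_isSubLoc (hj : ∀ i, IsOpenImmersion (j i).left) :
    ∃ (Z₀ : Over S) (i₀ : Z₀ ⟶ P), IsOpenImmersion i₀.left ∧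
      ∀ ⦃A : Over S⦄ (z : A ⟶ P), (∃ w : A ⟶ Z₀, w ≫ i₀ = z) ↔ E z := by
  haveI := hj
  obtain ⟨V, hV⟩ := exists_open_descend (fun i ↦ (a i).left) hflat hqc
    (fun i ↦ Set.range (j i).left) (fun i ↦ (j i).left.isOpenEmbedding.isOpen_range)
    fun i k p hp ↦ by
      let p₁ := pullback.fst (a k).left (a i).left
      let p₂ := pullback.snd (a k).left (a i).left
      obtain ⟨w, hw⟩ := fac_left H (pullback.fst p₁ (j k).left ≫ p₁)
        (pullback.fst p₁ (j k).left ≫ p₂)
        (by rw [Category.assoc, Category.assoc]; exact congrArg _ pullback.condition)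
        ⟨pullback.snd _ _, pullback.condition.symm⟩
      have hp' : p ∈ Set.range (pullback.fst p₁ (j k).left) := by
        rw [Scheme.Pullback.range_fst]; exact hp
      obtain ⟨q, hq⟩ := hp'
      exact ⟨w q, by rw [← Scheme.Hom.comp_apply, hw, Scheme.Hom.comp_apply, hq]⟩
  let Z₀ : Over S := Over.mk (V.ι ≫ P.hom)
  let i₀ : Z₀ ⟶ P := Over.homMk V.ι rfl
  haveI : IsOpenImmersion i₀.left := inferInstanceAs (IsOpenImmersion V.ι)
  have hr : Set.range i₀.left = V := Scheme.Opens.range_ι V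
  refine ⟨Z₀, i₀, inferInstance, fun A z ↦ ?_⟩
  rw [over_factors, openImmersion_factors_iff, hr]
  constructor
  · intro hz
    refine H.loc z fun B h i x e ↦ ?_
    rw [e]
    refine (H.fac i x).1 ((over_factors _ _).2 ((openImmersion_factors_iff _ _).2 ?_))
    rintro _ ⟨b, rfl⟩
    rw [← hV i]
    show (a i).left (x.left b) ∈ (V : Set _)
    rw [← Scheme.Hom.comp_apply, ← Over.comp_left, ← e, Over.comp_left, Scheme.Hom.comp_apply]
    exact hz ⟨_, rfl⟩
  · rintro hz _ ⟨y, rfl⟩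
    obtain ⟨h1, h2⟩ := pullback_family (fun i ↦ (a i).left) hflat hqc z.left
    obtain ⟨i, q, hq⟩ := exists_eq_apply _ h2 y
    let B : Over S := Over.mk (pullback.fst z.left (a i).left ≫ A.hom)
    let h : B ⟶ A := Over.homMk (pullback.fst z.left (a i).left) rfl
    let x : B ⟶ W i := Over.homMk (pullback.snd z.left (a i).left) (by
      show _ = pullback.fst z.left (a i).left ≫ A.hom
      rw [← Over.w (a i), ← Over.w z, pullback.condition_assoc])
    have e : h ≫ z = x ≫ a i := Over.OverMorphism.ext pullback.condition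
    obtain ⟨w, hw⟩ := (over_factors (j i) x).1 ((H.fac i x).2 (e ▸ H.pre h z hz))
    have hm : x.left q ∈ Set.range (j i).left :=
      ⟨w q, by rw [← Scheme.Hom.comp_apply, hw]⟩
    rw [← hV i] at hm
    show z.left y ∈ (V : Set _)
    rw [← hq, ← Scheme.Hom.comp_apply, pullback.condition, Scheme.Hom.comp_apply]
    exact hm

end descent

/-! ### Sections of the quotient sheaf -/

section quot

variable {S : Scheme.{u}} {R U : Over S} (s t : R ⟶ U) [IsEquivalenceRelation s t] (T : Over S)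
  (σ : QuotSh.rep Scheme.fpqcPrecoverage T ⟶ QuotSh.quot Scheme.fpqcPrecoverage s t)

/-- The points `(u, τ)` with `u` in the class `σ τ`. -/
def Mem ⦃A : Over S⦄ (z : A ⟶ U ⊗ T) : Prop :=
  cls Scheme.fpqcPrecoverage s t (z ≫ fst U T) =
    QuotSh.repMap Scheme.fpqcPrecoverage (z ≫ snd U T) ≫ σ

variable {s t T σ}

theorem mem_comp {A B : Over S} (h : A ⟶ B) (z : B ⟶ U ⊗ T) (hz : Mem s t T σ z) :
    Mem s t T σ (h ≫ z) := by
  unfold Mem at hz ⊢
  rw [Category.assoc, Category.assoc, ← repMap_cls, hz, repMap_comp _ h (z ≫ snd U T),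
    Category.assoc]

theorem mem_s_iff_mem_t {A : Over S} (r : A ⟶ R ⊗ T) :
    Mem s t T σ (r ≫ (s ▷ T)) ↔ Mem s t T σ (r ≫ (t ▷ T)) := by
  unfold Mem
  simp only [Category.assoc, whiskerRight_fst, whiskerRight_snd]
  rw [cls_eq_of_rel (K := Scheme.fpqcPrecoverage) (s := s) (t := t) (r ≫ fst R T)
    (Category.assoc _ _ _) (Category.assoc _ _ _)]

theorem rel_of_mem {A : Over S} {z₁ z₂ : A ⟶ U ⊗ T} (h₁ : Mem s t T σ z₁) (h₂ : Mem s t T σ z₂)
    (e : z₁ ≫ snd U T = z₂ ≫ snd U T) :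
    ∃ r : A ⟶ R, r ≫ s = z₁ ≫ fst U T ∧ r ≫ t = z₂ ≫ fst U T := by
  refine exists_rel_of_cls_eq (K := Scheme.fpqcPrecoverage) ?_
  rw [h₁, h₂, e]

variable (s t T σ)

/-- The data needed: a covering of `T` with lifts of `σ`. -/
structure Lifting where
  ι : Type (u + 1)
  X : ι → Scheme.{u}
  f : ∀ i, X i ⟶ T.left
  flat : ∀ i, Flat (f i)
  qc : IsQCCovering f
  u : ∀ i, Over.mk (f i ≫ T.hom) ⟶ U
  hu : ∀ i, QuotSh.repMap Scheme.fpqcPrecoverage
      (Over.homMk (f i) rfl : Over.mk (f i ≫ T.hom) ⟶ T) ≫ σ =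
    cls Scheme.fpqcPrecoverage s t (u i)
  mem : Sieve.generate (Presieve.ofArrows X f) ∈ Scheme.fpqcTopology T.left

theorem nonempty_lifting : Nonempty (Lifting s t T σ) := by
  obtain ⟨W, hW, hlift⟩ := exists_local_lift σ
  obtain ⟨R', hR', hle⟩ := Precoverage.mem_toGrothendieck_iff_of_isStableUnderComposition.1
    ((GrothendieckTopology.mem_over_iff _ W).1 hW)
  obtain ⟨ι, X, f, rfl⟩ := R'.exists_eq_ofArrows
  obtain ⟨hfl, hqc⟩ := flat_and_isQCCovering f hR'
  have hm : ∀ i, ∃ u : Over.mk (f i ≫ T.hom) ⟶ U, QuotSh.repMap Scheme.fpqcPrecoverage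
      (Over.homMk (f i) rfl : Over.mk (f i ≫ T.hom) ⟶ T) ≫ σ =
      cls Scheme.fpqcPrecoverage s t u := fun i ↦ by
    exact hlift _ ((Sieve.overEquiv_iff W (f i)).1 (hle _ _ ⟨i⟩))
  choose u hu using hm
  exact ⟨⟨ι, X, f, hfl, hqc, u, hu, Precoverage.generate_mem_toGrothendieck hR'⟩⟩

variable {s t T σ} (L : Lifting s t T σ)

/-- `(U × T) ×_T T_i`. -/
noncomputable abbrev piece (i : L.ι) : Over S :=
  Over.mk (pullback.fst (snd U T).left (L.f i) ≫ (U ⊗ T).hom)

noncomputable abbrev pieceTo (i : L.ι) : piece L i ⟶ U ⊗ T :=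
  Over.homMk (pullback.fst (snd U T).left (L.f i)) rfl

noncomputable abbrev pieceV (i : L.ι) : piece L i ⟶ Over.mk (L.f i ≫ T.hom) :=
  Over.homMk (pullback.snd (snd U T).left (L.f i)) (by
    show pullback.snd _ _ ≫ L.f i ≫ T.hom = pullback.fst _ _ ≫ (U ⊗ T).hom
    rw [← Over.w (snd U T), pullback.condition_assoc])

theorem piece_sq (i : L.ι) :
    pieceTo L i ≫ snd U T = pieceV L i ≫ Over.homMk (L.f i) rfl :=
  Over.OverMorphism.ext pullback.condition

noncomputable abbrev pairMap (i : L.ι) : piece L i ⟶ U ⊗ U :=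
  lift (pieceV L i ≫ L.u i) (pieceTo L i ≫ fst U T)

noncomputable abbrev subPiece (i : L.ι) : pullback (pairMap L i) (lift t s) ⟶ piece L i :=
  pullback.fst _ _

theorem mem_iff {A : Over S} (i : L.ι) (x : A ⟶ piece L i) :
    Mem s t T σ (x ≫ pieceTo L i) ↔
      ∃ r : A ⟶ R, r ≫ s = x ≫ pieceTo L i ≫ fst U T ∧ r ≫ t = x ≫ pieceV L i ≫ L.u i := by
  have e : QuotSh.repMap Scheme.fpqcPrecoverage ((x ≫ pieceTo L i) ≫ snd U T) ≫ σ =
      cls Scheme.fpqcPrecoverage s t (x ≫ pieceV L i ≫ L.u i) := by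
    rw [Category.assoc, piece_sq, ← Category.assoc x, repMap_comp, Category.assoc, L.hu,
      repMap_cls, Category.assoc]
  unfold Mem
  rw [e, Category.assoc]
  exact ⟨exists_rel_of_cls_eq (K := Scheme.fpqcPrecoverage),
    fun ⟨r, h1, h2⟩ ↦ cls_eq_of_rel r h1 h2⟩

theorem isSubLoc : IsSubLoc (pieceTo L) (subPiece L) (Mem s t T σ) where
  fac A i x := by
    rw [mem_iff]
    constructor
    · rintro ⟨w, rfl⟩
      have e := congrArg (w ≫ ·) (pullback.condition (f := pairMap L i) (g := lift t s))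
      refine ⟨w ≫ pullback.snd _ _, ?_, ?_⟩
      · simpa using (congrArg (· ≫ snd U U) e).symm
      · simpa using (congrArg (· ≫ fst U U) e).symm
    · rintro ⟨r, h1, h2⟩
      exact ⟨pullback.lift x r (by ext1 <;> simp [h1, h2]), pullback.lift_fst _ _ _⟩
  pre A B h z hz := mem_comp h z hz
  loc A z hz := by
    unfold Mem
    let W₀ : Sieve T := (Sieve.overEquiv T).symm (Sieve.generate (Presieve.ofArrows L.X L.f))
    have hW₀ : W₀ ∈ QuotSh.J Scheme.fpqcPrecoverage S T :=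
      GrothendieckTopology.overEquiv_symm_mem_over _ T _ L.mem
    refine hom_ext_local _ _ _
      ((QuotSh.J Scheme.fpqcPrecoverage S).pullback_stable (z ≫ snd U T) hW₀) fun B h hh ↦ ?_
    obtain ⟨Y, k, _, ⟨i⟩, hk⟩ := (Sieve.overEquiv_symm_iff _ _).1
      (show (Sieve.overEquiv T).symm (Sieve.generate (Presieve.ofArrows L.X L.f))
        (h ≫ z ≫ snd U T) from hh)
    have hk' : k ≫ L.f i = (h ≫ z).left ≫ (snd U T).left := by
      rw [hk]; simp
    let x : B ⟶ piece L i := Over.homMk (pullback.lift (h ≫ z).left k hk'.symm) (by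
      show pullback.lift _ _ _ ≫ pullback.fst _ _ ≫ (U ⊗ T).hom = B.hom
      rw [pullback.lift_fst_assoc, Over.w (h ≫ z)])
    have e : h ≫ z = x ≫ pieceTo L i :=
      Over.OverMorphism.ext (pullback.lift_fst _ _ _).symm
    have := hz h i x e
    unfold Mem at this
    rw [repMap_cls, ← Category.assoc, ← Category.assoc, ← repMap_comp, ← Category.assoc]
    exact this

include L in
theorem flat_piece : (∀ i, Flat (pieceTo L i).left) ∧
    IsQCCovering fun i ↦ (pieceTo L i).left :=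
  pullback_family L.f L.flat L.qc (snd U T).left

theorem exists_closed (hc : IsClosedImmersion (lift t s).left) :
    ∃ (Z : Over S) (i : Z ⟶ U ⊗ T), IsClosedImmersion i.left ∧
      ∀ ⦃A : Over S⦄ (z : A ⟶ U ⊗ T), (∃ w : A ⟶ Z, w ≫ i = z) ↔ Mem s t T σ z := by
  obtain ⟨L⟩ := nonempty_lifting s t T σ
  refine exists_closed_of_isSubLoc (flat_piece L).1 (flat_piece L).2 (isSubLoc L) fun i ↦ ?_
  exact MorphismProperty.of_isPullback (P := @IsClosedImmersion)
    ((IsPullback.of_hasPullback (pairMap L i) (lift t s)).map (Over.forget S)).flip hc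

theorem exists_open (hc : IsOpenImmersion (lift t s).left) :
    ∃ (Z : Over S) (i : Z ⟶ U ⊗ T), IsOpenImmersion i.left ∧
      ∀ ⦃A : Over S⦄ (z : A ⟶ U ⊗ T), (∃ w : A ⟶ Z, w ≫ i = z) ↔ Mem s t T σ z := by
  obtain ⟨L⟩ := nonempty_lifting s t T σ
  refine exists_open_of_isSubLoc (flat_piece L).1 (flat_piece L).2 (isSubLoc L) fun i ↦ ?_
  exact MorphismProperty.of_isPullback (P := @IsOpenImmersion)
    ((IsPullback.of_hasPullback (pairMap L i) (lift t s)).map (Over.forget S)).flip hc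

theorem property_left_t (P : MorphismProperty Scheme.{u}) [P.RespectsIso] (hs : P s.left) :
    P t.left := by
  obtain ⟨h⟩ := (‹IsEquivalenceRelation s t›).nonempty_equivalenceRelation
  have e1 : h.s ≫ s = t := SymmetricRelation.symmetry₁ h.toSymmetricRelation
  have e2 : h.s ≫ t = s := SymmetricRelation.symmetry₂ h.toSymmetricRelation
  have hinv : h.s ≫ h.s = 𝟙 R := injective_of_eqv (s := s) (t := t) _ _
    (by rw [Category.assoc, e1, e2, Category.id_comp])
    (by rw [Category.assoc, e2, e1, Category.id_comp])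
  haveI : IsIso h.s.left := by
    refine ⟨h.s.left, ?_, ?_⟩ <;> rw [← Over.comp_left, hinv, Over.id_left]
  rw [← e1, Over.comp_left, P.cancel_left_of_respectsIso]
  exact hs

/-- Properties of `s` are inherited by the projection to `T`. -/
theorem property_snd {Z : Over S} (i₀ : Z ⟶ U ⊗ T) [Mono i₀]
    (hZ : ∀ ⦃A : Over S⦄ (z : A ⟶ U ⊗ T), (∃ w : A ⟶ Z, w ≫ i₀ = z) ↔ Mem s t T σ z)
    (P : MorphismProperty Scheme.{u}) [IsZariskiLocalAtTarget P]
    [P.IsStableUnderBaseChange]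
    [P.DescendsAlong (@Surjective ⊓ @Flat ⊓ @QuasiCompact : MorphismProperty Scheme.{u})]
    (hs : P s.left) : P (i₀ ≫ snd U T).left := by
  obtain ⟨L⟩ := nonempty_lifting s t T σ
  refine descend_family L.f L.flat L.qc P _ fun i ↦ ?_
  let v : Over.mk (L.f i ≫ T.hom) ⟶ T := Over.homMk (L.f i) rfl
  have hw : Mem s t T σ
      (lift (pullback.fst t (L.u i) ≫ s) (pullback.snd t (L.u i) ≫ v)) := by
    unfold Mem
    rw [lift_fst, lift_snd, repMap_comp, Category.assoc, L.hu, repMap_cls]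
    exact cls_eq_of_rel _ rfl pullback.condition
  obtain ⟨w, hw'⟩ := (hZ _).2 hw
  have sq : IsPullback (pullback.snd t (L.u i)) w v (i₀ ≫ snd U T) := by
    have hcomm : pullback.snd t (L.u i) ≫ v = w ≫ i₀ ≫ snd U T := by
      rw [← Category.assoc, hw', lift_snd]
    have key : ∀ c : PullbackCone v (i₀ ≫ snd U T), ∃ r : c.pt ⟶ R,
        r ≫ t = c.fst ≫ L.u i ∧ r ≫ s = c.snd ≫ i₀ ≫ fst U T := fun c ↦ by
      have hm : Mem s t T σ (c.snd ≫ i₀) := (hZ _).1 ⟨c.snd, rfl⟩
      unfold Mem at hm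
      rw [Category.assoc, Category.assoc, ← c.condition, repMap_comp, Category.assoc, L.hu,
        repMap_cls] at hm
      obtain ⟨r, h1, h2⟩ := exists_rel_of_cls_eq (K := Scheme.fpqcPrecoverage) hm
      exact ⟨r, h2, h1⟩
    choose r hr₁ hr₂ using key
    refine ⟨⟨hcomm⟩, ⟨PullbackCone.IsLimit.mk _ (fun c ↦ pullback.lift (r c) c.fst (hr₁ c))
      (fun c ↦ pullback.lift_snd _ _ _) (fun c ↦ ?_) fun c m hm₁ hm₂ ↦ ?_⟩⟩
    · rw [← cancel_mono i₀, Category.assoc, hw']
      ext1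
      · rw [Category.assoc, lift_fst, pullback.lift_fst_assoc, hr₂, Category.assoc]
      · rw [Category.assoc, lift_snd, pullback.lift_snd_assoc, c.condition, Category.assoc]
    · refine pullback.hom_ext ?_ (by rw [pullback.lift_snd, hm₁])
      rw [pullback.lift_fst]
      refine injective_of_eqv (s := s) (t := t) _ _ ?_ ?_
      · rw [hr₂, ← hm₂, Category.assoc, Category.assoc, ← Category.assoc w i₀, hw', lift_fst]
      · rw [hr₁, Category.assoc, pullback.condition, ← Category.assoc, hm₁]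
  have h1 : P (pullback.snd t (L.u i)).left :=
    MorphismProperty.of_isPullback ((IsPullback.of_hasPullback t (L.u i)).map (Over.forget S))
      (property_left_t P hs)
  have sq' := sq.map (Over.forget S)
  have e : sq'.isoPullback.inv ≫ (pullback.snd t (L.u i)).left =
      pullback.fst (L.f i) (i₀ ≫ snd U T).left := sq'.isoPullback_inv_fst
  rw [← e]
  exact MorphismProperty.RespectsIso.precomp P sq'.isoPullback.inv _ h1

/-- Stable subobjects with faithfully flat projection, in the class `σ`, agree up to a cover. -/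
theorem exists_cover_factor {Z Z' : Over S} (i : Z ⟶ U ⊗ T) (i' : Z' ⟶ U ⊗ T)
    (hst : ∀ (T' : Over S) (r : T' ⟶ R ⊗ T),
      (∃ z : T' ⟶ Z', z ≫ i' = r ≫ (s ▷ T)) ↔ (∃ z : T' ⟶ Z', z ≫ i' = r ≫ (t ▷ T)))
    (hf : Flat (i' ≫ snd U T).left) (hsu : Surjective (i' ≫ snd U T).left)
    (hσ : Mem s t T σ i) (hσ' : Mem s t T σ i') :
    ∃ (A : Over S) (p : A ⟶ Z) (q : A ⟶ Z'), Flat p.left ∧ Surjective p.left ∧
      q ≫ i' = p ≫ i := by
  let A := pullback (i ≫ snd U T) (i' ≫ snd U T)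
  let p : A ⟶ Z := pullback.fst _ _
  let q : A ⟶ Z' := pullback.snd _ _
  have hpq : (p ≫ i) ≫ snd U T = (q ≫ i') ≫ snd U T := by
    rw [Category.assoc, Category.assoc]; exact pullback.condition
  obtain ⟨r, h1, h2⟩ := rel_of_mem (mem_comp q i' hσ') (mem_comp p i hσ) hpq.symm
  obtain ⟨z, hz⟩ := (hst A (lift r ((q ≫ i') ≫ snd U T))).1 ⟨q, by
    ext1 <;> simp [h1]⟩
  refine ⟨A, p, z, ?_, ?_, ?_⟩
  · exact MorphismProperty.of_isPullback (P := @Flat)
      ((IsPullback.of_hasPullback (i ≫ snd U T) (i' ≫ snd U T)).map (Over.forget S)).flip hf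
  · exact MorphismProperty.of_isPullback (P := @Surjective)
      ((IsPullback.of_hasPullback (i ≫ snd U T) (i' ≫ snd U T)).map (Over.forget S)).flip hsu
  · rw [hz]
    ext1 <;> simp [h2, hpq, Category.assoc] <;> simpa using hpq.symm

theorem factor_of_cover_closed {Z Z' A P : Over S} (i : Z ⟶ P) (i' : Z' ⟶ P)
    [IsClosedImmersion i'.left] (p : A ⟶ Z) (q : A ⟶ Z') [Flat p.left] [Surjective p.left]
    (e : q ≫ i' = p ≫ i) : ∃ w : Z ⟶ Z', w ≫ i' = i := by
  rw [over_factors, closedImmersion_factors_iff]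
  apply comap_injective p.left
  show (i'.left.ker.comap i.left).comap p.left = (⊥ : Z.left.IdealSheafData).comap p.left
  rw [Scheme.IdealSheafData.comap_bot, ← Scheme.IdealSheafData.comap_comp,
    ← closedImmersion_factors_iff]
  exact ⟨q.left, by rw [← Over.comp_left, e, Over.comp_left]⟩

theorem factor_of_cover_open {Z Z' A P : Over S} (i : Z ⟶ P) (i' : Z' ⟶ P)
    [IsOpenImmersion i'.left] (p : A ⟶ Z) (q : A ⟶ Z') [Surjective p.left]
    (e : q ≫ i' = p ≫ i) : ∃ w : Z ⟶ Z', w ≫ i' = i := by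
  rw [over_factors, openImmersion_factors_iff]
  rintro _ ⟨y, rfl⟩
  obtain ⟨x, rfl⟩ := p.left.surjective y
  exact ⟨q.left x, by
    rw [← Scheme.Hom.comp_apply, ← Over.comp_left, e, Over.comp_left, Scheme.Hom.comp_apply]⟩

end quot

end Groth.Agent.GrpQuot.QuotSection
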