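import Groth.Agent.Lib.FinQuot.Main
import Mathlib.LinearAlgebra.Eigenspace.Minpoly
import Mathlib.LinearAlgebra.Matrix.Charpoly.Eigs
import Mathlib.Algebra.MvPolynomial.Funext
import Mathlib.FieldTheory.IsAlgClosed.Basic

/-!
# Finite locally free groupoids on affine schemes: invariants and orbits

No injectivity of `(s, t)` is assumed.
-/

set_option autoImplicit false
set_option linter.style.haveILetI false
universe u

namespace Groth.Agent.GrpQuot

open Groth.Agent.FinQuot TensorProduct Matrix

variable {A B : Type u} [CommRing A] [CommRing B] [Algebra A B]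

/-- A groupoid `Spec B ⇉ Spec A` with source `algebraMap A B` and target `t`, on points. -/
structure GrpR (t : A →+* B) where
  /-- `mul φ ψ` is `φ` after `ψ` -/
  mul : ∀ {L : Type u} [CommRing L] (φ ψ : B →+* L), φ.comp (algebraMap A B) = ψ.comp t → (B →+* L)
  mul_s : ∀ {L : Type u} [CommRing L] (φ ψ : B →+* L) (h : φ.comp (algebraMap A B) = ψ.comp t),
    (mul φ ψ h).comp (algebraMap A B) = ψ.comp (algebraMap A B)
  mul_t : ∀ {L : Type u} [CommRing L] (φ ψ : B →+* L) (h : φ.comp (algebraMap A B) = ψ.comp t),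
    (mul φ ψ h).comp t = φ.comp t
  comp_mul : ∀ {L L' : Type u} [CommRing L] [CommRing L'] (g : L →+* L') (φ ψ : B →+* L)
    (h : φ.comp (algebraMap A B) = ψ.comp t),
    g.comp (mul φ ψ h) = mul (g.comp φ) (g.comp ψ) (by rw [RingHom.comp_assoc, h, RingHom.comp_assoc])
  one : B →+* A
  one_s : one.comp (algebraMap A B) = RingHom.id A
  one_t : one.comp t = RingHom.id A
  inv : B →+* B
  inv_s : inv.comp (algebraMap A B) = t
  inv_t : inv.comp t = algebraMap A B
  cancel : ∀ {L : Type u} [CommRing L] (χ ψ : B →+* L) (h : χ.comp (algebraMap A B) = ψ.comp (algebraMap A B)),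
    mul (mul χ (ψ.comp inv) (by rw [h, RingHom.comp_assoc, inv_t])) ψ
      (by rw [mul_s, RingHom.comp_assoc, inv_s]) = χ
  cancel' : ∀ {L : Type u} [CommRing L] (χ ψ : B →+* L) (h : χ.comp (algebraMap A B) = ψ.comp t),
    mul (mul χ ψ h) (ψ.comp inv) (by rw [mul_s, RingHom.comp_assoc, inv_t]) = χ

variable {t : A →+* B}

theorem GrpR.mul_congr (h : GrpR t) {L : Type u} [CommRing L] {φ φ' ψ ψ' : B →+* L} (e₁ : φ = φ') (e₂ : ψ = ψ')
    (e : φ.comp (algebraMap A B) = ψ.comp t) : h.mul φ ψ e = h.mul φ' ψ' (e₁ ▸ e₂ ▸ e) := by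
  subst e₁ e₂; rfl

section Iso

variable {L : Type u} [CommRing L]

/-- Translation along an arrow. -/
theorem exists_iso (h : GrpR t) {x y : A →+* L} (φ : B →+* L) (hs : φ.comp (algebraMap A B) = x)
    (ht : φ.comp t = y) : ∃ e : Fib x B ≃ₐ[L] Fib y B, ∀ a, e (inB x (t a)) = inB y (t a) := by
  have hy : (inB (B := B) y).comp (algebraMap A B) = (algebraMap L (Fib y B)).comp y :=
    RingHom.ext (inB_algebraMap y)
  have hx : (inB (B := B) x).comp (algebraMap A B) = (algebraMap L (Fib x B)).comp x :=
    RingHom.ext (inB_algebraMap x)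
  have e₁ : (inB (B := B) y).comp (algebraMap A B) = ((algebraMap L (Fib y B)).comp φ).comp t := by
    rw [hy, RingHom.comp_assoc, ht]
  have e₂ : (inB (B := B) x).comp (algebraMap A B) = (((algebraMap L (Fib x B)).comp φ).comp h.inv).comp t := by
    rw [hx, RingHom.comp_assoc, RingHom.comp_assoc, h.inv_t, hs]
  have s₁ : (h.mul _ _ e₁).comp (algebraMap A B) = (algebraMap L (Fib y B)).comp x := by
    rw [h.mul_s, RingHom.comp_assoc, hs]
  have s₂ : (h.mul _ _ e₂).comp (algebraMap A B) = (algebraMap L (Fib x B)).comp y := by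
    rw [h.mul_s, RingHom.comp_assoc, RingHom.comp_assoc, h.inv_s, ht]
  let f := liftAlg x (h.mul _ _ e₁) s₁
  let g := liftAlg y (h.mul _ _ e₂) s₂
  have f_inB : f.toRingHom.comp (inB x) = h.mul _ _ e₁ := RingHom.ext fun b => liftAlg_inB x _ s₁ b
  have g_inB : g.toRingHom.comp (inB y) = h.mul _ _ e₂ := RingHom.ext fun b => liftAlg_inB y _ s₂ b
  have falg : f.toRingHom.comp (algebraMap L (Fib x B)) = algebraMap L (Fib y B) := f.comp_algebraMap
  have galg : g.toRingHom.comp (algebraMap L (Fib y B)) = algebraMap L (Fib x B) := g.comp_algebraMap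
  have hgf : g.toRingHom.comp (h.mul _ _ e₁) = inB x := by
    rw [h.comp_mul, h.mul_congr g_inB (by rw [← RingHom.comp_assoc, galg])]
    refine Eq.trans ?_ (h.cancel (inB x) ((algebraMap L (Fib x B)).comp φ)
      (by rw [hx, RingHom.comp_assoc, hs]))
    rfl
  have hfg : f.toRingHom.comp (h.mul _ _ e₂) = inB y := by
    rw [h.comp_mul, h.mul_congr f_inB (by rw [← RingHom.comp_assoc, ← RingHom.comp_assoc, falg])]
    exact h.cancel' (inB y) ((algebraMap L (Fib y B)).comp φ) e₁
  refine ⟨AlgEquiv.ofAlgHom f g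
    (AlgHom.toLinearMap_injective (fib_linearMap_ext y fun b => ?_))
    (AlgHom.toLinearMap_injective (fib_linearMap_ext x fun b => ?_)), fun a => ?_⟩
  · exact (congrArg f (RingHom.congr_fun g_inB b)).trans (RingHom.congr_fun hfg b)
  · exact (congrArg g (RingHom.congr_fun f_inB b)).trans (RingHom.congr_fun hgf b)
  · exact (RingHom.congr_fun f_inB (t a)).trans (RingHom.congr_fun (h.mul_t _ _ e₁) a)

variable (R : Retr A B)

/-- Multiplication operators as a linear map. -/
theorem matL_eq (x : A →+* L) (z : Fib x B) :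
    R.matL x z = LinearMap.toMatrix' (R.iL x ∘ₗ LinearMap.mulLeft L z ∘ₗ R.rL x) := rfl

theorem matL_add (x : A →+* L) (z w : Fib x B) : R.matL x (z + w) = R.matL x z + R.matL x w :=
  ext_of_mulVec_single fun j => by
    rw [add_mulVec, R.matL_mulVec, R.matL_mulVec, R.matL_mulVec, add_mul, map_add]

theorem matL_smul (x : A →+* L) (l : L) (z : Fib x B) : R.matL x (l • z) = l • R.matL x z :=
  ext_of_mulVec_single fun j => by
    rw [smul_mulVec, R.matL_mulVec, R.matL_mulVec, smul_mul_assoc, map_smul]

/-- Multiplication by a combination of translates. -/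
theorem matL_sum (x : A →+* L) {ι : Type*} (s : Finset ι) (c : ι → L) (b : ι → B) :
    R.matL x (∑ j ∈ s, c j • inB x (b j)) = ∑ j ∈ s, c j • (R.mat (b j)).map x := by
  classical
  induction s using Finset.induction_on with
  | empty =>
    refine ext_of_mulVec_single fun j => ?_
    rw [Finset.sum_empty, Finset.sum_empty, R.matL_mulVec, zero_mul, map_zero, zero_mulVec]
  | insert i s hi ih =>
    rw [Finset.sum_insert hi, Finset.sum_insert hi, matL_add, matL_smul, ih, matL_eq, R.toMatrix'_mulLeft]

theorem charpoly_matL_equiv {x y : A →+* L} (e : Fib x B ≃ₐ[L] Fib y B) (z : Fib x B) :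
    (R.matL x z).charpoly = (R.matL y (e z)).charpoly := by
  let P := LinearMap.toMatrix' (R.iL x ∘ₗ e.symm.toLinearMap ∘ₗ R.rL y)
  let Q := LinearMap.toMatrix' (R.iL y ∘ₗ e.toLinearMap ∘ₗ LinearMap.mulLeft L z ∘ₗ R.rL x)
  have h₁ : R.matL x z = P * Q := by
    rw [matL_eq, ← LinearMap.toMatrix'_comp]
    congr 1
    refine LinearMap.ext fun v => ?_
    simp [R.rL_iL]
  have h₂ : R.matL y (e z) = Q * P := by
    rw [matL_eq, ← LinearMap.toMatrix'_comp]
    congr 1
    refine LinearMap.ext fun v => ?_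
    simp [R.rL_iL]
  rw [h₁, h₂, charpoly_mul_comm]

/-- The unit criterion for the modified determinant. -/
theorem isUnit_det_iff (x : A →+* L) (z : Fib x B) :
    IsUnit (1 - R.matL x 1 + R.matL x z).det ↔ IsUnit z := by
  have h1 : ∀ w, R.matL x 1 * R.matL x w = R.matL x w := fun w => by rw [← R.matL_mul, one_mul]
  have h2 : ∀ w, R.matL x w * R.matL x 1 = R.matL x w := fun w => by rw [← R.matL_mul, mul_one]
  constructor
  · intro hu
    set Y := 1 - R.matL x 1 + R.matL x z with hY
    let v := Y⁻¹ *ᵥ R.iL x 1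
    have h3 := congrArg (R.rL x) (show Y *ᵥ v = R.iL x 1 by
      rw [mulVec_mulVec, Matrix.mul_nonsing_inv _ hu, one_mulVec])
    rw [hY, add_mulVec, sub_mulVec, one_mulVec, R.matL_mulVec, R.matL_mulVec, map_add, map_sub,
      R.rL_iL, R.rL_iL, R.rL_iL, one_mul, sub_self, zero_add] at h3
    exact IsUnit.of_mul_eq_one _ h3
  · intro hu
    obtain ⟨w, hw⟩ := hu.exists_right_inv
    refine IsUnit.of_mul_eq_one ((1 - R.matL x 1 + R.matL x w).det) ?_
    rw [← det_mul]
    refine (congrArg Matrix.det ?_).trans det_one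
    simp only [Matrix.add_mul, Matrix.mul_add, Matrix.sub_mul, Matrix.mul_sub, Matrix.one_mul,
      Matrix.mul_one, h1, h2, ← R.matL_mul, hw]
    abel

end Iso

variable (R : Retr A B)

/-- The generic characteristic polynomial has invariant coefficients. -/
theorem charpoly_generic (h : GrpR t) {n : ℕ} (a : Fin n → A) :
    let q := (∑ j, (MvPolynomial.X j : MvPolynomial (Fin n) A) • (R.mat (t (a j))).map (MvPolynomial.C (σ := Fin n))).charpoly
    ∀ i m, (q.coeff i).coeff m ∈ RingHom.eqLocus (algebraMap A B) t := by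
  intro q i m
  let L := MvPolynomial (Fin n) B
  obtain ⟨e, he⟩ := exists_iso (L := L) h (MvPolynomial.C) rfl rfl
  have key : ∀ (f : A →+* B),
      (R.matL ((MvPolynomial.C (σ := Fin n)).comp f) (∑ j, (MvPolynomial.X j : L) • inB _ (t (a j)))).charpoly =
        q.map (MvPolynomial.map f) := by
    intro f
    rw [matL_sum, ← Matrix.charpoly_map]
    congr 1
    ext k l
    simp [Matrix.sum_apply]
  have h' := charpoly_matL_equiv R e
    (∑ j, (MvPolynomial.X j : L) • inB ((MvPolynomial.C (σ := Fin n)).comp (algebraMap A B)) (t (a j)))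
  rw [map_sum] at h'
  simp only [map_smul, he] at h'
  rw [key, key] at h'
  have := congrArg (fun p => (Polynomial.coeff p i).coeff m) h'
  simp only [Polynomial.coeff_map] at this
  erw [MvPolynomial.coeff_map, MvPolynomial.coeff_map] at this
  exact this

/-- Combinations of translates have the same characteristic polynomial at points agreeing on invariants. -/
theorem charpoly_eq (h : GrpR t) {n : ℕ} (a : Fin n → A) {K : Type u} [CommRing K] {x y : A →+* K}
    (hxy : ∀ c ∈ RingHom.eqLocus (algebraMap A B) t, x c = y c) (c : Fin n → K) :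
    (R.matL x (∑ j, c j • inB x (t (a j)))).charpoly = (R.matL y (∑ j, c j • inB y (t (a j)))).charpoly := by
  have key : ∀ (f : A →+* K),
      (R.matL f (∑ j, c j • inB f (t (a j)))).charpoly =
        ((∑ j, (MvPolynomial.X j : MvPolynomial (Fin n) A) • (R.mat (t (a j))).map MvPolynomial.C).charpoly).map
          (MvPolynomial.eval₂Hom f c) := by
    intro f
    rw [matL_sum, ← Matrix.charpoly_map]
    congr 1
    ext k l
    simp [Matrix.sum_apply]
  rw [key, key]
  ext i
  rw [Polynomial.coeff_map, Polynomial.coeff_map, MvPolynomial.coe_eval₂Hom, MvPolynomial.coe_eval₂Hom,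
    MvPolynomial.eval₂_eq', MvPolynomial.eval₂_eq']
  exact Finset.sum_congr rfl fun m _ => by rw [hxy _ (charpoly_generic R h a i m)]

/-- Every element is integral over the invariants. -/
theorem isIntegral (h : GrpR t) [Module.Finite A B] [Module.Projective A B] (a : A) :
    IsIntegral (RingHom.eqLocus (algebraMap A B) t) a := by
  obtain ⟨R⟩ := nonempty_retr (A := A) (B := B)
  obtain ⟨e, he⟩ := exists_iso h (RingHom.id B) (RingHom.id_comp (algebraMap A B)) (RingHom.id_comp t)
  have hch : ((R.mat (t a)).charpoly).map (algebraMap A B) = ((R.mat (t a)).charpoly).map t := by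
    have := charpoly_matL_equiv R e (inB _ (t a))
    rw [he, matL_eq, matL_eq, R.toMatrix'_mulLeft, R.toMatrix'_mulLeft, Matrix.charpoly_map, Matrix.charpoly_map]
      at this
    exact this
  have hsub : ((R.mat (t a)).charpoly.coeffs : Set A) ⊆ RingHom.eqLocus (algebraMap A B) t := by
    intro c hc
    obtain ⟨n, -, rfl⟩ := Polynomial.mem_coeffs_iff.1 hc
    have := congrArg (fun p => Polynomial.coeff p n) hch
    simpa only [Polynomial.coeff_map, RingHom.mem_eqLocus, SetLike.mem_coe] using this
  refine ⟨(R.mat (t a)).charpoly.toSubring _ hsub,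
    (Polynomial.monic_toSubring _ _ hsub).2 (Matrix.charpoly_monic _), ?_⟩
  rw [show algebraMap (RingHom.eqLocus (algebraMap A B) t) A =
    (RingHom.eqLocus (algebraMap A B) t).subtype from rfl, ← Polynomial.eval_map]
  refine (congrArg (Polynomial.eval a) (Polynomial.map_toSubring _ _ hsub)).trans ?_
  have h1 := congrArg h.one (R.aeval_charpoly (t a))
  rw [map_zero, Polynomial.aeval_def, Polynomial.hom_eval₂, h.one_s,
    show h.one (t a) = a from RingHom.congr_fun h.one_t a] at h1
  exact h1

section Points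

variable {K : Type u} [Field K] [IsAlgClosed K]

theorem exists_eval {n : ℕ} {J : Type*} [Finite J] (l : J → Fin n → K) (hl : ∀ j, l j ≠ 0) :
    ∃ c : Fin n → K, ∀ j, ∑ i, c i * l j i ≠ 0 := by
  classical
  have := Fintype.ofFinite J
  haveI : Infinite K := inferInstance
  let P : MvPolynomial (Fin n) K := ∏ j, ∑ i, MvPolynomial.C (l j i) * MvPolynomial.X i
  have hev : ∀ c : Fin n → K, MvPolynomial.eval c P = ∏ j, ∑ i, c i * l j i := fun c => by
    simp [P, mul_comm]
  have hP : P ≠ 0 := by
    refine Finset.prod_ne_zero_iff.2 fun j _ h0 => hl j (funext fun i => ?_)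
    have := congrArg (MvPolynomial.eval (Pi.single i (1 : K))) h0
    simpa [Pi.single_apply] using this
  by_contra hne
  push Not at hne
  refine hP (MvPolynomial.funext fun c => ?_)
  obtain ⟨j, hj⟩ := hne c
  rw [hev, map_zero]
  exact Finset.prod_eq_zero (Finset.mem_univ j) hj

/-- Two points agreeing on invariants lie in one orbit. -/
theorem exists_arrow (h : GrpR t) [Module.Finite A B] [Module.Projective A B] {x y : A →+* K}
    (hxy : ∀ c ∈ RingHom.eqLocus (algebraMap A B) t, x c = y c) :
    ∃ φ : B →+* K, φ.comp (algebraMap A B) = x ∧ φ.comp t = y := by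
  classical
  obtain ⟨R⟩ := nonempty_retr (A := A) (B := B)
  haveI : Module.Finite K (Fib x B) := inferInstanceAs (Module.Finite (Tw x) (Tw x ⊗[A] B))
  by_contra hne
  push Not at hne
  have hsep : ∀ ε : Fib x B →ₐ[K] K, ∃ a : A, ε (inB x (t a)) ≠ y a := by
    intro ε
    by_contra h'
    push Not at h'
    refine hne (ε.toRingHom.comp (inB x)) (RingHom.ext fun a => ?_) (RingHom.ext h')
    show ε (inB x (algebraMap A B a)) = x a
    rw [inB_algebraMap, AlgHom.commutes]
    rfl
  choose f hf using hsep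
  let E := Option (Fib x B →ₐ[K] K)
  haveI : Fintype E := Fintype.ofFinite E
  let σ := (Fintype.equivFin E).symm
  let g : E → A := fun o => o.elim 1 f
  let a : Fin (Fintype.card E) → A := fun j => g (σ j)
  obtain ⟨c, hc⟩ := exists_eval (J := E)
    (fun o j => o.elim (y (a j)) fun ε => y (a j) - ε (inB x (t (a j)))) (fun o h0 => by
      cases o with
      | none =>
        have := congrFun h0 (σ.symm none)
        simp [a, g] at this
      | some ε =>
        have := congrFun h0 (σ.symm (some ε))
        simp [a, g, sub_eq_zero] at this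
        exact hf ε this.symm)
  set lam := ∑ i, c i * y (a i) with hlam
  have hlam0 : lam ≠ 0 := hc none
  -- an eigenvector at `y`
  let ε₀ := liftAlg y (M := K) (y.comp h.one) (by rw [RingHom.comp_assoc, h.one_s]; rfl)
  set zy := ∑ j, c j • inB y (t (a j))
  have hz : ε₀ zy = lam := by
    simp only [zy, map_sum, map_smul, ε₀, liftAlg_inB, RingHom.comp_apply, smul_eq_mul, hlam]
    exact Finset.sum_congr rfl fun j _ => by rw [show h.one (t (a j)) = a j from RingHom.congr_fun h.one_t (a j)]
  have hroot : (R.matL y zy).charpoly.IsRoot lam := by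
    rw [Polynomial.IsRoot, Matrix.eval_charpoly, ← exists_vecMul_eq_zero_iff]
    let ℓ := ε₀.toLinearMap ∘ₗ R.rL y
    refine ⟨fun j => ℓ (Pi.single j 1), fun h0 => ?_, ?_⟩
    · have hl0 : ℓ = 0 := LinearMap.pi_ext' fun j => LinearMap.ext_ring (by simpa using congrFun h0 j)
      have := LinearMap.congr_fun hl0 (R.iL y 1)
      simp [ℓ, R.rL_iL] at this
    · funext j
      have hv : ∀ v, (fun i => ℓ (Pi.single i 1)) ⬝ᵥ v = ℓ v := fun v => by
        conv_rhs => rw [pi_eq_sum_univ' v]
        simp [dotProduct, mul_comm]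
      rw [← dotProduct_single_one (v := (fun i => ℓ (Pi.single i 1)) ᵥ* _) (i := j), ← dotProduct_mulVec, hv,
        sub_mulVec, map_sub, R.matL_mulVec, scalar_apply, ← smul_one_eq_diagonal, smul_mulVec, one_mulVec, map_smul]
      simp [ℓ, R.rL_iL, hz]
  rw [← charpoly_eq R h a hxy c, Polynomial.IsRoot, Matrix.eval_charpoly, ← exists_mulVec_eq_zero_iff] at hroot
  obtain ⟨v, hv, hMv⟩ := hroot
  set zx := ∑ j, c j • inB x (t (a j))
  rw [sub_mulVec, scalar_apply, ← smul_one_eq_diagonal, smul_mulVec, one_mulVec, sub_eq_zero, R.matL_mulVec] at hMv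
  have hnu : ¬ IsUnit (zx - algebraMap K (Fib x B) lam) := by
    intro hu
    have h1 := congrArg (R.rL x) hMv
    rw [map_smul, R.rL_iL] at h1
    have h2 : (zx - algebraMap K (Fib x B) lam) * R.rL x v = 0 := by
      rw [sub_mul, ← Algebra.smul_def, ← h1, sub_self]
    rw [hu.mul_right_eq_zero] at h2
    rw [h2, mul_zero, map_zero, smul_eq_zero] at hMv
    exact hv (hMv.resolve_left hlam0)
  obtain ⟨m, hm, hmem⟩ := exists_max_ideal_of_mem_nonunits hnu
  haveI := hm
  letI := Ideal.Quotient.field m
  let e : K ≃ₐ[K] (Fib x B ⧸ m) := AlgEquiv.ofBijective (Algebra.ofId K _)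
    IsAlgClosed.algebraMap_bijective_of_isIntegral
  let ε := e.symm.toAlgHom.comp (Ideal.Quotient.mkₐ K m)
  have hε : ε (zx - algebraMap K (Fib x B) lam) = 0 := by
    show e.symm (Ideal.Quotient.mkₐ K m _) = 0
    rw [Ideal.Quotient.mkₐ_eq_mk, Ideal.Quotient.eq_zero_iff_mem.2 hmem, map_zero]
  refine hc (some ε) ?_
  rw [map_sub, AlgHom.commutes, Algebra.algebraMap_self, RingHom.id_apply, sub_eq_zero] at hε
  simp only [zx, map_sum, map_smul, smul_eq_mul] at hε
  simp only [Option.elim_some, mul_sub, Finset.sum_sub_distrib, hε, hlam, sub_self]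

end Points

end Groth.Agent.GrpQuot
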