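import Groth.Agent.Lib.GrpQuot.Rank
import Mathlib.AlgebraicGeometry.Morphisms.UniversallyOpen
import Mathlib.AlgebraicGeometry.PullbackCarrier

/-!
# Groupoids over a field
-/

set_option autoImplicit false
set_option linter.style.haveILetI false
set_option backward.isDefEq.respectTransparency.types false
universe u

open CategoryTheory CategoryTheory.Limits AlgebraicGeometry TopologicalSpace

noncomputable section

namespace Groth.Agent.GrpQuot

open Groth.Agent.GrpdB

theorem universallyOpen_of_field {X U : Scheme.{u}} {k : Type u} [Field k] (eU : U ≅ Spec (CommRingCat.of k))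
    (f : X ⟶ U) : UniversallyOpen f := by
  have : UniversallyOpen ((f ≫ eU.hom) ≫ eU.inv) := inferInstance
  rwa [Category.assoc, Iso.hom_inv_id, Category.comp_id] at this

variable {U : Scheme.{u}} {k : Type u} [Field k]

theorem mem_closure_of_fst_eq (eU : U ≅ Spec (CommRingCat.of k)) {X Y : Scheme.{u}} (f : X ⟶ U) (g : Y ⟶ U)
    {D : Set Y} (p : ↑(pullback f g)) (hp : pullback.snd f g p ∈ closure D) :
    p ∈ closure (pullback.fst f g ⁻¹' {pullback.fst f g p} ∩ pullback.snd f g ⁻¹' D) := by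
  set x := pullback.fst f g p
  let a := X.fromSpecResidueField x
  let π : pullback (a ≫ f) g ⟶ pullback f g :=
    pullback.map (a ≫ f) g f g a (𝟙 _) (𝟙 _) (Category.comp_id _) (by simp)
  have hπ : Set.range π = pullback.fst f g ⁻¹' {x} := by
    rw [Scheme.Pullback.range_map, Scheme.range_fromSpecResidueField,
      show Set.range (𝟙 Y : Y ⟶ Y) = Set.univ from Set.eq_univ_of_forall fun y => ⟨y, rfl⟩, Set.preimage_univ,
      Set.inter_univ]
  obtain ⟨q, hq⟩ : p ∈ Set.range π := by rw [hπ]; rfl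
  have hsnd : π ≫ pullback.snd f g = pullback.snd (a ≫ f) g := (pullback.lift_snd _ _ _).trans (Category.comp_id _)
  have hopen : IsOpenMap (pullback.snd (a ≫ f) g) := by
    haveI := universallyOpen_of_field eU (a ≫ f)
    exact (pullback.snd (a ≫ f) g).isOpenMap
  have hq' : q ∈ closure (pullback.snd (a ≫ f) g ⁻¹' D) := by
    refine hopen.preimage_closure_subset_closure_preimage ?_
    show pullback.snd (a ≫ f) g q ∈ closure D
    rw [← hsnd, Scheme.Hom.comp_apply, hq]
    exact hp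
  rw [← hq]
  refine closure_mono ?_ (image_closure_subset_closure_image π.continuous ⟨q, hq', rfl⟩)
  rintro _ ⟨z, hz, rfl⟩
  refine ⟨?_, ?_⟩
  · have : π z ∈ Set.range π := ⟨z, rfl⟩
    rw [hπ] at this
    exact this
  · show pullback.snd f g (π z) ∈ D
    rw [← Scheme.Hom.comp_apply, hsnd]
    exact hz

theorem mem_closure_of_snd_eq (eU : U ≅ Spec (CommRingCat.of k)) {X Y : Scheme.{u}} (f : X ⟶ U) (g : Y ⟶ U)
    {C : Set X} (p : ↑(pullback f g)) (hp : pullback.fst f g p ∈ closure C) :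
    p ∈ closure (pullback.fst f g ⁻¹' C ∩ pullback.snd f g ⁻¹' {pullback.snd f g p}) := by
  let σ := pullbackSymmetry g f
  let p' := σ.inv p
  have h1 : pullback.snd g f p' = pullback.fst f g p := by
    rw [← Scheme.Hom.comp_apply, pullbackSymmetry_inv_comp_snd]
  have h := mem_closure_of_fst_eq eU g f (D := C) p' (by rw [h1]; exact hp)
  have hp' : σ.hom p' = p := by rw [← Scheme.Hom.comp_apply, Iso.inv_hom_id]; rfl
  rw [← hp']
  refine closure_mono ?_ (image_closure_subset_closure_image σ.hom.continuous ⟨p', h, rfl⟩)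
  rintro _ ⟨z, ⟨hz₁, hz₂⟩, rfl⟩
  refine ⟨?_, ?_⟩
  · show pullback.fst f g (σ.hom z) ∈ C
    rw [← Scheme.Hom.comp_apply, pullbackSymmetry_hom_comp_fst]
    exact hz₂
  · show pullback.snd f g (σ.hom z) = pullback.snd f g (σ.hom p')
    rw [← Scheme.Hom.comp_apply, ← Scheme.Hom.comp_apply, pullbackSymmetry_hom_comp_snd]
    exact hz₁

/-- Over a field, closures commute with fibre products. -/
theorem mem_closure_prod (eU : U ≅ Spec (CommRingCat.of k)) {X Y : Scheme.{u}} (f : X ⟶ U) (g : Y ⟶ U)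
    {C : Set X} {D : Set Y} (p : ↑(pullback f g)) (h₁ : pullback.fst f g p ∈ closure C)
    (h₂ : pullback.snd f g p ∈ closure D) :
    p ∈ closure (pullback.fst f g ⁻¹' C ∩ pullback.snd f g ⁻¹' D) := by
  refine closure_minimal ?_ isClosed_closure (mem_closure_of_snd_eq eU f g p h₁)
  rintro z ⟨hz₁, hz₂⟩
  have hs : pullback.snd f g z = pullback.snd f g p := hz₂
  refine closure_mono (Set.inter_subset_inter_left _ fun w hw => ?_)
    (mem_closure_of_fst_eq eU f g (D := D) z (by rw [hs]; exact h₂))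
  have : pullback.fst f g w = pullback.fst f g z := hw
  show pullback.fst f g w ∈ C
  rw [this]; exact hz₁

variable {S : Scheme.{u}} {G₁ G₂ : Grpd.GroupoidScheme S}

theorem map_comp_c (f : Grpd.GroupoidScheme.Hom G₁ G₂) :
    pullback.map G₁.s G₁.t G₂.s G₂.t f.fR f.fR f.fU f.comm_s.symm f.comm_t.symm ≫ G₂.c = G₁.c ≫ f.fR := by
  have h := f.comm_c (pullback.fst G₁.s G₁.t) (pullback.snd G₁.s G₁.t) pullback.condition
  rw [show pullback.lift (pullback.fst G₁.s G₁.t) (pullback.snd G₁.s G₁.t) pullback.condition = 𝟙 _ by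
    apply pullback.hom_ext <;> simp, Category.id_comp] at h
  rw [h]

theorem c_mem_range (f : Grpd.GroupoidScheme.Hom G₁ G₂) [IsIso f.fU] (p : ↑(pullback G₂.s G₂.t))
    (h₁ : pullback.fst G₂.s G₂.t p ∈ Set.range f.fR) (h₂ : pullback.snd G₂.s G₂.t p ∈ Set.range f.fR) :
    G₂.c p ∈ Set.range f.fR := by
  have : p ∈ Set.range (pullback.map G₁.s G₁.t G₂.s G₂.t f.fR f.fR f.fU f.comm_s.symm f.comm_t.symm) := by
    rw [Scheme.Pullback.range_map]; exact ⟨h₁, h₂⟩
  obtain ⟨q, rfl⟩ := this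
  exact ⟨G₁.c q, by rw [← Scheme.Hom.comp_apply, ← map_comp_c, Scheme.Hom.comp_apply]⟩

theorem c_mem_closure_range (f : Grpd.GroupoidScheme.Hom G₁ G₂) [IsIso f.fU] (eU : G₂.U ≅ Spec (CommRingCat.of k))
    (p : ↑(pullback G₂.s G₂.t)) (h₁ : pullback.fst G₂.s G₂.t p ∈ closure (Set.range f.fR))
    (h₂ : pullback.snd G₂.s G₂.t p ∈ closure (Set.range f.fR)) : G₂.c p ∈ closure (Set.range f.fR) :=
  map_mem_closure G₂.c.continuous (mem_closure_prod eU G₂.s G₂.t p h₁ h₂) fun z hz => c_mem_range f z hz.1 hz.2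

theorem eq_e_of_idem {G : Grpd.GroupoidScheme S} {T : Scheme.{u}} (β : T ⟶ G.R) (h : β ≫ G.s = β ≫ G.t)
    (hb : cmp G β β h = β) : β = (β ≫ G.s) ≫ G.e := by
  have h1 := cancel_right β β h
  rw [cmp_congr hb rfl] at h1
  exact h1.symm.trans ((G.comp_i β).trans (by rw [← Category.assoc, h]))

/-- Morphisms of groupoids preserve identities. -/
theorem e_fR (f : Grpd.GroupoidScheme.Hom G₁ G₂) : G₁.e ≫ f.fR = f.fU ≫ G₂.e := by
  have hs : (G₁.e ≫ f.fR) ≫ G₂.s = f.fU := by rw [Category.assoc, f.comm_s, ← Category.assoc, G₁.e_s, Category.id_comp]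
  have ht : (G₁.e ≫ f.fR) ≫ G₂.t = f.fU := by rw [Category.assoc, f.comm_t, ← Category.assoc, G₁.e_t, Category.id_comp]
  have h := f.comm_c G₁.e G₁.e (by rw [G₁.e_s, G₁.e_t])
  have he : cmp G₁ G₁.e G₁.e (by rw [G₁.e_s, G₁.e_t]) = G₁.e :=
    (cmp_congr rfl (Category.id_comp G₁.e).symm _).trans (cmp_id' G₁.e (𝟙 _) _)
  have hb : cmp G₂ (G₁.e ≫ f.fR) (G₁.e ≫ f.fR) (hs.trans ht.symm) = G₁.e ≫ f.fR :=
    h.symm.trans (congrArg (· ≫ f.fR) he)
  exact (eq_e_of_idem _ _ hb).trans (by rw [hs])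

/-- Morphisms of groupoids preserve inverses. -/
theorem i_fR (f : Grpd.GroupoidScheme.Hom G₁ G₂) : G₁.i ≫ f.fR = f.fR ≫ G₂.i := by
  have h0 : (𝟙 G₁.R) ≫ G₁.s = G₁.i ≫ G₁.t := by rw [Category.id_comp, G₁.i_t]
  have h1 : cmp G₁ (𝟙 G₁.R) G₁.i h0 = G₁.t ≫ G₁.e := by
    refine (cmp_congr rfl (Category.id_comp G₁.i).symm _).trans ((G₁.comp_i (𝟙 G₁.R)).trans ?_)
    rw [Category.id_comp]
  have hc : f.fR ≫ G₂.s = (G₁.i ≫ f.fR) ≫ G₂.t := by rw [Category.assoc, f.comm_t, ← Category.assoc, G₁.i_t, f.comm_s]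
  have h2 : cmp G₂ f.fR (G₁.i ≫ f.fR) hc = f.fR ≫ G₂.t ≫ G₂.e := by
    refine (cmp_congr (Category.id_comp f.fR).symm rfl _).trans ((f.comm_c (𝟙 G₁.R) G₁.i h0).symm.trans ?_)
    show cmp G₁ (𝟙 G₁.R) G₁.i h0 ≫ f.fR = _
    rw [h1, Category.assoc, e_fR, ← Category.assoc, ← f.comm_t, Category.assoc]
  rw [← cancel_left f.fR (G₁.i ≫ f.fR) hc]
  refine (cmp_congr rfl h2 _).trans ?_
  exact (cmp_congr rfl (Category.assoc _ _ _).symm _).trans (cmp_id' (inv' f.fR) _ _)

theorem i_mem_range (f : Grpd.GroupoidScheme.Hom G₁ G₂) {x : G₂.R} (hx : x ∈ Set.range f.fR) :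
    G₂.i x ∈ Set.range f.fR := by
  obtain ⟨z, rfl⟩ := hx
  exact ⟨G₁.i z, by rw [← Scheme.Hom.comp_apply, i_fR, Scheme.Hom.comp_apply]⟩

theorem i_mem_closure_range (f : Grpd.GroupoidScheme.Hom G₁ G₂) {x : G₂.R} (hx : x ∈ closure (Set.range f.fR)) :
    G₂.i x ∈ closure (Set.range f.fR) :=
  map_mem_closure G₂.i.continuous hx fun _ hz => i_mem_range f hz

/-- `(first projection, composition)` identifies composable pairs with pairs of arrows of equal target. -/
theorem isPullback_shear_left (G : Grpd.GroupoidScheme S) :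
    IsPullback G.c (pullback.fst G.s G.t) G.t G.t := by
  have w : G.c ≫ G.t = pullback.fst G.s G.t ≫ G.t := by rw [c_eq G, cmp_t]
  refine ⟨⟨w⟩, ⟨PullbackCone.IsLimit.mk _
    (fun s => pullback.lift s.snd (cmp G (inv' s.snd) s.fst ((inv_s _).trans s.condition.symm))
      ((cmp_t _ _ _).trans (inv_t _)).symm)
    (fun s => cancel_left' s.snd s.fst s.condition.symm) (fun s => pullback.lift_fst _ _ _) fun s m h1 h2 => ?_⟩⟩
  apply pullback.hom_ext
  · rw [pullback.lift_fst, h2]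
  · rw [pullback.lift_snd, ← cancel_left (m ≫ pullback.fst _ _) (m ≫ pullback.snd _ _)
      (by rw [Category.assoc, Category.assoc, pullback.condition])]
    refine cmp_congr (by rw [inv', inv', h2]) ?_ _
    rw [← comp_cmp _ _ _ pullback.condition, ← c_eq, h1]

/-- A locally closed subgroupoid over a field is closed. -/
theorem isClosed_range_of_isLocallyClosed (f : Grpd.GroupoidScheme.Hom G₁ G₂) [IsIso f.fU]
    (eU : G₂.U ≅ Spec (CommRingCat.of k)) (hlc : IsLocallyClosed (Set.range f.fR)) :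
    IsClosed (Set.range f.fR) := by
  set A := Set.range f.fR with hA
  obtain ⟨O, Z, hO, hZ, hOZ⟩ := hlc
  have hAO : A = O ∩ closure A := by
    refine subset_antisymm (Set.subset_inter (fun z hz => (hOZ.le hz).1) subset_closure) fun z hz => ?_
    rw [hOZ]
    exact ⟨hz.1, closure_minimal (fun w hw => (hOZ.le hw).2) hZ hz.2⟩
  refine isClosed_of_closure_subset fun x hx => ?_
  let a := G₂.R.fromSpecResidueField x
  let q : pullback (a ≫ G₂.s) G₂.t ⟶ pullback G₂.s G₂.t :=
    pullback.map (a ≫ G₂.s) G₂.t G₂.s G₂.t a (𝟙 _) (𝟙 _) (Category.comp_id _) (by simp)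
  have hfstq : ∀ z, pullback.fst G₂.s G₂.t (q z) = x := fun z => by
    rw [← Scheme.Hom.comp_apply, pullback.lift_fst, Scheme.Hom.comp_apply, G₂.R.fromSpecResidueField_apply]
  let pb : pullback (a ≫ G₂.s) G₂.t ⟶ G₂.R := pullback.snd (a ≫ G₂.s) G₂.t
  let τ : pullback (a ≫ G₂.s) G₂.t ⟶ G₂.R := q ≫ G₂.c
  have hsndq : ∀ z, pullback.snd G₂.s G₂.t (q z) = pb z := fun z => by
    rw [← Scheme.Hom.comp_apply, pullback.lift_snd, Category.comp_id]
  have hτq : ∀ z, τ z = G₂.c (q z) := fun z => rfl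
  -- `τ` is open
  have hτ : IsOpenMap τ := by
    have sq : IsPullback q (pullback.fst (a ≫ G₂.s) G₂.t) (pullback.fst G₂.s G₂.t) a :=
      IsPullback.of_right (h₁₂ := pullback.snd G₂.s G₂.t) (v₁₃ := G₂.t) (h₂₂ := G₂.s)
        (by rw [show q ≫ pullback.snd G₂.s G₂.t = pullback.snd (a ≫ G₂.s) G₂.t from
            (pullback.lift_snd _ _ _).trans (Category.comp_id _)]; exact (IsPullback.of_hasPullback (a ≫ G₂.s) G₂.t).flip)
        (pullback.lift_fst _ _ _)
        (IsPullback.of_hasPullback G₂.s G₂.t).flip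
    haveI := universallyOpen_of_field eU (a ≫ G₂.t)
    haveI : UniversallyOpen τ := MorphismProperty.of_isPullback (P := @UniversallyOpen)
      (sq.paste_horiz (isPullback_shear_left G₂)).flip ‹_›
    exact τ.isOpenMap
  have hpb : IsOpenMap pb := by
    haveI := universallyOpen_of_field eU (a ≫ G₂.s)
    exact (pullback.snd (a ≫ G₂.s) G₂.t).isOpenMap
  -- both preimages of the closure agree
  have hC : ∀ z, τ z ∈ closure A ↔ pb z ∈ closure A := fun z => by
    constructor
    · intro hz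
      let l : pullback G₂.s G₂.t ⟶ pullback G₂.s G₂.t :=
        pullback.lift (pullback.fst _ _ ≫ G₂.i) (cmp G₂ (pullback.fst _ _) (pullback.snd _ _) pullback.condition)
          (by rw [Category.assoc, G₂.i_s, cmp_t])
      have hl : l ≫ G₂.c = pullback.snd _ _ := cancel_left _ _ pullback.condition
      have := c_mem_closure_range f eU (l (q z))
        (by rw [← Scheme.Hom.comp_apply, pullback.lift_fst, Scheme.Hom.comp_apply, hfstq]; exact i_mem_closure_range f hx)
        (by rw [← Scheme.Hom.comp_apply, pullback.lift_snd, ← c_eq, ← hτq]; exact hz)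
      rwa [← Scheme.Hom.comp_apply, hl, hsndq] at this
    · exact fun hz => c_mem_closure_range f eU (q z) (by rw [hfstq]; exact hx) (by rw [hsndq]; exact hz)
  -- a point in the intersection
  obtain ⟨z₀, hz₀⟩ : ∃ z, pb z ∈ A := by
    have he : G₂.e (G₂.s x) ∈ A := ⟨G₁.e (inv f.fU (G₂.s x)), by
      rw [← Scheme.Hom.comp_apply, e_fR, Scheme.Hom.comp_apply, ← Scheme.Hom.comp_apply (inv f.fU), IsIso.inv_hom_id]
      rfl⟩
    obtain ⟨z, -, hz⟩ := Scheme.Pullback.exists_preimage_pullback (f := a ≫ G₂.s) (g := G₂.t)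
      (IsLocalRing.closedPoint (G₂.R.residueField x)) (G₂.e (G₂.s x))
      (by rw [t_e, Scheme.Hom.comp_apply, G₂.R.fromSpecResidueField_apply])
    exact ⟨z, by show pullback.snd (a ≫ G₂.s) G₂.t z ∈ A; rw [hz]; exact he⟩
  -- `τ⁻¹ A` is open in the common preimage of the closure and non-empty
  obtain ⟨z₁, hz₁⟩ : ∃ z, τ z ∈ A := by
    have hmem := hτ.preimage_closure_subset_closure_preimage (show z₀ ∈ τ ⁻¹' closure A from (hC z₀).2 (subset_closure hz₀))
    obtain ⟨z, -, hz⟩ := mem_closure_iff.1 hmem Set.univ isOpen_univ trivial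
    exact ⟨z, hz⟩
  have hmem := hpb.preimage_closure_subset_closure_preimage
    (show z₁ ∈ pb ⁻¹' closure A from (hC z₁).1 (subset_closure hz₁))
  obtain ⟨z, hzO, hzA⟩ := mem_closure_iff.1 hmem (τ ⁻¹' O) (hO.preimage τ.continuous) (hAO.le hz₁).1
  have hτA : τ z ∈ A := hAO.ge ⟨hzO, (hC z).2 (subset_closure hzA)⟩
  let m : pullback G₂.s G₂.t ⟶ pullback G₂.s G₂.t :=
    pullback.lift (cmp G₂ (pullback.fst _ _) (pullback.snd _ _) pullback.condition) (inv' (pullback.snd _ _))
      ((cmp_s _ _ _).trans (inv_t _).symm)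
  have hm : m ≫ G₂.c = pullback.fst _ _ := cancel_right _ _ pullback.condition
  have := c_mem_range f (m (q z))
    (by rw [← Scheme.Hom.comp_apply, pullback.lift_fst, ← c_eq, ← hτq]; exact hτA)
    (by rw [← Scheme.Hom.comp_apply, pullback.lift_snd, Scheme.Hom.comp_apply, hsndq]; exact i_mem_range f hzA)
  rwa [← Scheme.Hom.comp_apply, hm, hfstq] at this

end Groth.Agent.GrpQuot
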