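import Groth.Agent.Lib.GrpdB.Calc
import Mathlib.AlgebraicGeometry.Restrict

/-!
# The shear squares of the translates of a morphism, and largest opens
-/

set_option autoImplicit false
set_option linter.style.haveILetI false
set_option backward.isDefEq.respectTransparency.types false
universe u

open CategoryTheory CategoryTheory.Limits AlgebraicGeometry

noncomputable section

namespace Groth.Agent.GrpQuot.LargestOpen

open Groth.Agent.GrpdB

variable {S : Scheme.{u}} (G : Grpd.GroupoidScheme S) {U' : Scheme.{u}} (g : U' ⟶ G.U)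

/-- `U' ×_U R`. -/
abbrev P₀ : Scheme.{u} := pullback g G.t

/-- Pairs of arrows out of the same point of `U'`. -/
abbrev D : Scheme.{u} := pullback (pullback.fst g G.t) (pullback.fst g G.t)

abbrev ρ₁ : D G g ⟶ G.R := pullback.fst _ _ ≫ pullback.snd g G.t
abbrev ρ₂ : D G g ⟶ G.R := pullback.snd _ _ ≫ pullback.snd g G.t

theorem ρ_t : ρ₁ G g ≫ G.t = ρ₂ G g ≫ G.t := by
  rw [Category.assoc, Category.assoc, ← pullback.condition, pullback.condition_assoc]

/-- The arrow from the first to the second. -/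
def m : D G g ⟶ G.R := cmp G (inv' (ρ₁ G g)) (ρ₂ G g) ((inv_s _).trans (ρ_t G g))

theorem m_t : m G g ≫ G.t = pullback.fst _ _ ≫ pullback.snd g G.t ≫ G.s := by
  rw [m, cmp_t, inv_t, Category.assoc]

theorem m_s : m G g ≫ G.s = pullback.snd _ _ ≫ pullback.snd g G.t ≫ G.s := by
  rw [m, cmp_s, Category.assoc]

theorem comp_m {T : Scheme.{u}} (f : T ⟶ D G g) (a b : T ⟶ G.R) (ha : f ≫ ρ₁ G g = a)
    (hb : f ≫ ρ₂ G g = b) (h : inv' a ≫ G.s = b ≫ G.t) :
    f ≫ m G g = cmp G (inv' a) b h := by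
  rw [m, comp_cmp]
  exact cmp_congr (by rw [← ha]; exact (Category.assoc _ _ _).symm) hb _

variable {T : Scheme.{u}}

theorem ρ_t_comp (n : T ⟶ D G g) : (n ≫ ρ₁ G g) ≫ G.t = (n ≫ ρ₂ G g) ≫ G.t :=
  (Category.assoc _ _ _).trans ((congrArg (n ≫ ·) (ρ_t G g)).trans (Category.assoc _ _ _).symm)

theorem comp_m' (n : T ⟶ D G g) :
    n ≫ m G g = cmp G (inv' (n ≫ ρ₁ G g)) (n ≫ ρ₂ G g) ((inv_s _).trans (ρ_t_comp G g n)) :=
  comp_m G g n _ _ rfl rfl _

omit g in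
theorem cmp_congr₂ {α α' β β' : T ⟶ G.R} (h : α ≫ G.s = β ≫ G.t) (h' : α' ≫ G.s = β' ≫ G.t)
    (hα : α = α') (hβ : β = β') : cmp G α β h = cmp G α' β' h' := by
  subst hα hβ; rfl

theorem right_unique {a a' b b' c c' : T ⟶ G.R} (h : a ≫ G.t = b ≫ G.t) (h' : a' ≫ G.t = b' ≫ G.t)
    (hc : cmp G (inv' a) b ((inv_s a).trans h) = c)
    (hc' : cmp G (inv' a') b' ((inv_s a').trans h') = c')
    (e : c = c') (ea : a = a') : b = b' := by
  have q : a ≫ G.s = c ≫ G.t := by rw [← hc, cmp_t, inv_t]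
  have q' : a' ≫ G.s = c' ≫ G.t := by rw [← hc', cmp_t, inv_t]
  have r : cmp G a c q = b := (cmp_congr₂ G _ _ rfl hc.symm).trans (cancel_left' a b h)
  have r' : cmp G a' c' q' = b' := (cmp_congr₂ G _ _ rfl hc'.symm).trans (cancel_left' a' b' h')
  exact r.symm.trans ((cmp_congr₂ G q q' ea e).trans r')

theorem left_unique {a a' b b' c c' : T ⟶ G.R} (h : a ≫ G.t = b ≫ G.t) (h' : a' ≫ G.t = b' ≫ G.t)
    (hc : cmp G (inv' a) b ((inv_s a).trans h) = c)
    (hc' : cmp G (inv' a') b' ((inv_s a').trans h') = c')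
    (e : c = c') (eb : b = b') : a = a' := by
  have q : a ≫ G.s = c ≫ G.t := by rw [← hc, cmp_t, inv_t]
  have q' : a' ≫ G.s = c' ≫ G.t := by rw [← hc', cmp_t, inv_t]
  have r : cmp G a c q = b := (cmp_congr₂ G _ _ rfl hc.symm).trans (cancel_left' a b h)
  have r' : cmp G a' c' q' = b' := (cmp_congr₂ G _ _ rfl hc'.symm).trans (cancel_left' a' b' h')
  exact (cancel_right a c q).symm.trans
    ((cmp_congr₂ G _ _ (r.trans (eb.trans r'.symm)) (congrArg inv' e)).trans (cancel_right a' c' q'))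

theorem back_eq {y μ ρ' : T ⟶ G.R} (h : y ≫ G.s = μ ≫ G.s)
    (hρ : cmp G y (inv' μ) (h.trans (inv_t μ).symm) = ρ')
    (h' : inv' ρ' ≫ G.s = y ≫ G.t) : cmp G (inv' ρ') y h' = μ := by
  have q : ρ' ≫ G.s = μ ≫ G.t := by rw [← hρ, cmp_s, inv_s]
  have r : cmp G ρ' μ q = y := (cmp_congr₂ G _ _ hρ.symm rfl).trans (cancel_right' y μ h)
  exact (cmp_congr₂ G _ _ rfl r.symm).trans (cancel_left ρ' μ q)

theorem comp_ρ₁ (n : T ⟶ D G g) :
    n ≫ ρ₁ G g = (n ≫ pullback.fst _ _) ≫ pullback.snd g G.t := (Category.assoc _ _ _).symm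

theorem comp_ρ₂ (n : T ⟶ D G g) :
    n ≫ ρ₂ G g = (n ≫ pullback.snd _ _) ≫ pullback.snd g G.t := (Category.assoc _ _ _).symm

theorem comp_fst_fst (n : T ⟶ D G g) :
    (n ≫ pullback.fst _ _) ≫ pullback.fst g G.t = (n ≫ pullback.snd _ _) ≫ pullback.fst g G.t := by
  rw [Category.assoc, Category.assoc, pullback.condition]

theorem eq_of_fst (n n' : T ⟶ D G g) (h1 : n ≫ pullback.fst _ _ = n' ≫ pullback.fst _ _)
    (h2 : n ≫ m G g = n' ≫ m G g) : n = n' := by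
  refine pullback.hom_ext h1 (pullback.hom_ext ?_ ?_)
  · rw [← comp_fst_fst, ← comp_fst_fst, h1]
  · rw [← comp_ρ₂, ← comp_ρ₂]
    exact right_unique G (ρ_t_comp G g n) (ρ_t_comp G g n')
      (comp_m' G g n).symm (comp_m' G g n').symm h2 (by rw [comp_ρ₁, comp_ρ₁, h1])

theorem eq_of_snd (n n' : T ⟶ D G g) (h1 : n ≫ pullback.snd _ _ = n' ≫ pullback.snd _ _)
    (h2 : n ≫ m G g = n' ≫ m G g) : n = n' := by
  refine pullback.hom_ext (pullback.hom_ext ?_ ?_) h1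
  · rw [comp_fst_fst, comp_fst_fst, h1]
  · rw [← comp_ρ₁, ← comp_ρ₁]
    exact left_unique G (ρ_t_comp G g n) (ρ_t_comp G g n')
      (comp_m' G g n).symm (comp_m' G g n').symm h2 (by rw [comp_ρ₂, comp_ρ₂, h1])

theorem exists_of_fst (x : T ⟶ P₀ G g) (μ : T ⟶ G.R)
    (h : (x ≫ pullback.snd g G.t) ≫ G.s = μ ≫ G.t) :
    ∃ n : T ⟶ D G g, n ≫ pullback.fst _ _ = x ∧ n ≫ m G g = μ := by
  let ρ' := cmp G (x ≫ pullback.snd g G.t) μ h
  have hρ : (x ≫ pullback.fst g G.t) ≫ g = ρ' ≫ G.t := by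
    rw [cmp_t, Category.assoc, Category.assoc, pullback.condition]
  refine ⟨pullback.lift (f := pullback.fst g G.t) (g := pullback.fst g G.t) x
    (pullback.lift (x ≫ pullback.fst g G.t) ρ' hρ) (pullback.lift_fst _ _ _).symm,
    pullback.lift_fst _ _ _, ?_⟩
  rw [comp_m G g _ (x ≫ pullback.snd g G.t) ρ'
    (by rw [comp_ρ₁, pullback.lift_fst])
    (by rw [comp_ρ₂, pullback.lift_snd, pullback.lift_snd])
    ((inv_s _).trans (cmp_t _ _ _).symm)]
  exact cancel_left _ _ h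

theorem exists_of_snd (x : T ⟶ P₀ G g) (μ : T ⟶ G.R)
    (h : (x ≫ pullback.snd g G.t) ≫ G.s = μ ≫ G.s) :
    ∃ n : T ⟶ D G g, n ≫ pullback.snd _ _ = x ∧ n ≫ m G g = μ := by
  let ρ' := cmp G (x ≫ pullback.snd g G.t) (inv' μ) (h.trans (inv_t μ).symm)
  have hρ : (x ≫ pullback.fst g G.t) ≫ g = ρ' ≫ G.t := by
    rw [cmp_t, Category.assoc, Category.assoc, pullback.condition]
  refine ⟨pullback.lift (f := pullback.fst g G.t) (g := pullback.fst g G.t)
    (pullback.lift (x ≫ pullback.fst g G.t) ρ' hρ) x (pullback.lift_fst _ _ _),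
    pullback.lift_snd _ _ _, ?_⟩
  rw [comp_m G g _ ρ' (x ≫ pullback.snd g G.t)
    (by rw [comp_ρ₁, pullback.lift_fst, pullback.lift_snd])
    (by rw [comp_ρ₂, pullback.lift_snd])
    ((inv_s _).trans (cmp_t _ _ _))]
  exact back_eq G h rfl _

theorem isPullback_fst :
    IsPullback (pullback.fst _ _) (m G g) (pullback.snd g G.t ≫ G.s) G.t := by
  refine ⟨⟨(m_t G g).symm⟩, ⟨?_⟩⟩
  choose l h1 h2 using fun c : PullbackCone (pullback.snd g G.t ≫ G.s) G.t ↦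
    exists_of_fst G g c.fst c.snd ((Category.assoc _ _ _).trans c.condition)
  exact PullbackCone.IsLimit.mk _ l h1 h2 fun c n e1 e2 ↦
    eq_of_fst G g n (l c) (e1.trans (h1 c).symm) (e2.trans (h2 c).symm)

theorem isPullback_snd :
    IsPullback (pullback.snd _ _) (m G g) (pullback.snd g G.t ≫ G.s) G.s := by
  refine ⟨⟨(m_s G g).symm⟩, ⟨?_⟩⟩
  choose l h1 h2 using fun c : PullbackCone (pullback.snd g G.t ≫ G.s) G.s ↦
    exists_of_snd G g c.fst c.snd ((Category.assoc _ _ _).trans c.condition)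
  exact PullbackCone.IsLimit.mk _ l h1 h2 fun c n e1 e2 ↦
    eq_of_snd G g n (l c) (e1.trans (h1 c).symm) (e2.trans (h2 c).symm)

variable (P Q R : MorphismProperty Scheme.{u}) [P.RespectsIso]
  (hRQ : R ≤ Q) [Q.IsStableUnderBaseChange] [Q.IsStableUnderComposition]
  (W : ∀ {X Y : Scheme.{u}} (f : X ⟶ Y), Q f → X.Opens)
  (hWP : ∀ {X Y : Scheme.{u}} (f : X ⟶ Y) (hf : Q f), P ((W f hf).ι ≫ f))
  (hWmax : ∀ {X Y : Scheme.{u}} (f : X ⟶ Y) (hf : Q f) (V : X.Opens), P (V.ι ≫ f) → V ≤ W f hf)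
  (hWbc : ∀ {X Y Y' : Scheme.{u}} (f : X ⟶ Y) (hf : Q f) (b : Y' ⟶ Y), R b →
    ∀ hf' : Q (pullback.snd f b), pullback.fst f b ⁻¹ᵁ W f hf = W (pullback.snd f b) hf')

include hWP hWmax in
theorem preimage_iso_le {X X' Y : Scheme.{u}} (e : X' ⟶ X) [IsIso e] (f : X ⟶ Y) (hf : Q f)
    (hf' : Q (e ≫ f)) : e ⁻¹ᵁ W f hf ≤ W (e ≫ f) hf' := by
  refine hWmax _ _ _ ?_
  have h : (e ⁻¹ᵁ W f hf).ι ≫ e ≫ f = (e ∣_ W f hf) ≫ (W f hf).ι ≫ f := by
    rw [morphismRestrict_ι_assoc]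
  rw [h]
  exact MorphismProperty.RespectsIso.precomp P _ _ (hWP f hf)

include hWP hWmax in
theorem preimage_iso {X X' Y : Scheme.{u}} (e : X' ⟶ X) [IsIso e] (f : X ⟶ Y) (hf : Q f)
    (g' : X' ⟶ Y) (hg : e ≫ f = g') (hf' : Q g') : W g' hf' = e ⁻¹ᵁ W f hf := by
  subst hg
  refine le_antisymm ?_ (preimage_iso_le P Q W hWP hWmax e f hf hf')
  have hf'' : Q (inv e ≫ e ≫ f) := by rw [IsIso.inv_hom_id_assoc]; exact hf
  have h1 := preimage_iso_le P Q W hWP hWmax (inv e) (e ≫ f) hf' hf''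
  have h2 : inv e ⁻¹ᵁ W (e ≫ f) hf' ≤ W f hf := by
    refine h1.trans (le_of_eq ?_)
    congr 1
    rw [IsIso.inv_hom_id_assoc]
  intro x hx
  refine h2 (show inv e (e x) ∈ W (e ≫ f) hf' from ?_)
  rw [← Scheme.Hom.comp_apply, IsIso.hom_inv_id]
  exact hx

include hWP hWmax hWbc in
theorem preimage_of_isPullback {A X Y Y' : Scheme.{u}} {a : A ⟶ X} {f' : A ⟶ Y'} {f : X ⟶ Y}
    {b : Y' ⟶ Y} (sq : IsPullback a f' f b) (hb : R b) (hf : Q f) (hf' : Q f') :
    a ⁻¹ᵁ W f hf = W f' hf' := by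
  have hp : Q (pullback.snd f b) := MorphismProperty.of_isPullback (IsPullback.of_hasPullback f b) hf
  rw [preimage_iso P Q W hWP hWmax sq.isoPullback.hom (pullback.snd f b) hp f'
    sq.isoPullback_hom_snd hf', ← hWbc f hf b hb hp, ← Scheme.Hom.comp_preimage,
    sq.isoPullback_hom_fst]

include hWP hWmax hWbc in
/-- The largest open of the translates is pulled back from `U'`. -/
theorem exists_open (hs : R G.s) (ht : R G.t) (hh : Q (pullback.snd g G.t ≫ G.s)) :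
    ∃ V : U'.Opens, pullback.fst g G.t ⁻¹ᵁ V = W (pullback.snd g G.t ≫ G.s) hh := by
  let σ : U' ⟶ P₀ G g := pullback.lift (𝟙 U') (g ≫ G.e) (by
    rw [Category.id_comp, Category.assoc, G.e_t, Category.comp_id])
  refine ⟨σ ⁻¹ᵁ W _ hh, ?_⟩
  have hm : Q (m G g) := MorphismProperty.of_isPullback (isPullback_fst G g) hh
  have h1 := preimage_of_isPullback P Q R W hWP hWmax hWbc (isPullback_fst G g) ht hh hm
  have h2 := preimage_of_isPullback P Q R W hWP hWmax hWbc (isPullback_snd G g) hs hh hm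
  let δ : P₀ G g ⟶ D G g := pullback.lift (pullback.fst g G.t ≫ σ) (𝟙 _) (by
    rw [Category.assoc, pullback.lift_fst, Category.comp_id, Category.id_comp])
  have := congrArg (δ ⁻¹ᵁ ·) (h1.trans h2.symm)
  simp only [← Scheme.Hom.comp_preimage, δ, pullback.lift_fst, pullback.lift_snd] at this
  rw [← Scheme.Hom.comp_preimage, this]
  rfl

end Groth.Agent.GrpQuot.LargestOpen
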