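import Groth.Agent.Lib.GrpQuot.Ring
import Groth.Agent.Lib.FinQuot.Scheme
import Groth.Agent.Lib.GrpdB.Calc
import Mathlib.AlgebraicGeometry.Morphisms.Integral
import Mathlib.AlgebraicGeometry.Morphisms.UniversallyOpen
import Mathlib.AlgebraicGeometry.PullbackCarrier
import Mathlib.FieldTheory.IsAlgClosed.AlgebraicClosure

/-!
# The quotient of an affine scheme by a finite locally free groupoid: points
-/

set_option autoImplicit false
set_option linter.style.haveILetI false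
set_option backward.isDefEq.respectTransparency.types false
universe u

open CategoryTheory CategoryTheory.Limits AlgebraicGeometry

namespace Groth.Agent.GrpQuot

open Groth.Agent.FinQuot Groth.Agent.GrpdB

variable {S : Scheme.{u}} (G : Grpd.GroupoidScheme S)

theorem i_i : G.i ≫ G.i = 𝟙 G.R := by
  have h₁ : (G.i ≫ G.i) ≫ G.s = G.i ≫ G.t := by rw [Category.assoc, G.i_s]
  have h₂ : 𝟙 G.R ≫ G.s = G.i ≫ G.t := by rw [Category.id_comp, G.i_t]
  rw [← cancel_right (G.i ≫ G.i) G.i h₁, ← cancel_right (𝟙 G.R) G.i h₂]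
  refine cmp_congr ?_ rfl _
  have e₁ : cmp G (G.i ≫ G.i) G.i h₁ = G.t ≫ G.e := by
    refine (G.i_comp G.i).trans ?_
    rw [← Category.assoc, G.i_s]
  have e₂ : cmp G (𝟙 G.R) G.i h₂ = G.t ≫ G.e := by
    refine (cmp_congr rfl (Category.id_comp G.i).symm _).trans ((G.comp_i (𝟙 G.R)).trans ?_)
    rw [Category.id_comp]
  rw [e₁, e₂]

instance isIso_i : IsIso G.i := ⟨G.i, i_i G, i_i G⟩

theorem isFinite_t [IsFinite G.s] : IsFinite G.t := by rw [← G.i_s]; infer_instance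
theorem flat_t [Flat G.s] : Flat G.t := by rw [← G.i_s]; infer_instance
theorem lfp_t [LocallyOfFinitePresentation G.s] : LocallyOfFinitePresentation G.t := by
  rw [← G.i_s]; infer_instance

/-- Preimage of the affine-point construction. -/
noncomputable def unpt {X : Scheme.{u}} [IsAffine X] {L : Type u} [CommRing L]
    (a : Spec (CommRingCat.of L) ⟶ X) : Γ(X, ⊤) →+* L := (exists_pt a).choose.hom

theorem pt_unpt {X : Scheme.{u}} [IsAffine X] {L : Type u} [CommRing L] (a : Spec (CommRingCat.of L) ⟶ X) :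
    pt (CommRingCat.ofHom (unpt a)) = a := (exists_pt a).choose_spec

theorem ptc {X Y : Scheme.{u}} [IsAffine X] [IsAffine Y] {L : Type u} [CommRing L] (φ : Γ(X, ⊤) →+* L)
    (f : X ⟶ Y) : pt (CommRingCat.ofHom φ) ≫ f = pt (CommRingCat.ofHom (φ.comp f.appTop.hom)) := by
  rw [pt_comp]; rfl

theorem pt_inj {X : Scheme.{u}} [IsAffine X] {L : Type u} [CommRing L] {φ ψ : Γ(X, ⊤) →+* L}
    (h : pt (CommRingCat.ofHom φ) = pt (CommRingCat.ofHom ψ)) : φ = ψ :=
  congrArg CommRingCat.Hom.hom (pt_injective h)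

theorem map_pt {X : Scheme.{u}} [IsAffine X] {L L' : Type u} [CommRing L] [CommRing L'] (g : L →+* L')
    (φ : Γ(X, ⊤) →+* L) :
    pt (CommRingCat.ofHom (g.comp φ)) = Spec.map (CommRingCat.ofHom g) ≫ pt (CommRingCat.ofHom φ) := by
  rw [pt, pt, ← Category.assoc, ← Spec.map_comp]; rfl

theorem appTop_comp_hom {X Y Z : Scheme.{u}} (f : X ⟶ Y) (g : Y ⟶ Z) :
    f.appTop.hom.comp g.appTop.hom = (f ≫ g).appTop.hom := by
  rw [Scheme.Hom.comp_appTop]; rfl

theorem appTop_id_hom (X : Scheme.{u}) : (𝟙 X : X ⟶ X).appTop.hom = RingHom.id _ := by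
  rw [Scheme.Hom.id_appTop]; rfl

theorem cmp_nat {T T' : Scheme.{u}} (f : T' ⟶ T) (a b : T ⟶ G.R) (h : a ≫ G.s = b ≫ G.t)
    {a' b' : T' ⟶ G.R} (ha : f ≫ a = a') (hb : f ≫ b = b') (h' : a' ≫ G.s = b' ≫ G.t) :
    f ≫ cmp G a b h = cmp G a' b' h' := by
  subst ha hb; exact comp_cmp _ _ _ _

section GrpR

variable [IsAffine G.U] [IsAffine G.R] {L : Type u} [CommRing L] (φ ψ : Γ(G.R, ⊤) →+* L)
  (h : φ.comp G.s.appTop.hom = ψ.comp G.t.appTop.hom)

theorem pt_cond (h : φ.comp G.s.appTop.hom = ψ.comp G.t.appTop.hom) :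
    pt (CommRingCat.ofHom φ) ≫ G.s = pt (CommRingCat.ofHom ψ) ≫ G.t :=
  (ptc φ G.s).trans ((congrArg (fun m => pt (CommRingCat.ofHom m)) h).trans (ptc ψ G.t).symm)

/-- Composition on ring points. -/
noncomputable def mulR : Γ(G.R, ⊤) →+* L :=
  unpt (cmp G (pt (CommRingCat.ofHom φ)) (pt (CommRingCat.ofHom ψ)) (pt_cond G φ ψ h))

theorem pt_mulR : pt (CommRingCat.ofHom (mulR G φ ψ h)) =
    cmp G (pt (CommRingCat.ofHom φ)) (pt (CommRingCat.ofHom ψ)) (pt_cond G φ ψ h) := pt_unpt _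

theorem mulR_s : (mulR G φ ψ h).comp G.s.appTop.hom = ψ.comp G.s.appTop.hom :=
  pt_inj ((ptc _ G.s).symm.trans ((congrArg (· ≫ G.s) (pt_mulR G φ ψ h)).trans
    ((cmp_s _ _ _).trans (ptc _ G.s))))

theorem mulR_t : (mulR G φ ψ h).comp G.t.appTop.hom = φ.comp G.t.appTop.hom :=
  pt_inj ((ptc _ G.t).symm.trans ((congrArg (· ≫ G.t) (pt_mulR G φ ψ h)).trans
    ((cmp_t _ _ _).trans (ptc _ G.t))))

theorem comp_mulR {L' : Type u} [CommRing L'] (g : L →+* L') :
    g.comp (mulR G φ ψ h) = mulR G (g.comp φ) (g.comp ψ)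
      (by rw [RingHom.comp_assoc, h, RingHom.comp_assoc]) :=
  pt_inj (by
    have e : ∀ (a : Spec (CommRingCat.of L) ⟶ G.R) (a' : Spec (CommRingCat.of L') ⟶ G.R)
        (x : Γ(G.R, ⊤) →+* L), pt (CommRingCat.ofHom x) = a →
        Spec.map (CommRingCat.ofHom g) ≫ a = a' → pt (CommRingCat.ofHom (g.comp x)) = a' :=
      fun a a' x e₁ e₂ => by subst e₁ e₂; exact map_pt g x
    exact (e _ _ _ (pt_mulR G φ ψ h) (cmp_nat G _ _ _ _ (map_pt g φ).symm (map_pt g ψ).symm _)).trans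
      (pt_mulR G (g.comp φ) (g.comp ψ) _).symm)

theorem appTop_i_t : G.i.appTop.hom.comp G.t.appTop.hom = G.s.appTop.hom := by
  rw [appTop_comp_hom, G.i_t]

theorem appTop_i_s : G.i.appTop.hom.comp G.s.appTop.hom = G.t.appTop.hom := by
  rw [appTop_comp_hom, G.i_s]

theorem mulR_cancel (χ : Γ(G.R, ⊤) →+* L) (h : χ.comp G.s.appTop.hom = ψ.comp G.s.appTop.hom) :
    mulR G (mulR G χ (ψ.comp G.i.appTop.hom) (by rw [h, RingHom.comp_assoc, appTop_i_t])) ψ
      (by rw [mulR_s, RingHom.comp_assoc, appTop_i_s]) = χ := by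
  have hχψ : pt (CommRingCat.ofHom χ) ≫ G.s = pt (CommRingCat.ofHom ψ) ≫ G.s := by
    rw [ptc, ptc, h]
  refine pt_inj ((pt_mulR G _ _ _).trans ?_)
  exact (cmp_congr ((pt_mulR G _ _ _).trans (cmp_congr rfl (ptc ψ G.i).symm _)) rfl _).trans
    (cancel_right' _ _ hχψ)

theorem mulR_cancel' :
    mulR G (mulR G φ ψ h) (ψ.comp G.i.appTop.hom) (by rw [mulR_s, RingHom.comp_assoc, appTop_i_t]) = φ := by
  refine pt_inj ((pt_mulR G _ _ _).trans ?_)
  exact (cmp_congr (pt_mulR G _ _ _) (ptc ψ G.i).symm _).trans (cancel_right _ _ _)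

end GrpR

/-- The ring-level groupoid of an affine groupoid scheme. -/
noncomputable def grpR [IsAffine G.U] [IsAffine G.R] :
    letI := G.s.appTop.hom.toAlgebra
    GrpR (A := Γ(G.U, ⊤)) (B := Γ(G.R, ⊤)) G.t.appTop.hom :=
  letI := G.s.appTop.hom.toAlgebra
  { mul := fun φ ψ h => mulR G φ ψ h
    mul_s := fun φ ψ h => mulR_s G φ ψ h
    mul_t := fun φ ψ h => mulR_t G φ ψ h
    comp_mul := fun g φ ψ h => comp_mulR G φ ψ h g
    one := G.e.appTop.hom
    one_s := by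
      show G.e.appTop.hom.comp G.s.appTop.hom = _
      rw [appTop_comp_hom, G.e_s, appTop_id_hom]
    one_t := by rw [appTop_comp_hom, G.e_t, appTop_id_hom]
    inv := G.i.appTop.hom
    inv_s := appTop_i_s G
    inv_t := appTop_i_t G
    cancel := fun χ ψ h => mulR_cancel G ψ χ h
    cancel' := fun χ ψ h => mulR_cancel' G χ ψ h }

theorem pt_toQuot [IsAffine G.U] {L : Type u} [CommRing L] (φ : Γ(G.U, ⊤) →+* L) :
    pt (CommRingCat.ofHom φ) ≫ G.toQuot = Spec.map (CommRingCat.ofHom (φ.comp G.invariants.subtype)) := by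
  show (Spec.map _ ≫ G.U.isoSpec.inv) ≫ G.U.toSpecΓ ≫ Spec.map _ = _
  rw [Category.assoc, Scheme.isoSpec_inv_toSpecΓ_assoc, ← Spec.map_comp]
  rfl

theorem t_toQuot : G.t ≫ G.toQuot = G.s ≫ G.toQuot := by
  show G.t ≫ G.U.toSpecΓ ≫ _ = G.s ≫ G.U.toSpecΓ ≫ _
  rw [Scheme.toSpecΓ_naturality_assoc, Scheme.toSpecΓ_naturality_assoc, ← Spec.map_comp, ← Spec.map_comp]
  congr 2
  ext c
  exact (c.2).symm

section

variable [IsAffine G.U] [IsFinite G.s] [Flat G.s] [LocallyOfFinitePresentation G.s]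

theorem isAffine_R : IsAffine G.R := isAffine_of_isAffineHom G.s

theorem algebra_props :
    letI := G.s.appTop.hom.toAlgebra
    Module.Finite Γ(G.U, ⊤) Γ(G.R, ⊤) ∧ Module.Projective Γ(G.U, ⊤) Γ(G.R, ⊤) := by
  haveI := isAffine_R G
  letI := G.s.appTop.hom.toAlgebra
  have hf : Module.Finite Γ(G.U, ⊤) Γ(G.R, ⊤) :=
    RingHom.finite_algebraMap.1 ((HasAffineProperty.iff_of_isAffine (P := @IsFinite)).1 ‹IsFinite G.s›).2
  have hfl : Module.Flat Γ(G.U, ⊤) Γ(G.R, ⊤) :=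
    RingHom.flat_algebraMap_iff.1 ((HasRingHomProperty.iff_of_isAffine (P := @Flat)).1 ‹Flat G.s›)
  have hfp : Algebra.FinitePresentation Γ(G.U, ⊤) Γ(G.R, ⊤) :=
    (HasRingHomProperty.iff_of_isAffine (P := @LocallyOfFinitePresentation)).1 ‹_›
  have : Module.FinitePresentation Γ(G.U, ⊤) Γ(G.R, ⊤) :=
    Module.FinitePresentation.of_finite_of_finitePresentation _ _
  exact ⟨hf, Module.Flat.projective_of_finitePresentation⟩

theorem isIntegral_invariants : Algebra.IsIntegral G.invariants Γ(G.U, ⊤) := by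
  haveI := isAffine_R G
  letI := G.s.appTop.hom.toAlgebra
  obtain ⟨h1, h2⟩ := algebra_props G
  haveI := h1; haveI := h2
  exact ⟨fun a => GrpQuot.isIntegral (grpR G) a⟩

theorem isIntegralHom_toQuot : IsIntegralHom G.toQuot := by
  haveI := isIntegral_invariants G
  have : IsIntegralHom (Spec.map (CommRingCat.ofHom G.invariants.subtype)) :=
    IsIntegralHom.SpecMap_iff.2 (fun x => this.isIntegral x)
  show IsIntegralHom (G.U.toSpecΓ ≫ _)
  infer_instance

theorem surjective_toQuot : Surjective G.toQuot := by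
  haveI := isIntegral_invariants G
  have : Surjective (Spec.map (CommRingCat.ofHom G.invariants.subtype)) := by
    refine ⟨?_⟩
    haveI : FaithfulSMul G.invariants Γ(G.U, ⊤) :=
      (faithfulSMul_iff_algebraMap_injective _ _).2 Subtype.val_injective
    exact Algebra.IsIntegral.comap_surjective G.invariants Γ(G.U, ⊤)
  show Surjective (G.U.toSpecΓ ≫ _)
  infer_instance

variable {K : Type u} [Field K] [IsAlgClosed K]

theorem exists_arrow_of_toQuot_eq (x₀ x₁ : Spec (CommRingCat.of K) ⟶ G.U) :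
    x₀ ≫ G.toQuot = x₁ ≫ G.toQuot ↔ ∃ r : Spec (CommRingCat.of K) ⟶ G.R, r ≫ G.t = x₀ ∧ r ≫ G.s = x₁ := by
  refine ⟨fun h => ?_, ?_⟩
  · haveI := isAffine_R G
    letI := G.s.appTop.hom.toAlgebra
    obtain ⟨h1, h2⟩ := algebra_props G
    haveI := h1; haveI := h2
    rw [← pt_unpt x₀, ← pt_unpt x₁, pt_toQuot, pt_toQuot] at h
    have h' := congrArg CommRingCat.Hom.hom (Spec.map_injective h)
    obtain ⟨φ, hs, ht⟩ := exists_arrow (grpR G) (x := unpt x₁) (y := unpt x₀)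
      (fun c hc => (RingHom.congr_fun h' ⟨c, hc⟩).symm)
    refine ⟨pt (CommRingCat.ofHom φ), ?_, ?_⟩
    · rw [ptc, ht, pt_unpt]
    · rw [ptc]
      exact (congrArg (fun m => pt (CommRingCat.ofHom m)) hs).trans (pt_unpt _)
  · rintro ⟨r, rfl, rfl⟩
    rw [Category.assoc, Category.assoc, t_toQuot]

theorem exists_lift_toQuot (m : Spec (CommRingCat.of K) ⟶ Spec (CommRingCat.of G.invariants)) :
    ∃ x : Spec (CommRingCat.of K) ⟶ G.U, x ≫ G.toQuot = m := by
  haveI := isIntegralHom_toQuot G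
  haveI := surjective_toQuot G
  set P := pullback G.toQuot m
  haveI : IsAffine P := isAffine_of_isAffineHom (pullback.snd G.toQuot m)
  obtain ⟨z, -⟩ := (pullback.snd G.toQuot m).surjective (IsLocalRing.closedPoint K)
  haveI : Nonempty P := ⟨z⟩
  let ρ := (Scheme.ΓSpecIso (CommRingCat.of K)).inv ≫ (pullback.snd G.toQuot m).appTop
  letI := ρ.hom.toAlgebra
  haveI : Algebra.IsIntegral K Γ(P, ⊤) := Algebra.isIntegral_def.2 fun x => (show ρ.hom.IsIntegral by
    refine RingHom.IsIntegral.trans _ _ ?_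
      ((pullback.snd G.toQuot m).isIntegral_app ⊤ (isAffineOpen_top _))
    exact RingHom.isIntegral_of_surjective _ (Scheme.ΓSpecIso (CommRingCat.of K)).commRingCatIsoToRingEquiv.symm.surjective) x
  haveI : Nonempty (⊤ : P.Opens) := ⟨⟨z, trivial⟩⟩
  haveI : Nontrivial Γ(P, ⊤) := inferInstance
  obtain ⟨I, hI⟩ := Ideal.exists_maximal Γ(P, ⊤)
  letI := Ideal.Quotient.field I
  let e : K ≃ₐ[K] (Γ(P, ⊤) ⧸ I) := AlgEquiv.ofBijective (Algebra.ofId K _)
    IsAlgClosed.algebraMap_bijective_of_isIntegral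
  let ε : Γ(P, ⊤) →+* K := e.symm.toRingHom.comp (Ideal.Quotient.mk I)
  refine ⟨pt (CommRingCat.ofHom ε) ≫ pullback.fst _ _, ?_⟩
  rw [Category.assoc, pullback.condition, ← Category.assoc]
  have : pt (CommRingCat.ofHom ε) ≫ pullback.snd G.toQuot m = 𝟙 _ := by
    rw [pt_comp, pt, Scheme.isoSpec_Spec_inv, ← Spec.map_comp, ← Spec.map_id]
    congr 1
    ext a
    exact (congrArg e.symm (Ideal.Quotient.mk_algebraMap (R₁ := K) I a)).trans (e.symm.commutes a)
  rw [this, Category.id_comp]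

theorem surjective_lift :
    Function.Surjective (pullback.lift G.t G.s (t_toQuot G)).base := by
  intro z
  let Z := pullback G.toQuot G.toQuot
  let k := AlgebraicClosure (Z.residueField z)
  let zk : Spec (CommRingCat.of k) ⟶ Z :=
    Spec.map (CommRingCat.ofHom (algebraMap (Z.residueField z) k)) ≫ Z.fromSpecResidueField z
  obtain ⟨r, hrt, hrs⟩ := (exists_arrow_of_toQuot_eq G (zk ≫ pullback.fst _ _) (zk ≫ pullback.snd _ _)).1
    (by simp only [Category.assoc, pullback.condition])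
  have : r ≫ pullback.lift G.t G.s (t_toQuot G) = zk := by
    apply pullback.hom_ext
    · rw [Category.assoc, pullback.lift_fst, hrt]
    · rw [Category.assoc, pullback.lift_snd, hrs]
  refine ⟨r (IsLocalRing.closedPoint k), ?_⟩
  have h := congrArg (fun m : Spec (CommRingCat.of k) ⟶ Z => m (IsLocalRing.closedPoint k)) this
  exact h.trans (Z.fromSpecResidueField_apply z _)

theorem toQuot_eq_iff (u₀ u₁ : G.U) :
    G.toQuot u₀ = G.toQuot u₁ ↔ ∃ r : G.R, G.t r = u₀ ∧ G.s r = u₁ := by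
  refine ⟨fun h => ?_, ?_⟩
  · obtain ⟨z, hz₁, hz₂⟩ := Scheme.Pullback.exists_preimage_pullback u₀ u₁ h
    obtain ⟨r, rfl⟩ := surjective_lift G z
    refine ⟨r, ?_, ?_⟩
    · rw [← hz₁, ← Scheme.Hom.comp_apply, pullback.lift_fst]
    · rw [← hz₂, ← Scheme.Hom.comp_apply, pullback.lift_snd]
  · rintro ⟨r, rfl, rfl⟩
    rw [← Scheme.Hom.comp_apply, ← Scheme.Hom.comp_apply, t_toQuot]

theorem isOpenMap_toQuot : IsOpenMap G.toQuot.base := by
  intro W hW
  haveI := isIntegralHom_toQuot G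
  haveI := flat_t G
  haveI := lfp_t G
  rw [← (G.toQuot.isClosedMap.isQuotientMap G.toQuot.continuous (surjective_toQuot G).surj).isOpen_preimage]
  have : G.toQuot.base ⁻¹' (G.toQuot.base '' W) = G.t.base '' (G.s.base ⁻¹' W) := by
    ext u
    constructor
    · rintro ⟨w, hw, e⟩
      obtain ⟨r, hr1, hr2⟩ := (toQuot_eq_iff G u w).1 e.symm
      exact ⟨r, show G.s r ∈ W from hr2 ▸ hw, hr1⟩
    · rintro ⟨r, hr, rfl⟩
      exact ⟨G.s r, hr, ((toQuot_eq_iff G _ _).2 ⟨r, rfl, rfl⟩).symm⟩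
  rw [this]
  exact G.t.isOpenMap _ (hW.preimage G.s.continuous)

end

end Groth.Agent.GrpQuot
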