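import Mathlib.FieldTheory.IsAlgClosed.Classification
import Mathlib.FieldTheory.IsAlgClosed.AlgebraicClosure
import Mathlib.SetTheory.Cardinal.Basic

/-!
# Large algebraically closed fields: all embeddings of a small field are conjugate
-/

set_option autoImplicit false
set_option linter.style.haveILetI false
universe u

open Cardinal

namespace Groth.Agent.GrpQuot

theorem exists_algEquiv_of_transcendenceBasis {R K L ι κ : Type u} [CommRing R] [Field K] [Field L] [Algebra R K]
    [Algebra R L] [IsAlgClosed K] [IsAlgClosed L] {v : ι → K} {w : κ → L} (hv : IsTranscendenceBasis R v)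
    (hw : IsTranscendenceBasis R w) (e : ι ≃ κ) : Nonempty (K ≃ₐ[R] L) := by
  letI := IsAlgClosed.isAlgClosure_of_transcendence_basis v hv
  letI := IsAlgClosed.isAlgClosure_of_transcendence_basis w hw
  let f : Algebra.adjoin R (Set.range v) ≃ₐ[R] Algebra.adjoin R (Set.range w) :=
    hv.1.aevalEquiv.symm.trans ((MvPolynomial.renameEquiv R e).trans hw.1.aevalEquiv)
  refine ⟨AlgEquiv.ofRingEquiv (f := IsAlgClosure.equivOfEquiv K L f.toRingEquiv) fun r => ?_⟩
  rw [IsScalarTower.algebraMap_apply R (Algebra.adjoin R (Set.range v)) K, IsAlgClosure.equivOfEquiv_algebraMap]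
  show algebraMap _ L (f (algebraMap R _ r)) = _
  rw [AlgEquiv.commutes, ← IsScalarTower.algebraMap_apply]

/-- In a large algebraically closed field, all embeddings of a small field are conjugate. -/
theorem exists_aut_comp_eq {k K : Type u} [Field k] [Field K] [IsAlgClosed K] (hK : ℵ₀ < #K) (hk : #k < #K)
    (i j : k →+* K) : ∃ β : K ≃+* K, β.toRingHom.comp i = j := by
  have key : ∀ (f : k →+* K), letI := f.toAlgebra; ∃ (ι : Type u) (v : ι → K), IsTranscendenceBasis k v ∧ #ι = #K := by
    intro f
    letI := f.toAlgebra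
    obtain ⟨ι, v, hv⟩ := exists_isTranscendenceBasis' k K
    refine ⟨ι, v, hv, le_antisymm (Cardinal.mk_le_of_injective hv.1.injective) ?_⟩
    by_contra hlt
    exact absurd (IsAlgClosed.cardinal_le_max_transcendence_basis' v hv)
      (not_le.2 (max_lt (max_lt hk (not_le.1 hlt)) hK))
  obtain ⟨ι, v, hv, hι⟩ := key i
  obtain ⟨κ, w, hw, hκ⟩ := key j
  obtain ⟨e⟩ := Cardinal.eq.1 (hι.trans hκ.symm)
  obtain ⟨E⟩ := @exists_algEquiv_of_transcendenceBasis k K K ι κ _ _ _ i.toAlgebra j.toAlgebra _ _ v w hv hw e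
  exact ⟨@AlgEquiv.toRingEquiv k K K _ _ _ i.toAlgebra j.toAlgebra E,
    RingHom.ext fun x => @AlgEquiv.commutes k K K _ _ _ i.toAlgebra j.toAlgebra E x⟩

/-- Every field has large algebraically closed extensions. -/
theorem exists_large_extension (F k : Type u) [Field F] :
    ∃ (K : Type u) (_ : Field K) (_ : IsAlgClosed K) (_ : F →+* K), ℵ₀ < #K ∧ #k < #K := by
  let J : Type u := Set (k ⊕ ULift.{u} ℕ)
  let K := AlgebraicClosure (FractionRing (MvPolynomial J F))
  have hinj : Function.Injective (fun j : J =>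
      algebraMap (FractionRing (MvPolynomial J F)) K (algebraMap (MvPolynomial J F) _ (MvPolynomial.X j))) :=
    (algebraMap (FractionRing (MvPolynomial J F)) K).injective.comp
      ((IsFractionRing.injective (MvPolynomial J F) (FractionRing (MvPolynomial J F))).comp MvPolynomial.X_injective)
  have hJ : #(k ⊕ ULift.{u} ℕ) < #J := by rw [Cardinal.mk_set]; exact Cardinal.cantor _
  have hJK : #J ≤ #K := Cardinal.mk_le_of_injective hinj
  refine ⟨K, inferInstance, inferInstance, (algebraMap (FractionRing (MvPolynomial J F)) K).comp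
    ((algebraMap (MvPolynomial J F) _).comp MvPolynomial.C), ?_, ?_⟩
  · refine lt_of_le_of_lt ?_ (hJ.trans_le hJK)
    simp [Cardinal.mk_sum]
  · refine lt_of_le_of_lt ?_ (hJ.trans_le hJK)
    simp [Cardinal.mk_sum]

end Groth.Agent.GrpQuot
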