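import Groth.Agent.Lib.GrpQuot.Restrict
import Groth.Agent.Lib.GrpQuot.Invariant
import Mathlib.AlgebraicGeometry.Gluing
import Mathlib.AlgebraicGeometry.Morphisms.Integral

/-!
# Gluing the quotients of the invariant affine opens
-/

set_option autoImplicit false
set_option linter.style.haveILetI false
set_option linter.unusedSectionVars false
set_option backward.isDefEq.respectTransparency.types false
universe u

open CategoryTheory CategoryTheory.Limits AlgebraicGeometry TopologicalSpace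

noncomputable section

namespace Groth.Agent.GrpQuot

open Groth.Agent.GrpdB

variable {S : Scheme.{u}} {G : Grpd.GroupoidScheme S}

theorem mem_iff_of_arrow {W : G.U.Opens} (hW : G.s ⁻¹ᵁ W = G.t ⁻¹ᵁ W) {r : G.R} {x y : G.U}
    (hx : G.t r = x) (hy : G.s r = y) : x ∈ W ↔ y ∈ W := by
  subst hx hy
  exact (SetLike.ext_iff.1 hW r).symm

/-- Restriction to a smaller invariant open. -/
theorem IsQuot.exists_restr {V W : G.U.Opens} {Y : Scheme.{u}} {p : V.toScheme ⟶ Y} (h : IsQuot G V.ι p)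
    (hW : G.s ⁻¹ᵁ W = G.t ⁻¹ᵁ W) (hle : W ≤ V) :
    ∃ (Y₀ : Y.Opens) (q : W.toScheme ⟶ Y₀.toScheme),
      q ≫ Y₀.ι = G.U.homOfLE hle ≫ p ∧ IsQuot G W.ι q := by
  let A : V.toScheme.Opens := V.ι ⁻¹ᵁ W
  let Y₀ : Y.Opens := ⟨p '' (A : Set V), h.isOpenMap _ A.2⟩
  have hrange : (G.U.homOfLE hle).opensRange = A := Scheme.opensRange_homOfLE hle
  have hpre : p ⁻¹ᵁ Y₀ = A := by
    ext x
    constructor
    · rintro ⟨a, ha, e⟩
      obtain ⟨r, h1, h2⟩ := h.fibres a x e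
      exact (mem_iff_of_arrow hW h1 h2).1 ha
    · exact fun hx => ⟨x, hx, rfl⟩
  let q : W.toScheme ⟶ Y₀.toScheme := IsOpenImmersion.lift Y₀.ι (G.U.homOfLE hle ≫ p) (by
    rintro _ ⟨z, rfl⟩
    rw [Scheme.Opens.range_ι, Scheme.Hom.comp_apply]
    exact ⟨G.U.homOfLE hle z, (SetLike.ext_iff.1 hrange _).1 ⟨z, rfl⟩, rfl⟩)
  have hq : q ≫ Y₀.ι = G.U.homOfLE hle ≫ p := IsOpenImmersion.lift_fac _ _ _
  refine ⟨Y₀, q, hq, ?_⟩
  have sq := IsOpenImmersion.isPullback q (G.U.homOfLE hle) Y₀.ι p hq.symm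
    (by rw [Scheme.Opens.opensRange_ι, hpre, hrange])
  simpa only [Scheme.homOfLE_ι] using h.restrict Y₀.ι (G.U.homOfLE hle) q sq

variable (G)

/-- Invariant opens with a quotient. -/
structure Chart where
  W : G.U.Opens
  inv : G.s ⁻¹ᵁ W = G.t ⁻¹ᵁ W
  ex : ∃ (M : Scheme.{u}) (p : W.toScheme ⟶ M), IsQuot G W.ι p

variable {G}

namespace Chart

def M (c : Chart G) : Scheme.{u} := c.ex.choose

def p (c : Chart G) : c.W.toScheme ⟶ c.M := c.ex.choose_spec.choose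

theorem isQuot (c : Chart G) : IsQuot G c.W.ι c.p := c.ex.choose_spec.choose_spec

instance : Preorder (Chart G) := Preorder.lift Chart.W

theorem inv_homOfLE {c d : Chart G} (h : c.W ≤ d.W) : Inv G c.W.ι (G.U.homOfLE h ≫ d.p) := by
  intro T r x y hx hy
  rw [← Category.assoc, ← Category.assoc]
  exact d.isQuot.inv r _ _ (by rw [Category.assoc, Scheme.homOfLE_ι, hx]) (by rw [Category.assoc, Scheme.homOfLE_ι, hy])

def map {c d : Chart G} (h : c.W ≤ d.W) : c.M ⟶ d.M := (c.isQuot.descTop _ (inv_homOfLE h)).choose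

theorem p_map {c d : Chart G} (h : c.W ≤ d.W) : c.p ≫ map h = G.U.homOfLE h ≫ d.p :=
  (c.isQuot.descTop _ (inv_homOfLE h)).choose_spec.1

theorem map_comp {c d e : Chart G} (h : c.W ≤ d.W) (h' : d.W ≤ e.W) :
    map (h.trans h') = map h ≫ map h' := by
  refine c.isQuot.hom_ext ?_
  rw [p_map, reassoc_of% p_map h, p_map h', ← Category.assoc, Scheme.homOfLE_homOfLE]

theorem map_id (c : Chart G) : map (le_refl c.W) = 𝟙 c.M := by
  refine c.isQuot.hom_ext ?_
  rw [p_map, Scheme.homOfLE_rfl, Category.id_comp, Category.comp_id]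

theorem isOpenImmersion_map {c d : Chart G} (h : c.W ≤ d.W) : IsOpenImmersion (map h) := by
  obtain ⟨Y₀, q, hq, hQ⟩ := d.isQuot.exists_restr c.inv h
  obtain ⟨φ, hφ, -⟩ := c.isQuot.descTop q hQ.inv
  obtain ⟨ψ, hψ, -⟩ := hQ.descTop c.p c.isQuot.inv
  have : IsIso φ := ⟨ψ,
    c.isQuot.hom_ext (by rw [reassoc_of% hφ, hψ, Category.comp_id]),
    hQ.hom_ext (by rw [reassoc_of% hψ, hφ, Category.comp_id])⟩
  have e : map h = φ ≫ Y₀.ι := c.isQuot.hom_ext (by rw [p_map, reassoc_of% hφ, hq])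
  rw [e]; infer_instance

/-- A smaller invariant open as a chart. -/
def sub (d : Chart G) (W : G.U.Opens) (hW : G.s ⁻¹ᵁ W = G.t ⁻¹ᵁ W) (hle : W ≤ d.W) : Chart G :=
  ⟨W, hW, by
    obtain ⟨Y₀, q, -, hQ⟩ := d.isQuot.exists_restr hW hle
    exact ⟨_, q, hQ⟩⟩

/-- The intersection of two charts. -/
def inf (c d : Chart G) : Chart G :=
  c.sub (c.W ⊓ d.W) (by rw [Scheme.Hom.preimage_inf, Scheme.Hom.preimage_inf, c.inv, d.inv]) inf_le_left

end Chart

variable (G)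

/-- The diagram of the quotients of the charts. -/
def diagram : Chart G ⥤ Scheme.{u} where
  obj c := c.M
  map f := Chart.map f.le
  map_id c := Chart.map_id c
  map_comp f g := Chart.map_comp f.le g.le

instance isOpenImmersion_diagram_map {c d : Chart G} (f : c ⟶ d) : IsOpenImmersion ((diagram G).map f) :=
  Chart.isOpenImmersion_map _

variable {G}

theorem exists_mem_inf {c d e : Chart G} (hc : c.W ≤ e.W) (hd : d.W ≤ e.W) {a : c.W} {b : d.W}
    (h : Chart.map hc (c.p a) = Chart.map hd (d.p b)) :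
    ∃ z : (c.inf d).W, Chart.map (c := c.inf d) inf_le_left ((c.inf d).p z) = c.p a ∧
      Chart.map (c := c.inf d) inf_le_right ((c.inf d).p z) = d.p b := by
  have hp : ∀ {i j : Chart G} (hij : i.W ≤ j.W) (z : i.W), Chart.map hij (i.p z) = j.p (G.U.homOfLE hij z) :=
    fun hij z => by rw [← Scheme.Hom.comp_apply, Chart.p_map, Scheme.Hom.comp_apply]
  rw [hp, hp] at h
  obtain ⟨r, h1, h2⟩ := e.isQuot.fibres _ _ h
  rw [← Scheme.Hom.comp_apply, Scheme.homOfLE_ι] at h1 h2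
  have had : a.1 ∈ d.W := (mem_iff_of_arrow d.inv h1 h2).2 b.2
  let z : (c.inf d).W := ⟨a.1, a.2, had⟩
  refine ⟨z, ?_, ?_⟩
  · rw [hp]
    congr 1
    refine c.W.ι.isOpenEmbedding.injective ?_
    rw [← Scheme.Hom.comp_apply, Scheme.homOfLE_ι]
    rfl
  · haveI := Chart.isOpenImmersion_map hd
    refine (Chart.map hd).isOpenEmbedding.injective ?_
    rw [hp, hp hd b, ← h, hp hd]
    congr 1
    refine e.W.ι.isOpenEmbedding.injective ?_
    simp only [← Scheme.Hom.comp_apply, Category.assoc, Scheme.homOfLE_ι]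
    rfl

instance isLocallyDirected_diagram : (diagram G ⋙ Scheme.forget).IsLocallyDirected := ⟨by
  intro c d e fi fj xi xj h
  obtain ⟨a, rfl⟩ := c.isQuot.surj xi
  obtain ⟨b, rfl⟩ := d.isQuot.surj xj
  obtain ⟨z, h1, h2⟩ := exists_mem_inf fi.le fj.le h
  exact ⟨c.inf d, homOfLE (show (c.inf d).W ≤ c.W from inf_le_left),
    homOfLE (show (c.inf d).W ≤ d.W from inf_le_right), _, h1, h2⟩⟩

variable (G)

/-- The glued quotient. -/
abbrev Quot : Scheme.{u} := colimit (diagram G)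

variable {G}

abbrev Chart.ι (c : Chart G) : c.M ⟶ Quot G := colimit.ι (diagram G) c

instance Chart.isOpenImmersion_ι (c : Chart G) : IsOpenImmersion c.ι :=
  inferInstanceAs (IsOpenImmersion (colimit.ι (diagram G) c))

theorem Chart.map_ι {c d : Chart G} (h : c.W ≤ d.W) : Chart.map h ≫ d.ι = c.ι :=
  colimit.w (diagram G) (homOfLE h)

theorem exists_arrow_of_ι_eq {c d : Chart G} {a : c.W} {b : d.W} (h : c.ι (c.p a) = d.ι (d.p b)) :
    ∃ r : G.R, G.t r = a.1 ∧ G.s r = b.1 := by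
  obtain ⟨k, fi, fj, x, hx₁, hx₂⟩ := (Scheme.IsLocallyDirected.ι_eq_ι_iff (diagram G)).1 h
  obtain ⟨z, rfl⟩ := k.isQuot.surj x
  have hp : ∀ {j : Chart G} (f : k ⟶ j), (diagram G).map f (k.p z) = j.p (G.U.homOfLE f.le z) := fun {j} f => by
    show Chart.map f.le (k.p z) = _
    rw [← Scheme.Hom.comp_apply, Chart.p_map, Scheme.Hom.comp_apply]
  rw [hp] at hx₁ hx₂
  obtain ⟨r₁, h1, h2⟩ := c.isQuot.fibres _ _ hx₁.symm
  obtain ⟨r₂, h3, h4⟩ := d.isQuot.fibres _ _ hx₂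
  rw [← Scheme.Hom.comp_apply, Scheme.homOfLE_ι] at h2 h3
  obtain ⟨r, h5, h6⟩ := exists_comp_point r₁ r₂ (h2.trans h3.symm)
  exact ⟨r, h5.trans h1, h6.trans h4⟩

variable (hcov : ∀ x : G.U, ∃ c : Chart G, x ∈ c.W)

/-- The cover of `U` by charts. -/
def cover : G.U.OpenCover :=
  Scheme.Cover.mkOfCovers (Chart G) (fun c => c.W.toScheme) (fun c => c.W.ι)
    (fun x => ⟨(hcov x).choose, ⟨x, (hcov x).choose_spec⟩, rfl⟩) (fun _ => inferInstance)

theorem cover_compat (c d : Chart G) :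
    pullback.fst c.W.ι d.W.ι ≫ c.p ≫ c.ι = pullback.snd c.W.ι d.W.ι ≫ d.p ≫ d.ι := by
  have key : ∀ {i : Chart G} (h : (c.inf d).W ≤ i.W),
      G.U.homOfLE h ≫ i.p ≫ i.ι = (c.inf d).p ≫ (c.inf d).ι := fun h => by
    rw [← Category.assoc, ← Chart.p_map h, Category.assoc, Chart.map_ι]
  have sq := isPullback_opens_inf c.W d.W
  rw [← cancel_epi sq.isoPullback.hom, IsPullback.isoPullback_hom_fst_assoc,
    IsPullback.isoPullback_hom_snd_assoc]
  exact (key (i := c) inf_le_left).trans (key (i := d) inf_le_right).symm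

/-- The quotient map. -/
def toGlued : G.U ⟶ Quot G := (cover hcov).glueMorphisms (fun c => c.p ≫ c.ι) cover_compat

theorem ι_toGlued (c : Chart G) : c.W.ι ≫ toGlued hcov = c.p ≫ c.ι :=
  (cover hcov).ι_glueMorphisms _ _ c

theorem toGlued_apply (c : Chart G) (a : c.W) : toGlued hcov a.1 = c.ι (c.p a) := by
  rw [← Scheme.Hom.comp_apply, ← ι_toGlued hcov, Scheme.Hom.comp_apply]; rfl

theorem toGlued_eq_iff (x y : G.U) : toGlued hcov x = toGlued hcov y ↔ ∃ r : G.R, G.t r = x ∧ G.s r = y := by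
  constructor
  · intro h
    obtain ⟨c, hx⟩ := hcov x
    obtain ⟨d, hy⟩ := hcov y
    rw [toGlued_apply hcov c ⟨x, hx⟩, toGlued_apply hcov d ⟨y, hy⟩] at h
    exact exists_arrow_of_ι_eq h
  · rintro ⟨r, rfl, rfl⟩
    obtain ⟨c, hc⟩ := hcov (G.t r)
    have hs : G.s r ∈ c.W := (mem_iff_of_arrow c.inv rfl rfl).1 hc
    rw [toGlued_apply hcov c ⟨_, hc⟩, toGlued_apply hcov c ⟨_, hs⟩]
    exact congrArg c.ι ((Inv.apply_eq (fun r x y hx hy => c.isQuot.inv r x y hx hy) ⟨_, hc⟩ ⟨_, hs⟩ r rfl rfl))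

theorem isPullback_toGlued (c : Chart G) : IsPullback c.p c.W.ι c.ι (toGlued hcov) := by
  refine IsOpenImmersion.isPullback c.p c.W.ι c.ι (toGlued hcov) (ι_toGlued hcov c) ?_
  rw [Scheme.Opens.opensRange_ι]
  ext x
  constructor
  · rintro ⟨z, hz⟩
    obtain ⟨a, rfl⟩ := c.isQuot.surj z
    rw [← toGlued_apply hcov c a] at hz
    obtain ⟨r, h1, h2⟩ := (toGlued_eq_iff hcov _ _).1 hz
    exact (mem_iff_of_arrow c.inv h1 h2).1 a.2
  · exact fun hx => ⟨c.p ⟨x, hx⟩, (toGlued_apply hcov c ⟨x, hx⟩).symm⟩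

theorem surjective_toGlued : Surjective (toGlued hcov) := ⟨fun y => by
  obtain ⟨c, z, rfl⟩ := Scheme.IsLocallyDirected.ι_jointly_surjective (diagram G) y
  obtain ⟨a, rfl⟩ := c.isQuot.surj z
  exact ⟨a.1, toGlued_apply hcov c a⟩⟩

theorem isOpenMap_toGlued : IsOpenMap (toGlued hcov).base := by
  intro A hA
  have : (toGlued hcov).base '' A = ⋃ c : Chart G, c.ι '' (c.p '' (c.W.ι ⁻¹' A)) := by
    ext y
    constructor
    · rintro ⟨x, hx, rfl⟩
      obtain ⟨c, hc⟩ := hcov x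
      exact Set.mem_iUnion.2 ⟨c, _, ⟨⟨x, hc⟩, hx, rfl⟩, (toGlued_apply hcov c ⟨x, hc⟩).symm⟩
    · intro hy
      obtain ⟨c, _, ⟨a, ha, rfl⟩, rfl⟩ := Set.mem_iUnion.1 hy
      exact ⟨a.1, ha, toGlued_apply hcov c a⟩
  rw [this]
  exact isOpen_iUnion fun c => c.ι.isOpenEmbedding.isOpenMap _
    (c.isQuot.isOpenMap _ (hA.preimage c.W.ι.continuous))

theorem t_toGlued : G.t ≫ toGlued hcov = G.s ≫ toGlued hcov := by
  refine Scheme.Cover.hom_ext (Scheme.Cover.mkOfCovers (Chart G) (fun c => (G.s ⁻¹ᵁ c.W).toScheme)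
    (fun c => (G.s ⁻¹ᵁ c.W).ι) (fun r => ⟨(hcov (G.s r)).choose, ⟨r, (hcov (G.s r)).choose_spec⟩, rfl⟩)
    (fun _ => inferInstance)) _ _ fun c => ?_
  show (G.s ⁻¹ᵁ c.W).ι ≫ G.t ≫ toGlued hcov = (G.s ⁻¹ᵁ c.W).ι ≫ G.s ≫ toGlued hcov
  rw [← tO_ι_assoc G c.W c.inv, ← sO_ι_assoc, ι_toGlued, ← Category.assoc, ← Category.assoc (sO G c.W),
    c.isQuot.inv (G.s ⁻¹ᵁ c.W).ι _ _ (tO_ι G c.W c.inv) (sO_ι G c.W)]

theorem exists_desc_glued {Z : Scheme.{u}} (ψ : G.U ⟶ Z) (hψ : G.t ≫ ψ = G.s ≫ ψ) :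
    ∃! g : Quot G ⟶ Z, toGlued hcov ≫ g = ψ := by
  have hinv : ∀ c : Chart G, Inv G c.W.ι (c.W.ι ≫ ψ) := fun c T r x y hx hy => by
    rw [← Category.assoc, ← Category.assoc, hx, hy, Category.assoc, Category.assoc, hψ]
  choose g hg hg' using fun c : Chart G => c.isQuot.descTop _ (hinv c)
  let s : Cocone (diagram G) :=
    { pt := Z
      ι := { app := g
             naturality := fun c d f => by
              refine c.isQuot.hom_ext ?_
              show c.p ≫ Chart.map f.le ≫ g d = c.p ≫ g c ≫ 𝟙 Z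
              rw [← Category.assoc, Chart.p_map, Category.assoc, hg, Category.comp_id, hg, Scheme.homOfLE_ι_assoc] } }
  refine ⟨colimit.desc _ s, ?_, fun g' hg₂ => ?_⟩
  · refine Scheme.Cover.hom_ext (cover hcov) _ _ fun c => ?_
    show c.W.ι ≫ toGlued hcov ≫ _ = c.W.ι ≫ ψ
    rw [← Category.assoc, ι_toGlued, Category.assoc]
    exact (congrArg (c.p ≫ ·) (colimit.ι_desc s c)).trans (hg c)
  · refine colimit.hom_ext fun c => ?_
    rw [colimit.ι_desc]
    refine hg' c _ ?_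
    show c.p ≫ c.ι ≫ g' = _
    rw [← Category.assoc, ← ι_toGlued hcov, Category.assoc, hg₂]

theorem surjective_lift_glued :
    Function.Surjective (pullback.lift G.t G.s (t_toGlued hcov)).base := by
  intro z
  let Z := pullback (toGlued hcov) (toGlued hcov)
  let k := AlgebraicClosure (Z.residueField z)
  let pt₀ : Spec (CommRingCat.of k) := IsLocalRing.closedPoint k
  let zk : Spec (CommRingCat.of k) ⟶ Z :=
    Spec.map (CommRingCat.ofHom (algebraMap (Z.residueField z) k)) ≫ Z.fromSpecResidueField z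
  let x := zk ≫ pullback.fst _ _
  let y := zk ≫ pullback.snd _ _
  have hxy : x ≫ toGlued hcov = y ≫ toGlued hcov := by simp only [x, y, Category.assoc, pullback.condition]
  obtain ⟨c, hc⟩ := hcov (x pt₀)
  have hmem : ∀ w : Spec (CommRingCat.of k), x w ∈ c.W ∧ y w ∈ c.W := by
    intro w
    rw [Subsingleton.elim w pt₀]
    refine ⟨hc, ?_⟩
    have := congr($(hxy) pt₀)
    rw [Scheme.Hom.comp_apply, Scheme.Hom.comp_apply] at this
    obtain ⟨r, h1, h2⟩ := (toGlued_eq_iff hcov _ _).1 this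
    exact (mem_iff_of_arrow c.inv h1 h2).1 hc
  let a := IsOpenImmersion.lift c.W.ι x (by rintro _ ⟨w, rfl⟩; rw [Scheme.Opens.range_ι]; exact (hmem w).1)
  let b := IsOpenImmersion.lift c.W.ι y (by rintro _ ⟨w, rfl⟩; rw [Scheme.Opens.range_ι]; exact (hmem w).2)
  obtain ⟨r, hr₁, hr₂⟩ := c.isQuot.pts a b (by
    rw [← cancel_mono c.ι, Category.assoc, Category.assoc, ← ι_toGlued hcov, IsOpenImmersion.lift_fac_assoc,
      IsOpenImmersion.lift_fac_assoc, hxy])
  rw [IsOpenImmersion.lift_fac] at hr₁ hr₂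
  have : r ≫ pullback.lift G.t G.s (t_toGlued hcov) = zk := by
    apply pullback.hom_ext
    · rw [Category.assoc, pullback.lift_fst, hr₁]
    · rw [Category.assoc, pullback.lift_snd, hr₂]
  refine ⟨r pt₀, ?_⟩
  exact (congr($(this) pt₀)).trans (Z.fromSpecResidueField_apply z _)

section

variable [IsFinite G.s] [Flat G.s] [LocallyOfFinitePresentation G.s]

theorem exists_affine_chart (hb : ∀ x : G.U, ∃ V : G.U.Opens, IsAffineOpen V ∧
    G.t.base '' (G.s.base ⁻¹' {x}) ⊆ (V : Set G.U)) (x : G.U) :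
    ∃ c : Chart G, x ∈ c.W ∧ ∃ (M : Scheme.{u}) (q : c.W.toScheme ⟶ M), IsIntegralHom q ∧ IsQuot G c.W.ι q := by
  obtain ⟨V, hV, hxV⟩ := hb x
  obtain ⟨W, hWa, hxW, -, hWi⟩ := exists_invariant_affine x V hV (fun r hr => hxV ⟨r, hr, rfl⟩)
  obtain ⟨M, q, -, hq, hQ⟩ := exists_quot_of_isAffineOpen G W hWa hWi
  exact ⟨⟨W, hWi, M, q, hQ⟩, hxW, M, q, hq, hQ⟩

theorem isIntegralHom_toGlued (hb : ∀ x : G.U, ∃ V : G.U.Opens, IsAffineOpen V ∧
    G.t.base '' (G.s.base ⁻¹' {x}) ⊆ (V : Set G.U)) : IsIntegralHom (toGlued hcov) := by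
  choose c hc M q hq hQ using exists_affine_chart (G := G) hb
  let 𝒱 : (Quot G).OpenCover := Scheme.Cover.mkOfCovers G.U (fun x => (c x).M) (fun x => (c x).ι) (fun y => by
    obtain ⟨x, rfl⟩ := (surjective_toGlued hcov).surj y
    exact ⟨x, (c x).p ⟨x, hc x⟩, (toGlued_apply hcov (c x) ⟨x, hc x⟩).symm⟩) (fun _ => inferInstance)
  refine IsZariskiLocalAtTarget.of_openCover 𝒱 fun x => ?_
  have sq := (isPullback_toGlued hcov (c x)).flip
  show IsIntegralHom (pullback.snd (toGlued hcov) (c x).ι)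
  rw [← sq.isoPullback_inv_snd]
  haveI : IsIntegralHom (c x).p := by
    obtain ⟨φ, hφ, -⟩ := (c x).isQuot.descTop (q x) (hQ x).inv
    obtain ⟨χ, hχ, -⟩ := (hQ x).descTop (c x).p (c x).isQuot.inv
    have : IsIso χ := ⟨φ,
      (hQ x).hom_ext (by rw [reassoc_of% hχ, hφ, Category.comp_id]),
      (c x).isQuot.hom_ext (by rw [reassoc_of% hφ, hχ, Category.comp_id])⟩
    haveI := hq x
    rw [← hχ]; infer_instance
  infer_instance

end

end Groth.Agent.GrpQuot
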