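import Groth.Agent.Lib.GrpQuot.Ring
import Mathlib.LinearAlgebra.Matrix.SchurComplement
import Mathlib.RingTheory.Flat.Basic
import Mathlib.RingTheory.LocalRing.ResidueField.Ideal
import Mathlib.RingTheory.Ideal.GoingUp

/-!
# Invariants and base change
-/

set_option autoImplicit false
set_option linter.style.haveILetI false
universe u

namespace Groth.Agent.GrpQuot

open Groth.Agent.FinQuot TensorProduct Matrix

variable {A B : Type u} [CommRing A] [CommRing B] [Algebra A B] (R : Retr A B)

theorem matL_sub' {L : Type u} [CommRing L] (x : A →+* L) (z w : Fib x B) :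
    R.matL x (z - w) = R.matL x z - R.matL x w :=
  eq_sub_of_add_eq (by rw [← matL_add, sub_add_cancel])

theorem det_matL_equiv {L : Type u} [CommRing L] {x y : A →+* L} (e : Fib x B ≃ₐ[L] Fib y B)
    (z : Fib x B) :
    (1 - R.matL x 1 + R.matL x z).det = (1 - R.matL y 1 + R.matL y (e z)).det := by
  let P := LinearMap.toMatrix' (R.iL x ∘ₗ e.symm.toLinearMap ∘ₗ R.rL y)
  let Q := LinearMap.toMatrix' (R.iL y ∘ₗ e.toLinearMap ∘ₗ LinearMap.mulLeft L (z - 1) ∘ₗ R.rL x)
  have h₁ : 1 - R.matL x 1 + R.matL x z = 1 + P * Q := by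
    rw [sub_add_eq_add_sub, add_sub_assoc, ← matL_sub', matL_eq, ← LinearMap.toMatrix'_comp]
    congr 2
    refine LinearMap.ext fun v => ?_
    simp [R.rL_iL]
  have h₂ : 1 - R.matL y 1 + R.matL y (e z) = 1 + Q * P := by
    rw [sub_add_eq_add_sub, add_sub_assoc, ← matL_sub', ← map_one e, ← map_sub, matL_eq,
      ← LinearMap.toMatrix'_comp]
    congr 2
    refine LinearMap.ext fun v => ?_
    simp [R.rL_iL]
  rw [h₁, h₂, Matrix.det_one_add_mul_comm]

/-- The generic modified determinant. -/
noncomputable def detGen (t : A →+* B) {n : ℕ} (a : Fin n → A) : MvPolynomial (Fin n) A :=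
  (1 - (R.mat 1).map MvPolynomial.C +
    ∑ j, (MvPolynomial.X j : MvPolynomial (Fin n) A) • (R.mat (t (a j))).map MvPolynomial.C).det

variable {t : A →+* B}

theorem detGen_invariant (h : GrpR t) {n : ℕ} (a : Fin n → A) (m : Fin n →₀ ℕ) :
    (detGen R t a).coeff m ∈ RingHom.eqLocus (algebraMap A B) t := by
  let L := MvPolynomial (Fin n) B
  obtain ⟨e, he⟩ := exists_iso (L := L) h (MvPolynomial.C) rfl rfl
  have key : ∀ (f : A →+* B),
      (1 - R.matL ((MvPolynomial.C (σ := Fin n)).comp f) 1 +
        R.matL ((MvPolynomial.C (σ := Fin n)).comp f)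
          (∑ j, (MvPolynomial.X j : L) • inB _ (t (a j)))).det =
        MvPolynomial.map f (detGen R t a) := by
    intro f
    rw [matL_sum, detGen, RingHom.map_det, RingHom.mapMatrix_apply]
    congr 1
    rw [show (1 : Fib ((MvPolynomial.C (σ := Fin n)).comp f) B) = inB _ 1 from (map_one _).symm,
      matL_eq, R.toMatrix'_mulLeft]
    ext k l
    rcases eq_or_ne k l with rfl | hkl <;> simp [Matrix.sum_apply, *]
  have h' := det_matL_equiv R e
    (∑ j, (MvPolynomial.X j : L) • inB ((MvPolynomial.C (σ := Fin n)).comp (algebraMap A B)) (t (a j)))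
  rw [map_sum] at h'
  simp only [map_smul, he] at h'
  rw [key, key] at h'
  have := congrArg (fun p => MvPolynomial.coeff m p) h'
  erw [MvPolynomial.coeff_map, MvPolynomial.coeff_map] at this
  exact this

theorem map_detGen {L : Type*} [CommRing L] (g : A →+* L) {n : ℕ} (a : Fin n → A) (c : Fin n → L) :
    MvPolynomial.eval₂Hom g c (detGen R t a) =
      (1 - (R.mat 1).map g + ∑ j, c j • (R.mat (t (a j))).map g).det := by
  rw [detGen, RingHom.map_det, RingHom.mapMatrix_apply]
  congr 1
  ext k l
  rcases eq_or_ne k l with rfl | hkl <;> simp [Matrix.sum_apply, *]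

/-- The rank polynomial. -/
noncomputable def rankPoly : Polynomial A :=
  (1 - (R.mat 1).map (Polynomial.C : A →+* Polynomial A) +
    (Polynomial.X : Polynomial A) • (R.mat 1).map (Polynomial.C : A →+* Polynomial A)).det

theorem eval₂_rankPoly {L : Type*} [CommRing L] (g : A →+* L) (u : L) :
    (rankPoly R).eval₂ g u = (1 - (R.mat 1).map g + u • (R.mat 1).map g).det := by
  rw [← Polynomial.coe_eval₂RingHom, rankPoly, RingHom.map_det, RingHom.mapMatrix_apply]
  congr 1
  ext k l
  rcases eq_or_ne k l with rfl | hkl <;> simp [*] <;> ring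

theorem rankPoly_mul {L : Type*} [CommRing L] (g : A →+* L) (u v : L) :
    (rankPoly R).eval₂ g (u * v) = (rankPoly R).eval₂ g u * (rankPoly R).eval₂ g v := by
  rw [eval₂_rankPoly, eval₂_rankPoly, eval₂_rankPoly, ← Matrix.det_mul]
  congr 1
  set E := (R.mat 1).map g with hE
  have hEE : E * E = E := by
    rw [hE, ← Matrix.map_mul, ← R.mat_mul, one_mul]
  simp only [Matrix.add_mul, Matrix.mul_add, Matrix.sub_mul, Matrix.mul_sub, Matrix.one_mul,
    Matrix.mul_one, Matrix.smul_mul, Matrix.mul_smul, hEE]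
  module

theorem rankPoly_eval_one : (rankPoly R).eval 1 = 1 := by
  rw [← Polynomial.eval₂_id, eval₂_rankPoly]
  simp

theorem rankPoly_coeff_zero (one : B →+* A) (one_s : ∀ a, one (algebraMap A B a) = a) :
    (rankPoly R).coeff 0 = 0 := by
  have h0 : (rankPoly R).coeff 0 = (1 - R.mat 1).det := by
    rw [Polynomial.coeff_zero_eq_eval_zero, ← Polynomial.eval₂_id, eval₂_rankPoly]
    simp
  have h1 : (1 - R.mat 1) *ᵥ R.i 1 = 0 := by
    rw [sub_mulVec, one_mulVec, R.mat_mulVec_i, one_mul, sub_self]
  have h2 := congrArg ((1 - R.mat 1).adjugate *ᵥ ·) h1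
  simp only [mulVec_mulVec, Matrix.adjugate_mul, smul_mulVec, one_mulVec, mulVec_zero] at h2
  have h3 := congrArg R.r h2
  rw [map_smul, R.ri, map_zero, Algebra.smul_def, mul_one] at h3
  have h4 : algebraMap A B ((rankPoly R).coeff 0) = 0 := by rw [h0]; exact h3
  have h5 := congrArg one h4
  rw [map_zero, one_s] at h5
  exact h5

theorem rankPoly_coeff_mul (s : ℕ) :
    rankPoly R * Polynomial.C ((rankPoly R).coeff s) =
      Polynomial.C ((rankPoly R).coeff s) * Polynomial.X ^ s := by
  have h := rankPoly_mul R (Polynomial.C.comp Polynomial.C : A →+* Polynomial (Polynomial A))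
    (Polynomial.C Polynomial.X) Polynomial.X
  have h1 : (rankPoly R).eval₂ (Polynomial.C.comp Polynomial.C) (Polynomial.C Polynomial.X) =
      Polynomial.C (rankPoly R) := by
    rw [← Polynomial.hom_eval₂, Polynomial.eval₂_C_X]
  have h2 : (rankPoly R).eval₂ (Polynomial.C.comp Polynomial.C)
      (Polynomial.X : Polynomial (Polynomial A)) = (rankPoly R).map Polynomial.C := rfl
  have h3 : (rankPoly R).eval₂ (Polynomial.C.comp Polynomial.C)
      (Polynomial.C Polynomial.X * Polynomial.X : Polynomial (Polynomial A)) =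
      ((rankPoly R).map Polynomial.C).comp (Polynomial.C Polynomial.X * Polynomial.X) := by
    rw [Polynomial.comp, Polynomial.eval₂_map]
  rw [h1, h2, h3] at h
  have := congrArg (fun p => Polynomial.coeff p s) h
  simp only [Polynomial.coeff_C_mul, Polynomial.coeff_map] at this
  rw [Polynomial.comp_C_mul_X_coeff, Polynomial.coeff_map] at this
  exact this.symm

theorem rankPoly_pow_mul {L : Type*} [CommRing L] (g : A →+* L) (u : L) (s k : ℕ) :
    g ((rankPoly R).coeff s) * (rankPoly R).eval₂ g u ^ k =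
      g ((rankPoly R).coeff s) * u ^ (s * k) := by
  have h := congrArg (Polynomial.eval₂ g u) (rankPoly_coeff_mul R s)
  simp only [Polynomial.eval₂_mul, Polynomial.eval₂_C, Polynomial.eval₂_X_pow] at h
  induction k with
  | zero => simp
  | succ k ih =>
    rw [pow_succ, ← mul_assoc, ih, mul_assoc, mul_comm (u ^ (s * k)), ← mul_assoc,
      mul_comm (g _) (Polynomial.eval₂ g u _), h, mul_assoc, ← pow_add]
    ring_nf

theorem matrix_combine {L L' : Type*} [CommRing L] [CommRing L'] (g : A →+* L) (h : L →+* L')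
    (X : L') (f : L) {n N : ℕ} (c : Fin n → L) (E : Matrix (Fin N) (Fin N) A)
    (M : Fin n → Matrix (Fin N) (Fin N) A)
    (hM : ∑ i, c i • (M i).map g = f • E.map g) :
    X • E.map (h.comp g) + ∑ i, -h (c i) • (M i).map (h.comp g) =
      (X - h f) • E.map (h.comp g) := by
  refine Matrix.ext fun k l => ?_
  have e := congrArg (fun Q : Matrix (Fin N) (Fin N) L => h (Q k l)) hM
  simp only [Matrix.sum_apply, Matrix.smul_apply, Matrix.map_apply, smul_eq_mul, map_sum,
    map_mul] at e
  simp only [Matrix.add_apply, Matrix.smul_apply, Matrix.sum_apply, Matrix.map_apply, smul_eq_mul,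
    RingHom.comp_apply, neg_mul, Finset.sum_neg_distrib, e]
  ring

section BaseChange

variable (h : GrpR t) (C : Subring A) (hC : ∀ a, a ∈ C ↔ algebraMap A B a = t a)
  (C' : Type u) [CommRing C'] [Algebra C C']

theorem exists_lift_coeff {σ : Type*} (q : MvPolynomial σ A) (hq : ∀ m, q.coeff m ∈ C) :
    ∃ p : MvPolynomial σ C, MvPolynomial.map C.subtype p = q := by
  classical
  refine ⟨∑ m ∈ q.support, MvPolynomial.monomial m ⟨q.coeff m, hq m⟩, ?_⟩
  rw [map_sum]
  conv_rhs => rw [q.as_sum]
  exact Finset.sum_congr rfl fun m _ => by rw [MvPolynomial.map_monomial]; rfl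

variable [Algebra C B] [IsScalarTower C A B]

include h hC in
set_option maxHeartbeats 800000 in
/-- Invariants of a base change are purely radical over the new base. -/
theorem exists_pow_eq [Module.Finite A B] [Module.Projective A B]
    (sT tT : A ⊗[C] C' →ₐ[C] B ⊗[C] C') (hsT : ∀ a c, sT (a ⊗ₜ c) = algebraMap A B a ⊗ₜ c)
    (htT : ∀ a c, tT (a ⊗ₜ c) = t a ⊗ₜ c) (f : A ⊗[C] C') (hf : sT f = tT f) :
    ∃ (m : ℕ) (P : Polynomial C'), 0 < m ∧
      Polynomial.map (Algebra.TensorProduct.includeRight : C' →ₐ[C] A ⊗[C] C').toRingHom P =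
        (Polynomial.X - Polynomial.C f) ^ m := by
  classical
  obtain ⟨R⟩ := nonempty_retr (A := A) (B := B)
  obtain ⟨n, a, c, hfs⟩ : ∃ (n : ℕ) (a : Fin n → A) (c : Fin n → C'), f = ∑ j, a j ⊗ₜ c j := by
    obtain ⟨S, hS⟩ := TensorProduct.exists_finset f
    exact ⟨_, fun j => (S.equivFin.symm j).1.1, fun j => (S.equivFin.symm j).1.2, by
      rw [hS, Equiv.sum_comp S.equivFin.symm (fun p => p.1.1 ⊗ₜ[C] p.1.2),
        Finset.sum_coe_sort S (fun p => p.1 ⊗ₜ[C] p.2)]⟩
  let ι := (Algebra.TensorProduct.includeRight : C' →ₐ[C] A ⊗[C] C').toRingHom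
  let j : A →+* A ⊗[C] C' := Algebra.TensorProduct.includeLeftRingHom
  let κ : C →+* C' := algebraMap C C'
  have hκ : ι.comp κ = j.comp C.subtype := RingHom.ext fun x => by
    show (Algebra.TensorProduct.includeRight : C' →ₐ[C] A ⊗[C] C') (algebraMap C C' x) = _
    rw [AlgHom.commutes]
    rfl
  -- the operators at `f`
  have hM : ∑ i, ι (c i) • (R.mat (t (a i))).map j = f • (R.mat 1).map j := by
    ext k l
    let L : B →ₗ[C] A :=
      { toFun := fun b => R.mat b k l
        map_add' := fun b b' => by rw [R.mat_add]; rfl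
        map_smul' := fun x b => by
          rw [← IsScalarTower.algebraMap_smul A x b, R.mat_smul]
          rfl }
    have e := congrArg (L.rTensor C') hf
    rw [hfs] at e
    simp only [map_sum, hsT, htT, LinearMap.rTensor_tmul] at e
    rw [Matrix.sum_apply, hfs, Matrix.smul_apply, smul_eq_mul, Finset.sum_mul, Matrix.map_apply]
    refine Eq.trans (Finset.sum_congr rfl fun i _ => ?_) (e.symm.trans (Finset.sum_congr rfl fun i _ => ?_))
    · show ((1 : A) ⊗ₜ[C] c i) * (R.mat (t (a i)) k l ⊗ₜ[C] (1 : C')) = R.mat (t (a i)) k l ⊗ₜ[C] c i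
      rw [Algebra.TensorProduct.tmul_mul_tmul, one_mul, mul_one]
    · show R.mat (algebraMap A B (a i)) k l ⊗ₜ[C] c i =
        (a i ⊗ₜ[C] c i) * (R.mat 1 k l ⊗ₜ[C] (1 : C'))
      rw [Algebra.TensorProduct.tmul_mul_tmul, mul_one, Algebra.algebraMap_eq_smul_one, R.mat_smul]
      rfl
  obtain ⟨q, hq⟩ := exists_lift_coeff C (detGen R t (Fin.cons 1 a))
    fun m => (hC _).2 (detGen_invariant R h _ m)
  let P := MvPolynomial.eval₂Hom (Polynomial.C.comp κ)
    (Fin.cons Polynomial.X fun i => -Polynomial.C (c i) : Fin (n + 1) → Polynomial C') q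
  let u : Polynomial (A ⊗[C] C') := Polynomial.X - Polynomial.C f
  have hP : P.map ι = (rankPoly R).eval₂ (Polynomial.C.comp j) u := by
    have e1 : P.map ι = MvPolynomial.eval₂Hom (Polynomial.C.comp j)
        (Fin.cons Polynomial.X fun i => -Polynomial.C (ι (c i)) : Fin (n + 1) → Polynomial (A ⊗[C] C'))
        (detGen R t (Fin.cons 1 a)) := by
      rw [← hq, ← Polynomial.coe_mapRingHom, MvPolynomial.map_eval₂Hom, MvPolynomial.coe_eval₂Hom,
        MvPolynomial.coe_eval₂Hom, MvPolynomial.eval₂_map]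
      congr 1
      · refine RingHom.ext fun x => ?_
        simp only [RingHom.comp_apply, Polynomial.coe_mapRingHom, Polynomial.map_C]
        exact congrArg Polynomial.C (RingHom.congr_fun hκ x)
      · funext i
        refine Fin.cases ?_ (fun i => ?_) i <;> simp
    rw [e1, map_detGen, eval₂_rankPoly, Fin.sum_univ_succ]
    simp only [Fin.cons_zero, Fin.cons_succ, map_one]
    exact congrArg Matrix.det (congrArg (_ + ·) (matrix_combine j Polynomial.C (Polynomial.X :
      Polynomial (A ⊗[C] C')) f (fun i => ι (c i)) (R.mat 1) (fun i => R.mat (t (a i))) hM))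

  have hD : ∀ s, (rankPoly R).coeff s ∈ C := fun s => (hC _).2 (by
    have h0 := detGen_invariant R h (fun _ : Fin 1 => (1 : A)) (Finsupp.single 0 s)
    have e : detGen R t (fun _ : Fin 1 => (1 : A)) =
        (rankPoly R).eval₂ MvPolynomial.C (MvPolynomial.X 0) := by
      rw [eval₂_rankPoly, detGen]
      simp
    rw [e, Polynomial.eval₂_eq_sum_range, MvPolynomial.coeff_sum, Finset.sum_eq_single s] at h0
    · rw [MvPolynomial.coeff_C_mul, MvPolynomial.coeff_X_pow, if_pos rfl, mul_one] at h0
      exact h0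
    · intro b _ hb
      rw [MvPolynomial.coeff_C_mul, MvPolynomial.coeff_X_pow, if_neg, mul_zero]
      exact fun hh => hb (by simpa using congrArg (fun g => g 0) hh)
    · intro hs
      rw [Polynomial.coeff_eq_zero_of_natDegree_lt (by simpa using hs)]
      simp)
  let supp := (rankPoly R).support
  let m := ∏ s ∈ supp, s
  have h0supp : (0 : ℕ) ∉ supp := by
    rw [Polynomial.mem_support_iff, not_not]
    exact rankPoly_coeff_zero R h.one fun a => RingHom.congr_fun h.one_s a
  refine ⟨m, ∑ s ∈ supp, Polynomial.C (κ ⟨_, hD s⟩) * P ^ (m / s),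
    Finset.prod_pos fun s hs => Nat.pos_of_ne_zero fun e => h0supp (e ▸ hs), ?_⟩
  have hsum : ∑ s ∈ supp, (rankPoly R).coeff s = 1 := by
    have := rankPoly_eval_one R
    rw [Polynomial.eval_eq_sum, Polynomial.sum_def] at this
    simpa using this
  show Polynomial.map ι _ = u ^ m
  rw [Polynomial.map_sum]
  calc _ = ∑ s ∈ supp, (Polynomial.C.comp j) ((rankPoly R).coeff s) * u ^ m := by
        refine Finset.sum_congr rfl fun s hs => ?_
        have hds : s * (m / s) = m := Nat.mul_div_cancel' (Finset.dvd_prod_of_mem _ hs)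
        rw [Polynomial.map_mul, Polynomial.map_pow, hP, Polynomial.map_C]
        conv_rhs => rw [← hds, ← rankPoly_pow_mul R (Polynomial.C.comp j) u s (m / s)]
        exact congrArg (Polynomial.C · * _) (RingHom.congr_fun hκ ⟨_, hD s⟩)
    _ = u ^ m := by rw [← Finset.sum_mul, ← map_sum, hsum, map_one, one_mul]

end BaseChange

theorem isNilpotent_of_includeRight_eq_zero {C A : Type u} [CommRing C] [CommRing A] [Algebra C A]
    [Algebra.IsIntegral C A] (hinj : Function.Injective (algebraMap C A))
    (C' : Type u) [CommRing C'] [Algebra C C'] (c : C')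
    (hc : (Algebra.TensorProduct.includeRight : C' →ₐ[C] A ⊗[C] C') c = 0) : IsNilpotent c := by
  rw [nilpotent_iff_mem_prime]
  intro p _
  let p₀ := p.comap (algebraMap C C')
  obtain ⟨Q, -, _, hQ⟩ := Ideal.exists_ideal_over_prime_of_isIntegral p₀ (⊥ : Ideal A) (by
    rw [← RingHom.ker_eq_comap_bot, (RingHom.injective_iff_ker_eq_bot _).1 hinj]
    exact bot_le)
  by_contra hcp
  let K := Q.ResidueField
  let k' := p.ResidueField
  letI : Algebra p₀.ResidueField K := (Ideal.ResidueField.map p₀ Q (algebraMap C A) hQ.symm).toAlgebra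
  letI : Algebra p₀.ResidueField k' := (Ideal.ResidueField.map p₀ p (algebraMap C C') rfl).toAlgebra
  haveI : IsScalarTower C p₀.ResidueField K := IsScalarTower.of_algebraMap_eq fun x => by
    rw [IsScalarTower.algebraMap_apply C A K, RingHom.algebraMap_toAlgebra]
    exact (Ideal.ResidueField.map_algebraMap _ _ _ _ x).symm
  haveI : IsScalarTower C p₀.ResidueField k' := IsScalarTower.of_algebraMap_eq fun x => by
    rw [IsScalarTower.algebraMap_apply C C' k', RingHom.algebraMap_toAlgebra]
    exact (Ideal.ResidueField.map_algebraMap _ _ _ _ x).symm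
  let φ : A ⊗[C] C' →ₐ[C] K ⊗[p₀.ResidueField] k' :=
    Algebra.TensorProduct.lift
      (((Algebra.TensorProduct.includeLeft : K →ₐ[p₀.ResidueField] K ⊗[p₀.ResidueField] k').restrictScalars C).comp
        (IsScalarTower.toAlgHom C A K))
      (((Algebra.TensorProduct.includeRight : k' →ₐ[p₀.ResidueField] K ⊗[p₀.ResidueField] k').restrictScalars C).comp
        (IsScalarTower.toAlgHom C C' k'))
      (fun _ _ => Commute.all _ _)
  have h1 := congrArg φ hc
  rw [map_zero] at h1
  simp only [φ, Algebra.TensorProduct.includeRight_apply, Algebra.TensorProduct.lift_tmul, map_one,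
    one_mul] at h1
  have h2 : algebraMap C' k' c = 0 :=
    Algebra.TensorProduct.includeRight_injective (A := K) (B := k')
      (RingHom.injective (algebraMap p₀.ResidueField K)) (h1.trans (map_zero _).symm)
  exact hcp (by
    have := congrArg (fun I : Ideal C' => c ∈ I) (Ideal.ker_algebraMap_residueField p)
    simp only [RingHom.mem_ker] at this
    exact this ▸ h2)

end Groth.Agent.GrpQuot
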