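import Groth.Agent.Lib.GrpQuot.Affine
import Groth.Agent.Lib.GITQuot.Basic

/-!
# Quotients by groupoid schemes: the predicate, and the affine case
-/

set_option autoImplicit false
set_option linter.style.haveILetI false
set_option linter.unusedSectionVars false
set_option backward.isDefEq.respectTransparency.types false
universe u

open CategoryTheory CategoryTheory.Limits AlgebraicGeometry TopologicalSpace

namespace Groth.Agent.GrpQuot

variable {S : Scheme.{u}} (G : Grpd.GroupoidScheme S)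

/-- `ψ` takes equal values on points of `O` joined by an arrow. -/
def Inv {O Z : Scheme.{u}} (j : O ⟶ G.U) (ψ : O ⟶ Z) : Prop :=
  ∀ {T : Scheme.{u}} (r : T ⟶ G.R) (x y : T ⟶ O), x ≫ j = r ≫ G.t → y ≫ j = r ≫ G.s → x ≫ ψ = y ≫ ψ

theorem Inv.comp {O O' Z : Scheme.{u}} {j : O ⟶ G.U} {ψ : O ⟶ Z} (h : Inv G j ψ) (k : O' ⟶ O) :
    Inv G (k ≫ j) (k ≫ ψ) := fun r x y hx hy => by
  rw [← Category.assoc, ← Category.assoc]
  exact h r _ _ (by rw [Category.assoc, hx]) (by rw [Category.assoc, hy])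

variable {G} in
theorem Inv.apply_eq {O Z : Scheme.{u}} {j : O ⟶ G.U} [IsOpenImmersion j] {ψ : O ⟶ Z} (h : Inv G j ψ)
    (x y : O) (r : G.R) (hx : G.t r = j x) (hy : G.s r = j y) : ψ x = ψ y := by
  let T := Spec (G.R.residueField r)
  let a := IsOpenImmersion.lift j (G.R.fromSpecResidueField r ≫ G.t) (by
    rintro _ ⟨z, rfl⟩; exact ⟨x, by rw [Scheme.Hom.comp_apply, G.R.fromSpecResidueField_apply r z, hx]⟩)
  let b := IsOpenImmersion.lift j (G.R.fromSpecResidueField r ≫ G.s) (by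
    rintro _ ⟨z, rfl⟩; exact ⟨y, by rw [Scheme.Hom.comp_apply, G.R.fromSpecResidueField_apply r z, hy]⟩)
  have hab := h (G.R.fromSpecResidueField r) a b (IsOpenImmersion.lift_fac _ _ _) (IsOpenImmersion.lift_fac _ _ _)
  let pt₀ : T := IsLocalRing.closedPoint (G.R.residueField r)
  have ha : a pt₀ = x := j.isOpenEmbedding.injective (by
    rw [← Scheme.Hom.comp_apply, IsOpenImmersion.lift_fac, Scheme.Hom.comp_apply,
      G.R.fromSpecResidueField_apply r pt₀, hx])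
  have hb : b pt₀ = y := j.isOpenEmbedding.injective (by
    rw [← Scheme.Hom.comp_apply, IsOpenImmersion.lift_fac, Scheme.Hom.comp_apply,
      G.R.fromSpecResidueField_apply r pt₀, hy])
  rw [← ha, ← hb]
  exact congr($(hab) pt₀)

/-- A quotient of the part `O` of `U`. -/
structure IsQuot {O Y : Scheme.{u}} (j : O ⟶ G.U) (p : O ⟶ Y) : Prop where
  inv : Inv G j p
  surj : Function.Surjective p
  isOpenMap : IsOpenMap p
  pts : ∀ {K : Type u} [Field K] [IsAlgClosed K] (x y : Spec (CommRingCat.of K) ⟶ O), x ≫ p = y ≫ p →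
    ∃ r : Spec (CommRingCat.of K) ⟶ G.R, r ≫ G.t = x ≫ j ∧ r ≫ G.s = y ≫ j
  fibres : ∀ x y : O, p x = p y → ∃ r : G.R, G.t r = j x ∧ G.s r = j y
  desc : ∀ {W O' Z : Scheme.{u}} (g₀ : W ⟶ Y) [IsOpenImmersion g₀] (k : O' ⟶ O) (q : O' ⟶ W),
    IsPullback q k g₀ p → ∀ ψ : O' ⟶ Z, Inv G (k ≫ j) ψ → ∃! g : W ⟶ Z, q ≫ g = ψ

variable {G}

theorem IsQuot.descTop {O Y Z : Scheme.{u}} {j : O ⟶ G.U} {p : O ⟶ Y} (h : IsQuot G j p) (ψ : O ⟶ Z)
    (hψ : Inv G j ψ) : ∃! g : Y ⟶ Z, p ≫ g = ψ :=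
  h.desc (𝟙 Y) (𝟙 O) p (IsPullback.of_vert_isIso ⟨by simp⟩) ψ (fun r x y hx hy =>
    hψ r x y (by simpa using hx) (by simpa using hy))

theorem IsQuot.hom_ext {O Y Z : Scheme.{u}} {j : O ⟶ G.U} {p : O ⟶ Y} (h : IsQuot G j p) {a b : Y ⟶ Z}
    (e : p ≫ a = p ≫ b) : a = b :=
  (h.descTop (p ≫ b) (fun r x y hx hy => by rw [← Category.assoc, ← Category.assoc, h.inv r x y hx hy])).unique e rfl

/-- Restriction to an open of the quotient. -/
theorem IsQuot.restrict {O Y W O' : Scheme.{u}} {j : O ⟶ G.U} {p : O ⟶ Y} (h : IsQuot G j p)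
    (g₀ : W ⟶ Y) [IsOpenImmersion g₀] (k : O' ⟶ O) (q : O' ⟶ W) (sq : IsPullback q k g₀ p) :
    IsQuot G (k ≫ j) q := by
  have hk : IsOpenImmersion k := MorphismProperty.of_isPullback sq ‹IsOpenImmersion g₀›
  have hq : ∀ z, g₀ (q z) = p (k z) := fun z => by
    rw [← Scheme.Hom.comp_apply, sq.w, Scheme.Hom.comp_apply]
  refine ⟨?_, ?_, ?_, ?_, ?_, ?_⟩
  · intro T r x y hx hy
    rw [← cancel_mono g₀, Category.assoc, Category.assoc, sq.w, ← Category.assoc, ← Category.assoc]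
    exact h.inv r _ _ (by rw [Category.assoc, hx]) (by rw [Category.assoc, hy])
  · intro w
    obtain ⟨x, hx⟩ := h.surj (g₀ w)
    obtain ⟨z, hz, -⟩ := Scheme.Pullback.exists_preimage_pullback (f := g₀) (g := p) w x hx.symm
    refine ⟨sq.isoPullback.inv z, ?_⟩
    rw [← Scheme.Hom.comp_apply, sq.isoPullback_inv_fst]
    exact hz
  · intro V hV
    have : q '' V = g₀ ⁻¹' (p '' (k '' V)) := by
      have e : g₀ '' (q '' V) = p '' (k '' V) := by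
        rw [Set.image_image, Set.image_image]
        exact Set.image_congr' hq
      rw [← e, Set.preimage_image_eq _ g₀.isOpenEmbedding.injective]
    rw [this]
    exact (h.isOpenMap _ (k.isOpenEmbedding.isOpenMap _ hV)).preimage g₀.continuous
  · intro K _ _ x y e
    obtain ⟨r, h1, h2⟩ := h.pts (x ≫ k) (y ≫ k)
      (by rw [Category.assoc, Category.assoc, ← sq.w, ← Category.assoc, ← Category.assoc, e])
    exact ⟨r, by rw [h1, Category.assoc], by rw [h2, Category.assoc]⟩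
  · intro x y e
    obtain ⟨r, h1, h2⟩ := h.fibres (k x) (k y) (by rw [← hq, ← hq, e])
    exact ⟨r, h1, h2⟩
  · intro W' O'' Z g₁ _ k' q' sq' ψ hψ
    exact h.desc (g₁ ≫ g₀) (k' ≫ k) q' (sq'.paste_vert sq) ψ
      (fun r x y hx hy => hψ r x y (by simpa using hx) (by simpa using hy))

theorem app_injective_of_basis {X Y : Scheme.{u}} (f : X ⟶ Y) {P : Y.Opens → Prop}
    (hP : ∀ (W : Y.Opens) (y : Y), y ∈ W → ∃ D, P D ∧ y ∈ D ∧ D ≤ W)
    (h : ∀ D, P D → Function.Injective (f.app D)) (W : Y.Opens) : Function.Injective (f.app W) := by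
  intro a b hab
  choose D hD hyD hDW using fun y : W => hP W y.1 y.2
  refine TopCat.Sheaf.eq_of_locally_eq' Y.sheaf D W (fun y => homOfLE (hDW y))
    (fun z hz => Opens.mem_iSup.2 ⟨⟨z, hz⟩, hyD _⟩) a b fun y => h _ (hD y) ?_
  show f.app (D y) (Y.presheaf.map _ a) = f.app (D y) (Y.presheaf.map _ b)
  rw [← CommRingCat.comp_apply, ← CommRingCat.comp_apply, f.naturality, CommRingCat.comp_apply,
    CommRingCat.comp_apply, hab]

section Affine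

/-- Restriction from global functions. -/
noncomputable abbrev res {X : Scheme.{u}} (O : X.Opens) : Γ(X, ⊤) ⟶ Γ(X, O) :=
  X.presheaf.map (homOfLE le_top).op

theorem app_res {X Y : Scheme.{u}} (f : X ⟶ Y) (W : Y.Opens) (a : Γ(Y, ⊤)) :
    f.app W (res W a) = res (f ⁻¹ᵁ W) (f.appTop a) := by
  rw [← CommRingCat.comp_apply, ← CommRingCat.comp_apply]
  erw [f.naturality]
  rfl

theorem appLE_res {X Y : Scheme.{u}} (f : X ⟶ Y) (W : Y.Opens) (V : X.Opens) (e : V ≤ f ⁻¹ᵁ W) (a : Γ(Y, ⊤)) :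
    f.appLE W V e (res W a) = res V (f.appTop a) := by
  rw [Scheme.Hom.appLE, CommRingCat.comp_apply, app_res, ← CommRingCat.comp_apply, ← Functor.map_comp]
  rfl

variable {X M : Scheme.{u}} [IsAffine X] [IsAffine M] (q : X ⟶ M)

theorem app_basicOpen_injective (hinj : Function.Injective q.appTop) (m : Γ(M, ⊤)) :
    Function.Injective (q.app (M.basicOpen m)) := by
  rw [injective_iff_map_eq_zero]
  intro u hu
  letI := (res (X := M) (M.basicOpen m)).hom.toAlgebra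
  haveI : IsLocalization.Away m Γ(M, M.basicOpen m) :=
    (isAffineOpen_top M).isLocalization_of_eq_basicOpen m (homOfLE le_top) rfl
  letI := (res (X := X) (q ⁻¹ᵁ M.basicOpen m)).hom.toAlgebra
  haveI : IsLocalization.Away (q.appTop m) Γ(X, q ⁻¹ᵁ M.basicOpen m) :=
    (isAffineOpen_top X).isLocalization_of_eq_basicOpen (q.appTop m) (homOfLE le_top) (q.preimage_basicOpen_top m)
  obtain ⟨⟨a, ⟨_, n, rfl⟩⟩, ha⟩ := IsLocalization.surj (Submonoid.powers m) u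
  replace ha : u * res _ (m ^ n) = res _ a := ha
  have h1 : res (q ⁻¹ᵁ M.basicOpen m) (q.appTop a) = 0 := by
    rw [← app_res, ← ha, map_mul, hu, zero_mul]
  obtain ⟨⟨_, k, rfl⟩, hk⟩ := (IsLocalization.map_eq_zero_iff (Submonoid.powers (q.appTop m)) _ (q.appTop a)).1 h1
  have h2 : m ^ k * a = 0 := hinj (by rw [map_mul, map_pow, map_zero]; exact hk)
  have h3 := congrArg (res (M.basicOpen m)) h2
  rw [map_mul, map_zero, ← ha] at h3
  have hu' : ∀ i, IsUnit (res (M.basicOpen m) (m ^ i)) := fun i =>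
    IsLocalization.map_units _ (⟨m ^ i, i, rfl⟩ : Submonoid.powers m)
  rwa [(hu' k).mul_right_eq_zero, (hu' n).mul_left_eq_zero] at h3

theorem exists_app_basicOpen_eq {R' : Scheme.{u}} [IsAffine R'] (t s : R' ⟶ X) (hw : t ≫ q = s ≫ q)
    (hrange : ∀ a, t.appTop a = s.appTop a → ∃ b, q.appTop b = a) (m : Γ(M, ⊤))
    (f : Γ(X, q ⁻¹ᵁ M.basicOpen m))
    (e₁ : (t ≫ q) ⁻¹ᵁ M.basicOpen m ≤ t ⁻¹ᵁ q ⁻¹ᵁ M.basicOpen m)
    (e₂ : (t ≫ q) ⁻¹ᵁ M.basicOpen m ≤ s ⁻¹ᵁ q ⁻¹ᵁ M.basicOpen m)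
    (hf : t.appLE _ _ e₁ f = s.appLE _ _ e₂ f) :
    ∃ u, q.app (M.basicOpen m) u = f := by
  letI := (res (X := M) (M.basicOpen m)).hom.toAlgebra
  haveI : IsLocalization.Away m Γ(M, M.basicOpen m) :=
    (isAffineOpen_top M).isLocalization_of_eq_basicOpen m (homOfLE le_top) rfl
  letI := (res (X := X) (q ⁻¹ᵁ M.basicOpen m)).hom.toAlgebra
  haveI : IsLocalization.Away (q.appTop m) Γ(X, q ⁻¹ᵁ M.basicOpen m) :=
    (isAffineOpen_top X).isLocalization_of_eq_basicOpen (q.appTop m) (homOfLE le_top) (q.preimage_basicOpen_top m)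
  letI := (res (X := R') ((t ≫ q) ⁻¹ᵁ M.basicOpen m)).hom.toAlgebra
  haveI : IsLocalization.Away ((t ≫ q).appTop m) Γ(R', (t ≫ q) ⁻¹ᵁ M.basicOpen m) :=
    (isAffineOpen_top R').isLocalization_of_eq_basicOpen ((t ≫ q).appTop m) (homOfLE le_top)
      ((t ≫ q).preimage_basicOpen_top m)
  obtain ⟨⟨a, ⟨_, n, rfl⟩⟩, ha⟩ := IsLocalization.surj (Submonoid.powers (q.appTop m)) f
  replace ha : f * res _ (q.appTop m ^ n) = res _ a := ha
  have hts : t.appTop (q.appTop m) = s.appTop (q.appTop m) := by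
    rw [← CommRingCat.comp_apply, ← CommRingCat.comp_apply, ← Scheme.Hom.comp_appTop, hw, Scheme.Hom.comp_appTop]
  have h1 : res ((t ≫ q) ⁻¹ᵁ M.basicOpen m) (t.appTop a) = res _ (s.appTop a) := by
    rw [← appLE_res t _ _ e₁, ← appLE_res s _ _ e₂, ← ha, map_mul, map_mul, appLE_res, appLE_res, hf]
    simp only [map_pow, hts]
  have hz : res ((t ≫ q) ⁻¹ᵁ M.basicOpen m) (t.appTop a - s.appTop a) = 0 := by rw [map_sub, h1, sub_self]
  obtain ⟨⟨_, k, rfl⟩, hk⟩ :=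
    (IsLocalization.map_eq_zero_iff (Submonoid.powers ((t ≫ q).appTop m)) _ (t.appTop a - s.appTop a)).1 hz
  replace hk : (t ≫ q).appTop m ^ k * (t.appTop a - s.appTop a) = 0 := hk
  rw [Scheme.Hom.comp_appTop, CommRingCat.comp_apply, mul_sub, sub_eq_zero] at hk
  obtain ⟨b, hb⟩ := hrange (q.appTop m ^ k * a) (by
    rw [map_mul, map_mul, map_pow, map_pow, ← hts, hk])
  have hu' : IsUnit (res (M.basicOpen m) (m ^ (n + k))) :=
    IsLocalization.map_units _ (⟨m ^ (n + k), n + k, rfl⟩ : Submonoid.powers m)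
  refine ⟨res (M.basicOpen m) b * ((hu'.unit⁻¹ : Γ(M, M.basicOpen m)ˣ) : Γ(M, M.basicOpen m)), (hu'.map (q.app _).hom).mul_left_injective ?_⟩
  show q.app (M.basicOpen m) (res (M.basicOpen m) b * ((hu'.unit⁻¹ : Γ(M, M.basicOpen m)ˣ) : Γ(M, M.basicOpen m))) *
      q.app _ (res (M.basicOpen m) (m ^ (n + k))) = f * q.app _ (res (M.basicOpen m) (m ^ (n + k)))
  rw [← map_mul, mul_assoc, hu'.val_inv_mul, mul_one, app_res, app_res, hb, map_pow, pow_add, map_mul,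
    map_mul, ← mul_assoc f, ha]
  rw [mul_comm]

end Affine

theorem appTop_toQuot : G.toQuot.appTop = (Scheme.ΓSpecIso (CommRingCat.of G.invariants)).hom ≫
    CommRingCat.ofHom G.invariants.subtype := by
  rw [Grpd.GroupoidScheme.toQuot, Scheme.Hom.comp_appTop, Scheme.toSpecΓ_appTop, Scheme.ΓSpecIso_naturality]

theorem appTop_toQuot_injective : Function.Injective G.toQuot.appTop := by
  rw [appTop_toQuot]
  exact Subtype.val_injective.comp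
    (ConcreteCategory.bijective_of_isIso (Scheme.ΓSpecIso (CommRingCat.of G.invariants)).hom).1

theorem exists_appTop_toQuot_eq (a : Γ(G.U, ⊤)) (h : G.t.appTop a = G.s.appTop a) :
    ∃ b, G.toQuot.appTop b = a := by
  obtain ⟨b, hb⟩ := (ConcreteCategory.bijective_of_isIso (Scheme.ΓSpecIso (CommRingCat.of G.invariants)).hom).2
    (⟨a, h.symm⟩ : G.invariants)
  exact ⟨b, by rw [appTop_toQuot]; exact congrArg Subtype.val hb⟩

section AffineQuot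

variable [IsAffine G.U] [IsFinite G.s] [Flat G.s] [LocallyOfFinitePresentation G.s]

theorem good_toQuot : GITQuot.Good G.toQuot := by
  refine ⟨(surjective_toQuot G).surj, app_injective_of_basis G.toQuot
    (P := fun D => ∃ m : Γ(Spec (CommRingCat.of G.invariants), ⊤), (Spec (CommRingCat.of G.invariants)).basicOpen m = D) (fun W y hy => ?_) ?_⟩
  · obtain ⟨_, ⟨m, rfl⟩, h1, h2⟩ := Opens.isBasis_iff_nbhd.1 (isBasis_basicOpen _) hy
    exact ⟨_, ⟨m, rfl⟩, h1, h2⟩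
  · rintro _ ⟨m, rfl⟩
    exact app_basicOpen_injective G.toQuot appTop_toQuot_injective m

theorem appLE_congr {X Y : Scheme.{u}} {f g : X ⟶ Y} (h : f = g) (U : Y.Opens) (V : X.Opens)
    (e : V ≤ f ⁻¹ᵁ U) : f.appLE U V e = g.appLE U V (h ▸ e) := by subst h; rfl

theorem resLE_appTop_topIso {X Y : Scheme.{u}} (f : X ⟶ Y) (U : Y.Opens) (V : X.Opens) (e : V ≤ f ⁻¹ᵁ U) :
    (f.resLE U V e).appTop ≫ V.topIso.hom = U.topIso.hom ≫ f.appLE U V e := by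
  rw [Scheme.Hom.appTop, Scheme.Hom.resLE_app_top, Category.assoc, Category.assoc, Iso.inv_hom_id, Category.comp_id]

theorem top_le_comp_preimage {X Y Z : Scheme.{u}} (f : X ⟶ Y) (g : Y ⟶ Z) {V : Z.Opens} (e : ⊤ ≤ g ⁻¹ᵁ V) :
    (⊤ : X.Opens) ≤ (f ≫ g) ⁻¹ᵁ V := by
  intro z _
  exact e (show f z ∈ (⊤ : Y.Opens) from trivial)

theorem comp_appLE_top {X Y Z : Scheme.{u}} (f : X ⟶ Y) (g : Y ⟶ Z) (V : Z.Opens) (e : ⊤ ≤ g ⁻¹ᵁ V)
    (e' : (⊤ : X.Opens) ≤ (f ≫ g) ⁻¹ᵁ V) : (f ≫ g).appLE V ⊤ e' = g.appLE V ⊤ e ≫ f.appTop := by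
  have h1 : f.appTop = f.appLE ⊤ ⊤ le_top := (Scheme.Hom.app_eq_appLE f)
  rw [h1, Scheme.Hom.appLE_comp_appLE]

theorem appTop_eq_of_comp_eq {X Y Z : Scheme.{u}} (x y : X ⟶ Y) (g : Y ⟶ Z) (V : Z.Opens) (e : ⊤ ≤ g ⁻¹ᵁ V)
    (hxy : x ≫ g = y ≫ g) : g.appLE V ⊤ e ≫ x.appTop = g.appLE V ⊤ e ≫ y.appTop :=
  ((comp_appLE_top x g V e (top_le_comp_preimage x g e)).symm.trans (appLE_congr hxy V ⊤ _)).trans
    (comp_appLE_top y g V e (top_le_comp_preimage y g e))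

theorem appLE_eq_of_comp_eq {X Y Z : Scheme.{u}} (t s : X ⟶ Y) (O : Y.Opens) (P : X.Opens)
    (e₁ : P ≤ t ⁻¹ᵁ O) (e₂ : P ≤ s ⁻¹ᵁ O) (ψ : O.toScheme ⟶ Z) {V : Z.Opens} (e : ⊤ ≤ ψ ⁻¹ᵁ V)
    (hxy : t.resLE O P e₁ ≫ ψ = s.resLE O P e₂ ≫ ψ) :
    (ψ.appLE V ⊤ e ≫ O.topIso.hom) ≫ t.appLE O P e₁ = (ψ.appLE V ⊤ e ≫ O.topIso.hom) ≫ s.appLE O P e₂ := by
  have h : ψ.appLE V ⊤ e ≫ (t.resLE O P e₁).appTop = ψ.appLE V ⊤ e ≫ (s.resLE O P e₂).appTop := by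
    exact appTop_eq_of_comp_eq (t.resLE O P e₁) (s.resLE O P e₂) ψ V e hxy
  rw [Category.assoc, Category.assoc, ← resLE_appTop_topIso t O P e₁, ← resLE_appTop_topIso s O P e₂,
    ← Category.assoc, ← Category.assoc, h]

theorem toSpecΓ_map_comp_topIso {Y Z : Scheme.{u}} (O : Y.Opens) (ψ : O.toScheme ⟶ Z) {V : Z.Opens}
    (hV : IsAffineOpen V) (e : ⊤ ≤ ψ ⁻¹ᵁ V) :
    O.toSpecΓ ≫ Spec.map (ψ.appLE V ⊤ e ≫ O.topIso.hom) ≫ hV.fromSpec = ψ := by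
  have h : O.toSpecΓ ≫ Spec.map (ψ.appLE V ⊤ e ≫ O.topIso.hom) =
      O.toScheme.toSpecΓ ≫ Spec.map (ψ.appLE V ⊤ e) := by
    rw [Scheme.Opens.toSpecΓ, Category.assoc, ← Spec.map_comp, Category.assoc, Iso.hom_inv_id, Category.comp_id]
  haveI : IsIso (⊤ : O.toScheme.Opens).ι := (Scheme.topIso O.toScheme).isIso_hom
  rw [reassoc_of% h, ← cancel_epi (⊤ : O.toScheme.Opens).ι]
  have h2 := Scheme.Opens.toSpecΓ_SpecMap_appLE_assoc ψ V ⊤ e hV.fromSpec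
  rw [Scheme.Opens.toSpecΓ_top, Category.assoc] at h2
  rw [h2, hV.toSpecΓ_fromSpec, Scheme.Hom.resLE_comp_ι]

theorem exists_desc_local {Z : Scheme.{u}} {V : Z.Opens} (hV : IsAffineOpen V)
    (m : Γ(Spec (CommRingCat.of G.invariants), ⊤)) (D : (Spec (CommRingCat.of G.invariants)).Opens)
    (hD : (Spec (CommRingCat.of G.invariants)).basicOpen m = D)
    (ψ : (G.toQuot ⁻¹ᵁ D).toScheme ⟶ Z)
    (hψ : Inv G (G.toQuot ⁻¹ᵁ D).ι ψ) (e : ⊤ ≤ ψ ⁻¹ᵁ V) :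
    ∃ g : D.toScheme ⟶ Z, G.toQuot ∣_ D ≫ g = ψ := by
  haveI := isAffine_R G
  obtain rfl := hD
  let D := (Spec (CommRingCat.of G.invariants)).basicOpen m
  let O := G.toQuot ⁻¹ᵁ D
  let π : Γ(Z, V) ⟶ Γ(G.U, O) := ψ.appLE V ⊤ e ≫ O.topIso.hom
  have e₁ : (G.t ≫ G.toQuot) ⁻¹ᵁ D ≤ G.t ⁻¹ᵁ O := le_rfl
  have e₂ : (G.t ≫ G.toQuot) ⁻¹ᵁ D ≤ G.s ⁻¹ᵁ O := by rw [t_toQuot]; exact le_rfl
  have hπ : π ≫ G.t.appLE O _ e₁ = π ≫ G.s.appLE O _ e₂ :=
    appLE_eq_of_comp_eq G.t G.s O _ e₁ e₂ ψ e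
      (hψ ((G.t ≫ G.toQuot) ⁻¹ᵁ D).ι _ _ (Scheme.Hom.resLE_comp_ι _ _) (Scheme.Hom.resLE_comp_ι _ _))
  have hmem : ∀ v, π v ∈ (G.toQuot.app D).hom.range := fun v =>
    exists_app_basicOpen_eq G.toQuot G.t G.s (t_toQuot G) exists_appTop_toQuot_eq m (π v) e₁ e₂
      (congr($(hπ) v))
  let eD := RingEquiv.ofBijective (G.toQuot.app D).hom.rangeRestrict
    ⟨fun x y hxy => good_toQuot.app D (congrArg Subtype.val hxy),
      (G.toQuot.app D).hom.rangeRestrict_surjective⟩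
  let ρ : Γ(Z, V) ⟶ Γ(Spec (CommRingCat.of G.invariants), D) :=
    CommRingCat.ofHom (eD.symm.toRingHom.comp (π.hom.codRestrict _ hmem))
  have hρ : ρ ≫ G.toQuot.app D = π := by
    ext v
    exact congrArg Subtype.val (eD.apply_symm_apply ⟨π v, hmem v⟩)
  refine ⟨D.toSpecΓ ≫ Spec.map ρ ≫ hV.fromSpec, ?_⟩
  rw [← Scheme.Opens.toSpecΓ_naturality_assoc, ← Spec.map_comp_assoc, hρ]
  exact toSpecΓ_map_comp_topIso _ ψ hV e

theorem preimage_eq_top_of_saturated {W : (Spec (CommRingCat.of G.invariants)).Opens} {Z : Scheme.{u}}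
    {ψ : (G.toQuot ⁻¹ᵁ W).toScheme ⟶ Z} (hψ : Inv G (G.toQuot ⁻¹ᵁ W).ι ψ) (V : Z.Opens)
    (D : (Spec (CommRingCat.of G.invariants)).Opens) (hD : G.toQuot ⁻¹ᵁ D ≤ G.toQuot ⁻¹ᵁ W)
    (hsub : ∀ z ∈ D, z ∈ G.toQuot '' ((G.toQuot ⁻¹ᵁ W).ι '' (ψ ⁻¹ᵁ V : Set _))) :
    ⊤ ≤ (G.U.homOfLE hD ≫ ψ) ⁻¹ᵁ V := by
  intro z _
  obtain ⟨_, ⟨w, hwV, rfl⟩, hw⟩ := hsub (G.toQuot ((G.toQuot ⁻¹ᵁ D).ι z)) z.2
  obtain ⟨r, hr₁, hr₂⟩ := (toQuot_eq_iff G ((G.toQuot ⁻¹ᵁ D).ι z) ((G.toQuot ⁻¹ᵁ W).ι w)).1 hw.symm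
  have hz : (G.toQuot ⁻¹ᵁ W).ι (G.U.homOfLE hD z) = (G.toQuot ⁻¹ᵁ D).ι z := by
    rw [← Scheme.Hom.comp_apply, Scheme.homOfLE_ι]
  have h := hψ.apply_eq (G.U.homOfLE hD z) w r (hr₁.trans hz.symm) hr₂
  show ψ (G.U.homOfLE hD z) ∈ V
  rw [h]
  exact hwV

theorem exists_desc (W : (Spec (CommRingCat.of G.invariants)).Opens) {Z : Scheme.{u}}
    (ψ : (G.toQuot ⁻¹ᵁ W).toScheme ⟶ Z) (hψ : Inv G (G.toQuot ⁻¹ᵁ W).ι ψ) :
    ∃ g : W.toScheme ⟶ Z, G.toQuot ∣_ W ≫ g = ψ := by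
  have hloc : ∀ y : W, ∃ (m : Γ(Spec (CommRingCat.of G.invariants), ⊤))
      (hle : (Spec (CommRingCat.of G.invariants)).basicOpen m ≤ W) (V : Z.Opens), IsAffineOpen V ∧
      y.1 ∈ (Spec (CommRingCat.of G.invariants)).basicOpen m ∧
      ⊤ ≤ (G.U.homOfLE (show G.toQuot ⁻¹ᵁ (Spec (CommRingCat.of G.invariants)).basicOpen m ≤ G.toQuot ⁻¹ᵁ W from
        fun z hz => hle hz) ≫ ψ) ⁻¹ᵁ V := by
    intro y
    obtain ⟨x, hx⟩ := (surjective_toQuot G).surj y.1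
    let x' : G.toQuot ⁻¹ᵁ W := ⟨x, show G.toQuot x ∈ W from hx ▸ y.2⟩
    obtain ⟨V, hV, hxV, -⟩ := exists_isAffineOpen_mem_and_subset (show ψ x' ∈ (⊤ : Z.Opens) from trivial)
    have hA : IsOpen (G.toQuot '' ((G.toQuot ⁻¹ᵁ W).ι '' (ψ ⁻¹ᵁ V : Set _))) :=
      isOpenMap_toQuot G _ ((G.toQuot ⁻¹ᵁ W).ι.isOpenEmbedding.isOpenMap _ (ψ ⁻¹ᵁ V).2)
    obtain ⟨_, ⟨m, rfl⟩, hym, hsub⟩ := Opens.isBasis_iff_nbhd.1 (isBasis_basicOpen _)
      (show y.1 ∈ W ⊓ ⟨_, hA⟩ from ⟨y.2, x, ⟨x', hxV, rfl⟩, hx⟩)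
    exact ⟨m, fun z hz => (hsub hz).1, V, hV, hym,
      preimage_eq_top_of_saturated hψ V ((Spec (CommRingCat.of G.invariants)).basicOpen m) _
        fun z hz => (hsub hz).2⟩
  choose m hle V hV hym hmV using hloc
  let D := fun y : W => (Spec (CommRingCat.of G.invariants)).basicOpen (m y)
  have hD' : ∀ y, G.toQuot ⁻¹ᵁ D y ≤ G.toQuot ⁻¹ᵁ W := fun y z hz => hle y hz
  have hψ' : ∀ y, Inv G (G.toQuot ⁻¹ᵁ D y).ι (G.U.homOfLE (hD' y) ≫ ψ) := fun y T r a b ha hb => by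
    rw [← Category.assoc, ← Category.assoc]
    exact hψ r _ _ (by rw [Category.assoc, Scheme.homOfLE_ι, ha]) (by rw [Category.assoc, Scheme.homOfLE_ι, hb])
  choose g hg using fun y => exists_desc_local (hV y) (m y) (D y) rfl _ (hψ' y) (hmV y)
  let 𝒰 : W.toScheme.OpenCover := Scheme.Cover.mkOfCovers W (fun y => (D y).toScheme)
    (fun y => (Spec (CommRingCat.of G.invariants)).homOfLE (hle y))
    (fun y => ⟨y, ⟨y.1, hym y⟩, by
      refine Subtype.ext ?_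
      show ((Spec (CommRingCat.of G.invariants)).homOfLE (hle y) ≫ W.ι) _ = _
      rw [Scheme.homOfLE_ι]; rfl⟩) (fun y => inferInstance)
  have hgood := (good_toQuot (G := G)).restrict W
  have key : ∀ (i : W) {T : Scheme.{u}} (t : T ⟶ (D i).toScheme) (x : T ⟶ (G.toQuot ⁻¹ᵁ W).toScheme),
      x ≫ G.toQuot ∣_ W = t ≫ (Spec (CommRingCat.of G.invariants)).homOfLE (hle i) → t ≫ g i = x ≫ ψ := by
    intro i T t x hx
    have hx' : t ≫ (D i).ι = (x ≫ (G.toQuot ⁻¹ᵁ W).ι) ≫ G.toQuot := by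
      rw [Category.assoc, ← morphismRestrict_ι, ← Category.assoc, hx, Category.assoc, Scheme.homOfLE_ι]
    let l := (isPullback_morphismRestrict G.toQuot (D i)).lift t (x ≫ (G.toQuot ⁻¹ᵁ W).ι) hx'
    have h1 : l ≫ G.toQuot ∣_ D i = t := (isPullback_morphismRestrict G.toQuot _).lift_fst _ _ _
    have h2 : l ≫ G.U.homOfLE (hD' i) = x := by
      rw [← cancel_mono (G.toQuot ⁻¹ᵁ W).ι, Category.assoc, Scheme.homOfLE_ι]
      exact (isPullback_morphismRestrict G.toQuot _).lift_snd _ _ _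
    rw [← h1, Category.assoc, hg, reassoc_of% h2]
  have hcompat : ∀ i j : 𝒰.I₀, pullback.fst (𝒰.f i) (𝒰.f j) ≫ g i = pullback.snd (𝒰.f i) (𝒰.f j) ≫ g j := by
    intro i j
    refine hgood.cancel_open (pullback.fst (𝒰.f i) (𝒰.f j) ≫ 𝒰.f i) fun {T} t x hx => ?_
    rw [← Category.assoc, ← Category.assoc]
    exact (key i (t ≫ pullback.fst _ _) x (hx.trans (Category.assoc _ _ _).symm)).trans
      (key j (t ≫ pullback.snd _ _) x (by rw [hx, Category.assoc]; exact congrArg (t ≫ ·) pullback.condition)).symm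
  refine ⟨𝒰.glueMorphisms g hcompat, Scheme.Cover.hom_ext (𝒰.pullback₁ (G.toQuot ∣_ W)) _ _ fun i => ?_⟩
  show pullback.fst (G.toQuot ∣_ W) (𝒰.f i) ≫ _ = pullback.fst (G.toQuot ∣_ W) (𝒰.f i) ≫ _
  rw [← Category.assoc, pullback.condition, Category.assoc, Scheme.Cover.ι_glueMorphisms]
  exact key i _ _ pullback.condition

/-- The affine quotient. -/
theorem isQuot_toQuot : IsQuot G (𝟙 G.U) G.toQuot := by
  refine ⟨?_, (surjective_toQuot G).surj, isOpenMap_toQuot G, ?_, ?_, ?_⟩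
  · intro T r x y hx hy
    rw [Category.comp_id] at hx hy
    rw [hx, hy, Category.assoc, Category.assoc, t_toQuot]
  · intro K _ _ x y e
    obtain ⟨r, h1, h2⟩ := (exists_arrow_of_toQuot_eq G x y).1 e
    exact ⟨r, by rw [h1, Category.comp_id], by rw [h2, Category.comp_id]⟩
  · intro x y e
    exact (toQuot_eq_iff G x y).1 e
  · intro W O' Z g₀ _ k q sq ψ hψ
    let D := g₀.opensRange
    have sq' : IsPullback (q ≫ g₀.isoOpensRange.hom) k D.ι G.toQuot :=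
      IsPullback.of_iso sq (Iso.refl O') g₀.isoOpensRange (Iso.refl G.U) (Iso.refl _) (by simp) (by simp)
        (by simp [D]) (by simp)
    let e := sq'.isoIsPullback _ _ (isPullback_morphismRestrict G.toQuot D)
    have he₁ : e.hom ≫ G.toQuot ∣_ D = q ≫ g₀.isoOpensRange.hom := IsPullback.isoIsPullback_hom_fst _ _ _ _
    have he₂ : e.hom ≫ (G.toQuot ⁻¹ᵁ D).ι = k := IsPullback.isoIsPullback_hom_snd _ _ _ _
    obtain ⟨g, hg⟩ := exists_desc D (e.inv ≫ ψ) (fun r x y hx hy => by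
      rw [← Category.assoc, ← Category.assoc]
      exact hψ r _ _ (by rw [← he₂]; simpa using hx) (by rw [← he₂]; simpa using hy))
    refine ⟨g₀.isoOpensRange.hom ≫ g, ?_, fun g' hg' => ?_⟩
    · show q ≫ g₀.isoOpensRange.hom ≫ g = ψ
      rw [← Category.assoc, ← he₁, Category.assoc, hg, Iso.hom_inv_id_assoc]
    · rw [← cancel_epi g₀.isoOpensRange.inv, Iso.inv_hom_id_assoc]
      refine ((good_toQuot (G := G)).restrict D).cancel ?_
      rw [hg, ← cancel_epi e.hom, Iso.hom_inv_id_assoc, reassoc_of% he₁, Iso.hom_inv_id_assoc]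
      exact hg'

end AffineQuot

end Groth.Agent.GrpQuot
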