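import Groth.Agent.Lib.GrpQuot.QuotSection

/-!
# The fppf quotient of an equivalence relation with closed graph is an fpqc sheaf
-/

set_option autoImplicit false
set_option linter.style.haveILetI false
set_option backward.isDefEq.respectTransparency.types false
universe u

open CategoryTheory CategoryTheory.Limits AlgebraicGeometry MonoidalCategory CartesianMonoidalCategory
open Opposite Groth.Agent.GrpQuot.SubDesc Groth.Agent.GrpQuot.QuotSheaf Groth.Agent.GrpQuot.QuotSection

namespace Groth.Agent.GrpQuot.QuotCompare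

variable {K : Precoverage Scheme.{u}} {S : Scheme.{u}}

theorem el_surjective {T : Over S} {F : QuotSh.Sh K S} (x : F.obj.obj (op T)) :
    ∃ g : QuotSh.rep K T ⟶ F, el g = x := by
  let η : yoneda.obj T ⋙ uliftFunctor.{u + 1, u} ⟶ F.obj :=
    { app := fun T' ↦ TypeCat.ofHom fun a ↦ F.obj.map a.down.op x
      naturality := fun T' T'' f ↦ by
        ext ⟨a⟩
        show F.obj.map (a.op ≫ f) x = F.obj.map f (F.obj.map a.op x)
        rw [Functor.map_comp]
        rfl }
  refine ⟨⟨sheafifyLift _ η F.property⟩, ?_⟩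
  have h := congr($(toSheafify_sheafifyLift (QuotSh.J K S) η F.property).app (op T) (gen T))
  simp only [NatTrans.comp_app, CategoryTheory.comp_apply] at h
  refine h.trans ?_
  show F.obj.map (𝟙 T).op x = x
  simp

variable {R U : Over S} (s t : R ⟶ U)

variable (K) in
/-- The presheaf map to the quotient sheaf. -/
noncomputable def π₀ : yoneda.obj U ⋙ uliftFunctor.{u + 1, u} ⟶ (QuotSh.quot K s t).obj :=
  toSheafify (QuotSh.J K S) (yoneda.obj U ⋙ uliftFunctor.{u + 1, u}) ≫ (QuotSh.quotπ K s t).hom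

theorem π₀_apply {T : Over S} (a : T ⟶ U) :
    (π₀ K s t).app (op T) (ULift.up a) = el (cls K s t a) := by
  rw [cls, el_repMap_comp]
  have h := NatTrans.naturality_apply (π₀ K s t) a.op (gen U)
  rw [map_gen] at h
  exact h

theorem J_fppf_le : QuotSh.J Scheme.fppfPrecoverage S ≤ QuotSh.J Scheme.fpqcPrecoverage S :=
  fun X W hW ↦ Scheme.fppfTopology_le_fpqcTopology _ hW

/-- The fpqc quotient as an fppf sheaf. -/
noncomputable def fpqcQuot : QuotSh.Sh Scheme.fppfPrecoverage S :=
  ⟨(QuotSh.quot Scheme.fpqcPrecoverage s t).obj,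
    (isSheaf_iff_isSheaf_of_type _ _).2 (Presieve.isSheaf_of_le _ J_fppf_le
      ((isSheaf_iff_isSheaf_of_type _ _).1 (QuotSh.quot Scheme.fpqcPrecoverage s t).property))⟩

/-- `h_U` to the fpqc quotient. -/
noncomputable def ψ : QuotSh.rep Scheme.fppfPrecoverage U ⟶ fpqcQuot s t :=
  ⟨sheafifyLift _ (π₀ Scheme.fpqcPrecoverage s t) (fpqcQuot s t).property⟩

theorem el_repMap_ψ {T : Over S} (a : T ⟶ U) :
    el (QuotSh.repMap Scheme.fppfPrecoverage a ≫ ψ s t) =
      el (cls Scheme.fpqcPrecoverage s t a) := by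
  rw [el_repMap_comp, cls, el_repMap_comp]
  have h := congr($(toSheafify_sheafifyLift (QuotSh.J Scheme.fppfPrecoverage S)
    (π₀ Scheme.fpqcPrecoverage s t) (fpqcQuot s t).property).app (op U) (gen U))
  simp only [NatTrans.comp_app, CategoryTheory.comp_apply] at h
  exact congrArg ((fpqcQuot s t).obj.map a.op) h

theorem ψ_condition :
    QuotSh.repMap Scheme.fppfPrecoverage s ≫ ψ s t = QuotSh.repMap Scheme.fppfPrecoverage t ≫ ψ s t :=
  el_injective (by
    rw [el_repMap_ψ, el_repMap_ψ]
    exact congrArg el (cls_eq_of_rel (𝟙 R) (Category.id_comp s) (Category.id_comp t)))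

/-- The comparison map. -/
noncomputable def φ : QuotSh.quot Scheme.fppfPrecoverage s t ⟶ fpqcQuot s t :=
  coequalizer.desc (ψ s t) (ψ_condition s t)

theorem φ_cls {T : Over S} (a : T ⟶ U) :
    el (cls Scheme.fppfPrecoverage s t a ≫ φ s t) = el (cls Scheme.fpqcPrecoverage s t a) := by
  rw [← el_repMap_ψ, cls, Category.assoc]
  exact congrArg (fun g ↦ el (QuotSh.repMap Scheme.fppfPrecoverage a ≫ g)) (coequalizer.π_desc _ _)

variable [IsEquivalenceRelation s t]

theorem φ_injective (T : Over S) : Function.Injective ((φ s t).hom.app (op T)) := by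
  intro x y e
  obtain ⟨g, rfl⟩ := el_surjective x
  obtain ⟨g', rfl⟩ := el_surjective y
  rw [← el_comp, ← el_comp] at e
  have e' := el_injective e
  obtain ⟨W, hW, hl⟩ := exists_local_lift g
  obtain ⟨W', hW', hl'⟩ := exists_local_lift g'
  refine congrArg el (hom_ext_local g g' (W ⊓ W') (GrothendieckTopology.intersection_covering _ hW hW')
    fun T' f hf ↦ ?_)
  obtain ⟨a, ha⟩ := hl f hf.1
  obtain ⟨b, hb⟩ := hl' f hf.2
  rw [ha, hb]
  have e₁ : cls Scheme.fppfPrecoverage s t a ≫ φ s t = cls Scheme.fppfPrecoverage s t b ≫ φ s t := by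
    rw [← ha, ← hb, Category.assoc, Category.assoc, e']
  have e₂ := congrArg el e₁
  rw [φ_cls, φ_cls] at e₂
  obtain ⟨r, h1, h2⟩ := exists_rel_of_cls_eq (el_injective e₂)
  exact cls_eq_of_rel r h1 h2

theorem φ_surjective [Flat s.left] [Surjective s.left] [LocallyOfFinitePresentation s.left]
    (hc : IsClosedImmersion (lift t s).left) (T : Over S) :
    Function.Surjective ((φ s t).hom.app (op T)) := by
  intro y
  obtain ⟨σ, hσ⟩ := el_surjective (K := Scheme.fpqcPrecoverage)
    (F := QuotSh.quot Scheme.fpqcPrecoverage s t) y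
  haveI := descendsAlong_flat.{u}
  obtain ⟨Z, i, hi, hZ⟩ := exists_closed (s := s) (t := t) (T := T) (σ := σ) hc
  haveI := hi
  haveI : Mono i := (Over.forget S).mono_of_mono_map (inferInstanceAs (Mono i.left))
  let p : Z ⟶ T := i ≫ snd U T
  haveI : Flat p.left := property_snd i hZ @Flat ‹_›
  haveI : Surjective p.left := property_snd i hZ @Surjective ‹_›
  haveI : LocallyOfFinitePresentation p.left := property_snd i hZ @LocallyOfFinitePresentation ‹_›
  have hiσ : Mem s t T σ i := (hZ i).1 ⟨𝟙 Z, Category.id_comp i⟩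
  let W : Sieve T := (Sieve.overEquiv T).symm (Sieve.generate (Presieve.singleton p.left))
  have hW : W ∈ QuotSh.J Scheme.fppfPrecoverage S T :=
    GrothendieckTopology.overEquiv_symm_mem_over _ T _
      (Precoverage.generate_mem_toGrothendieck (Scheme.Hom.singleton_mem_fppfPrecoverage p.left))
  have key : ∀ ⦃T' : Over S⦄ (h : T' ⟶ T), W h →
      ∃ x, (φ s t).hom.app (op T') x = (fpqcQuot s t).obj.map h.op y := by
    intro T' h hh
    obtain ⟨Y, k, g, hg, hk⟩ := (Sieve.overEquiv_symm_iff _ _).1 hh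
    cases hg
    let k' : T' ⟶ Z := Over.homMk k (by
      rw [← Over.w p, ← Category.assoc, hk, Over.w h])
    have hk' : k' ≫ p = h := Over.OverMorphism.ext hk
    refine ⟨el (cls Scheme.fppfPrecoverage s t (k' ≫ i ≫ fst U T)), ?_⟩
    rw [← el_comp, φ_cls, ← hσ, ← hk']
    show _ = (QuotSh.quot Scheme.fpqcPrecoverage s t).obj.map (k' ≫ p).op (el σ)
    rw [← el_repMap_comp]
    have := mem_comp k' i hiσ
    unfold Mem at this
    rw [Category.assoc, Category.assoc] at this
    exact congrArg el this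
  choose x hx using key
  have hcomp : Presieve.FamilyOfElements.Compatible (P := (QuotSh.quot Scheme.fppfPrecoverage s t).obj)
      (fun T' h hh ↦ x h hh : Presieve.FamilyOfElements _ W.arrows) := by
    intro Y₁ Y₂ B g₁ g₂ f₁ f₂ h₁ h₂ ee
    apply φ_injective s t B
    have n₁ := NatTrans.naturality_apply (φ s t).hom g₁.op (x f₁ h₁)
    have n₂ := NatTrans.naturality_apply (φ s t).hom g₂.op (x f₂ h₂)
    refine n₁.trans (Eq.trans ?_ n₂.symm)
    rw [hx, hx, ← Functor.map_comp_apply, ← Functor.map_comp_apply, ← op_comp, ← op_comp, ee]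
  have hsh := (isSheaf_iff_isSheaf_of_type _ _).1 (QuotSh.quot Scheme.fppfPrecoverage s t).property W hW
  refine ⟨hsh.amalgamate _ hcomp, ?_⟩
  refine ((isSheaf_iff_isSheaf_of_type _ _).1 (fpqcQuot s t).property W hW).isSeparatedFor.ext
    fun T' h hh ↦ ?_
  rw [← NatTrans.naturality_apply, hsh.valid_glue hcomp h hh, hx]

theorem isSheaf_fpqc [Flat s.left] [Surjective s.left] [LocallyOfFinitePresentation s.left]
    (hc : IsClosedImmersion (lift t s).left) :
    Presheaf.IsSheaf (QuotSh.J Scheme.fpqcPrecoverage S)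
      (QuotSh.quot Scheme.fppfPrecoverage s t).obj := by
  have : ∀ T, IsIso ((φ s t).hom.app T) := fun T ↦
    (isIso_iff_bijective _).2 ⟨φ_injective s t T.unop, φ_surjective s t hc T.unop⟩
  haveI : IsIso (φ s t).hom := NatIso.isIso_of_isIso_app _
  exact (Presheaf.isSheaf_of_iso_iff (asIso (φ s t).hom)).2
    (QuotSh.quot Scheme.fpqcPrecoverage s t).property

end Groth.Agent.GrpQuot.QuotCompare
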