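import Groth.Agent.Lib.GrpQuot.QuotCompare
import Mathlib.AlgebraicGeometry.Sites.Etale

/-!
# Etale quotients of equivalence relations
-/

set_option autoImplicit false
set_option linter.style.haveILetI false
set_option backward.isDefEq.respectTransparency.types false
universe u

open CategoryTheory CategoryTheory.Limits AlgebraicGeometry
open Opposite Groth.Agent.GrpQuot.SubDesc Groth.Agent.GrpQuot.QuotSheaf Groth.Agent.GrpQuot.QuotCompare

namespace Groth.Agent.GrpQuot.QuotEtale

theorem etale_le_fppf : Scheme.etalePrecoverage.{u} ≤ Scheme.fppfPrecoverage.{u} :=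
  Scheme.precoverage_mono fun _ _ _ (_ : Etale _) ↦ ⟨inferInstance, inferInstance⟩

instance subcanonical_etale (S : Scheme.{u}) :
    (QuotSh.J Scheme.etalePrecoverage S).Subcanonical :=
  haveI : Scheme.etalePrecoverage.{u}.toGrothendieck.Subcanonical :=
    .of_le (Precoverage.toGrothendieck_mono (etale_le_fppf.trans Scheme.fppfPrecoverage_le_fpqcPrecoverage))
  inferInstance

variable {K : Precoverage Scheme.{u}} {S : Scheme.{u}} [(QuotSh.J K S).Subcanonical]

theorem bijective_unit (V T : Over S) :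
    Function.Bijective fun a : T ⟶ V ↦
      (toSheafify (QuotSh.J K S) (yoneda.obj V ⋙ uliftFunctor.{u + 1, u})).app (op T) (ULift.up a) := by
  have : IsIso (toSheafify (QuotSh.J K S) (yoneda.obj V ⋙ uliftFunctor.{u + 1, u})) :=
    isIso_toSheafify _ ((QuotSh.J K S).uliftYoneda.{u + 1}.obj V).property
  exact (((isIso_iff_bijective _).1 (inferInstanceAs (IsIso
    ((toSheafify (QuotSh.J K S) (yoneda.obj V ⋙ uliftFunctor.{u + 1, u})).app (op T))))).comp
      Equiv.ulift.symm.bijective)

theorem el_repMap {T V : Over S} (a : T ⟶ V) :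
    el (QuotSh.repMap K a) =
      (toSheafify (QuotSh.J K S) (yoneda.obj V ⋙ uliftFunctor.{u + 1, u})).app (op T) (ULift.up a) := by
  have h := congr($(toSheafify_naturality (QuotSh.J K S)
    (Functor.whiskerRight (yoneda.map a) uliftFunctor.{u + 1, u})).app (op T) (gen T))
  simp only [NatTrans.comp_app, CategoryTheory.comp_apply] at h
  rw [app_gen] at h
  exact h.symm

theorem repMap_injective {T V : Over S} :
    Function.Injective fun a : T ⟶ V ↦ QuotSh.repMap K a := fun a b h ↦ by
  apply (bijective_unit (K := K) V T).1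
  simp only [← el_repMap]
  exact congrArg el h

theorem repMap_surjective {T V : Over S} (g : QuotSh.rep K T ⟶ QuotSh.rep K V) :
    ∃ a : T ⟶ V, QuotSh.repMap K a = g := by
  obtain ⟨a, ha⟩ := (bijective_unit (K := K) V T).2 (el g)
  exact ⟨a, el_injective ((el_repMap a).trans ha)⟩

variable {R U Y : Over S} {s t : R ⟶ U} [IsEquivalenceRelation s t] {q : U ⟶ Y}

theorem cls_desc (w : s ≫ q = t ≫ q) {T : Over S} (a : T ⟶ U) :
    cls K s t a ≫ QuotSh.quotDesc K q w = QuotSh.repMap K (a ≫ q) := by
  rw [cls, Category.assoc, repMap_comp K a q]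
  exact congrArg (QuotSh.repMap K a ≫ ·) (coequalizer.π_desc _ _)

theorem isKernelPair_of_isQuotient (h : QuotSh.IsQuotient K s t q) : IsKernelPair q s t := by
  obtain ⟨w, hiso⟩ := h
  haveI := hiso
  have key : ∀ {T : Over S} (a b : T ⟶ U), a ≫ q = b ≫ q → ∃ r : T ⟶ R, r ≫ s = a ∧ r ≫ t = b :=
    fun a b e ↦ exists_rel_of_cls_eq (K := K)
      ((cancel_mono (QuotSh.quotDesc K q w)).1 (by rw [cls_desc, cls_desc, e]))
  choose r hr₁ hr₂ using fun c : PullbackCone q q ↦ key c.fst c.snd c.condition
  exact ⟨⟨w⟩, ⟨PullbackCone.IsLimit.mk _ r hr₁ hr₂ fun c m h₁ h₂ ↦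
    injective_of_eqv (s := s) (t := t) _ _ (h₁.trans (hr₁ c).symm) (h₂.trans (hr₂ c).symm)⟩⟩

theorem isQuotient_of_cover (hk : IsKernelPair q s t)
    (hcov : (Sieve.overEquiv Y).symm (Sieve.generate (Presieve.singleton q.left)) ∈ QuotSh.J K S Y) :
    QuotSh.IsQuotient K s t q := by
  refine ⟨hk.w, ?_⟩
  let d := QuotSh.quotDesc K q hk.w
  have hinj : ∀ T, Function.Injective (d.hom.app (op T)) := fun T x y e ↦ by
    obtain ⟨g, rfl⟩ := el_surjective x
    obtain ⟨g', rfl⟩ := el_surjective y
    rw [← el_comp, ← el_comp] at e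
    have e' := el_injective e
    obtain ⟨W, hW, hl⟩ := exists_local_lift g
    obtain ⟨W', hW', hl'⟩ := exists_local_lift g'
    refine congrArg el (hom_ext_local g g' (W ⊓ W')
      (GrothendieckTopology.intersection_covering _ hW hW') fun T' f hf ↦ ?_)
    obtain ⟨a, ha⟩ := hl f hf.1
    obtain ⟨b, hb⟩ := hl' f hf.2
    rw [ha, hb]
    have e₁ : QuotSh.repMap K (a ≫ q) = QuotSh.repMap K (b ≫ q) := by
      rw [← cls_desc hk.w, ← cls_desc hk.w, ← ha, ← hb, Category.assoc, Category.assoc]
      exact congrArg _ e'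
    exact cls_eq_of_rel (hk.lift a b (repMap_injective e₁)) (hk.lift_fst _ _ _) (hk.lift_snd _ _ _)
  have hsurj : ∀ T, Function.Surjective (d.hom.app (op T)) := fun T x ↦ by
    obtain ⟨g, rfl⟩ := el_surjective x
    obtain ⟨y, rfl⟩ := repMap_surjective g
    let W : Sieve T := Sieve.pullback y ((Sieve.overEquiv Y).symm (Sieve.generate (Presieve.singleton q.left)))
    have hW : W ∈ QuotSh.J K S T := (QuotSh.J K S).pullback_stable y hcov
    have key : ∀ ⦃T' : Over S⦄ (h : T' ⟶ T), W h →
        ∃ z, d.hom.app (op T') z = (QuotSh.rep K Y).obj.map h.op (el (QuotSh.repMap K y)) := by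
      intro T' h hh
      obtain ⟨Z, k, g, hg, hk'⟩ := (Sieve.overEquiv_symm_iff _ _).1
        (show (Sieve.overEquiv Y).symm (Sieve.generate (Presieve.singleton q.left)) (h ≫ y) from hh)
      cases hg
      let a : T' ⟶ U := Over.homMk k (by rw [← Over.w q, ← Category.assoc, hk', Over.w (h ≫ y)])
      refine ⟨el (cls K s t a), ?_⟩
      rw [← el_comp, cls_desc, ← el_repMap_comp, ← repMap_comp,
        show a ≫ q = h ≫ y from Over.OverMorphism.ext hk']
    choose z hz using key
    have hcomp : Presieve.FamilyOfElements.Compatible (P := (QuotSh.quot K s t).obj)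
        (fun T' h hh ↦ z h hh : Presieve.FamilyOfElements _ W.arrows) := by
      intro Y₁ Y₂ B g₁ g₂ f₁ f₂ h₁ h₂ ee
      apply hinj B
      refine (NatTrans.naturality_apply d.hom g₁.op (z f₁ h₁)).trans
        (Eq.trans ?_ (NatTrans.naturality_apply d.hom g₂.op (z f₂ h₂)).symm)
      rw [hz, hz, ← Functor.map_comp_apply, ← Functor.map_comp_apply, ← op_comp, ← op_comp, ee]
    have hsh := (isSheaf_iff_isSheaf_of_type _ _).1 (QuotSh.quot K s t).property W hW
    refine ⟨hsh.amalgamate _ hcomp, ?_⟩
    refine ((isSheaf_iff_isSheaf_of_type _ _).1 (QuotSh.rep K Y).property W hW).isSeparatedFor.ext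
      fun T' h hh ↦ ?_
    rw [← NatTrans.naturality_apply, hsh.valid_glue hcomp h hh, hz]
  have : ∀ T, IsIso (d.hom.app T) := fun T ↦
    (isIso_iff_bijective _).2 ⟨hinj T.unop, hsurj T.unop⟩
  haveI : IsIso d.hom := NatIso.isIso_of_isIso_app _
  exact ObjectProperty.isIso_hom_iff _ |>.1 ‹_›

theorem etale_surjective_of_isQuotient [Etale s.left] [Surjective s.left]
    (h : QuotSh.IsQuotient Scheme.etalePrecoverage s t q) : Etale q.left ∧ Surjective q.left := by
  have hk := isKernelPair_of_isQuotient h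
  obtain ⟨w, hiso⟩ := h
  haveI := hiso
  let d := QuotSh.quotDesc Scheme.etalePrecoverage q w
  obtain ⟨W, hW, hlift⟩ := exists_local_lift (inv d)
  obtain ⟨R', hR', hle⟩ := (Precoverage.mem_toGrothendieck_iff_of_isStableUnderComposition
    (J := Scheme.precoverage @Etale)).1
    ((GrothendieckTopology.mem_over_iff _ W).1 hW)
  obtain ⟨ι, X, f, rfl⟩ := R'.exists_eq_ofArrows
  obtain ⟨hfl, hqc⟩ := flat_and_isQCCovering f
    (Scheme.fppfPrecoverage_le_fpqcPrecoverage _ (etale_le_fppf _ hR'))
  suffices hh : ∀ i, ∀ (P : MorphismProperty Scheme.{u}) [P.IsStableUnderBaseChange],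
      P t.left → P (pullback.fst (f i) q.left) by
    have he : Etale t.left := QuotSection.property_left_t (s := s) (t := t) @Etale ‹_›
    have hs : Surjective t.left := QuotSection.property_left_t (s := s) (t := t) @Surjective ‹_›
    exact ⟨descend_family f hfl hqc @Etale q.left fun i ↦ hh i @Etale he,
      descend_family f hfl hqc @Surjective q.left fun i ↦ hh i @Surjective hs⟩
  intro i P _ ht
  let V : Over S := Over.mk (f i ≫ Y.hom)
  let v : V ⟶ Y := Over.homMk (f i) rfl
  obtain ⟨u, hu⟩ := hlift v ((Sieve.overEquiv_iff W (f i)).1 (hle _ _ ⟨i⟩))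
  have hv : u ≫ q = v := repMap_injective (K := Scheme.etalePrecoverage) (by
    show QuotSh.repMap _ (u ≫ q) = QuotSh.repMap _ v
    rw [← cls_desc w, ← hu, Category.assoc, IsIso.inv_hom_id, Category.comp_id])
  have sq : IsPullback (pullback.snd t u) (pullback.fst t u ≫ s) v q := by
    rw [← hv]
    exact (IsPullback.of_hasPullback t u).flip.paste_vert hk.flip
  have sq' := sq.map (Over.forget S)
  rw [show pullback.fst (f i) q.left = sq'.isoPullback.inv ≫ (pullback.snd t u).left from
    sq'.isoPullback_inv_fst.symm]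
  exact MorphismProperty.RespectsIso.precomp P sq'.isoPullback.inv _
    (MorphismProperty.of_isPullback ((IsPullback.of_hasPullback t u).map (Over.forget S)) ht)

end Groth.Agent.GrpQuot.QuotEtale
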