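import Groth.Agent.Lib.GrpQuot.Affine
import Mathlib.AlgebraicGeometry.Morphisms.FlatRank

/-!
# The shear square of a groupoid and invariance of the rank
-/

set_option autoImplicit false
set_option linter.style.haveILetI false
set_option backward.isDefEq.respectTransparency.types false
universe u

open CategoryTheory CategoryTheory.Limits AlgebraicGeometry TopologicalSpace

noncomputable section

namespace Groth.Agent.GrpQuot

open Groth.Agent.GrpdB

variable {S : Scheme.{u}} (G : Grpd.GroupoidScheme S)

theorem c_eq : G.c = cmp G (pullback.fst G.s G.t) (pullback.snd G.s G.t) pullback.condition := by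
  unfold GrpdB.cmp
  rw [show pullback.lift (pullback.fst G.s G.t) (pullback.snd G.s G.t) pullback.condition = 𝟙 _ by
    apply pullback.hom_ext <;> simp, Category.id_comp]

theorem c_s : G.c ≫ G.s = pullback.snd G.s G.t ≫ G.s := by rw [c_eq G, cmp_s]

/-- `(composition, second projection)` identifies composable pairs with pairs of arrows of equal source. -/
theorem isPullback_shear : IsPullback G.c (pullback.snd G.s G.t) G.s G.s := by
  have hf : ∀ (s : PullbackCone G.s G.s),
      pullback.lift (cmp G s.fst (inv' s.snd) (s.condition.trans (inv_t s.snd).symm)) s.snd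
        ((cmp_s _ _ _).trans (inv_s _)) ≫ G.c = s.fst := fun s => cancel_right' _ _ s.condition
  refine ⟨⟨c_s G⟩, ⟨PullbackCone.IsLimit.mk _ (fun s =>
    pullback.lift (cmp G s.fst (inv' s.snd) (s.condition.trans (inv_t s.snd).symm)) s.snd
      ((cmp_s _ _ _).trans (inv_s _))) hf (fun s => pullback.lift_snd _ _ _) fun s m h1 h2 => ?_⟩⟩
  apply pullback.hom_ext
  · rw [pullback.lift_fst, ← cancel_right (m ≫ pullback.fst _ _) (m ≫ pullback.snd _ _)
      (by rw [Category.assoc, Category.assoc, pullback.condition])]
    refine cmp_congr ?_ (by rw [inv', inv', h2]) _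
    rw [← comp_cmp _ _ _ pullback.condition, ← c_eq, h1]
  · rw [pullback.lift_snd, h2]

variable [IsFinite G.s] [Flat G.s]

theorem finrank_s_invariant (r : G.R) : G.s.finrank (G.t r) = G.s.finrank (G.s r) := by
  rw [← Scheme.Hom.finrank_of_isPullback _ _ _ _ (IsPullback.of_hasPullback G.s G.t) r,
    ← Scheme.Hom.finrank_of_isPullback _ _ _ _ (isPullback_shear G) r]

theorem finrank_t : G.t.finrank = G.s.finrank := by
  rw [← G.i_s, Scheme.Hom.finrank_comp_left_of_isIso]

/-- The locus where the rank is `n`. -/
def rankLocus [LocallyOfFinitePresentation G.s] (n : ℕ) : G.U.Opens :=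
  ⟨G.s.finrank ⁻¹' {n}, G.s.isLocallyConstant_finrank {n}⟩

theorem rankLocus_zero [LocallyOfFinitePresentation G.s] : rankLocus G 0 = ⊥ := by
  refine Opens.ext (Set.eq_empty_of_forall_notMem fun u hu => ?_)
  have h := G.s.one_le_finrank_map (G.e u)
  rw [s_e] at h
  have h0 : G.s.finrank u = 0 := hu
  omega

end Groth.Agent.GrpQuot
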