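import Groth.Agent.Lib.GrpQuot.IsQuot

/-!
# Restricting a groupoid scheme to an invariant open
-/

set_option autoImplicit false
set_option linter.style.haveILetI false
set_option backward.isDefEq.respectTransparency.types false
universe u

open CategoryTheory CategoryTheory.Limits AlgebraicGeometry

noncomputable section

namespace Groth.Agent.GrpQuot

open Groth.Agent.GrpdB

variable {S : Scheme.{u}} (G : Grpd.GroupoidScheme S) (O : G.U.Opens) (hO : G.s ⁻¹ᵁ O = G.t ⁻¹ᵁ O)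

theorem range_le {T : Scheme.{u}} (f : T ⟶ G.R) (h : ∀ z, G.s (f z) ∈ O) :
    Set.range f ⊆ Set.range (G.s ⁻¹ᵁ O).ι := by
  rintro _ ⟨z, rfl⟩
  rw [Scheme.Opens.range_ι]
  exact h z

/-- The arrows over `O`. -/
def liftR {T : Scheme.{u}} (f : T ⟶ G.R) (h : ∀ z, G.s (f z) ∈ O) : T ⟶ (G.s ⁻¹ᵁ O).toScheme :=
  IsOpenImmersion.lift (G.s ⁻¹ᵁ O).ι f (range_le G O f h)

@[reassoc]
theorem liftR_ι {T : Scheme.{u}} (f : T ⟶ G.R) (h : ∀ z, G.s (f z) ∈ O) :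
    liftR G O f h ≫ (G.s ⁻¹ᵁ O).ι = f := IsOpenImmersion.lift_fac _ _ _

def sO : (G.s ⁻¹ᵁ O).toScheme ⟶ O.toScheme := G.s ∣_ O

def tO : (G.s ⁻¹ᵁ O).toScheme ⟶ O.toScheme := G.t.resLE O (G.s ⁻¹ᵁ O) hO.le

@[reassoc]
theorem sO_ι : sO G O ≫ O.ι = (G.s ⁻¹ᵁ O).ι ≫ G.s := morphismRestrict_ι _ _

@[reassoc]
theorem tO_ι : tO G O hO ≫ O.ι = (G.s ⁻¹ᵁ O).ι ≫ G.t := Scheme.Hom.resLE_comp_ι _ _

theorem cond {T : Scheme.{u}} {α β : T ⟶ (G.s ⁻¹ᵁ O).toScheme} (h : α ≫ sO G O = β ≫ tO G O hO) :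
    (α ≫ (G.s ⁻¹ᵁ O).ι) ≫ G.s = (β ≫ (G.s ⁻¹ᵁ O).ι) ≫ G.t := by
  rw [Category.assoc, Category.assoc, ← sO_ι, ← tO_ι G O hO, ← Category.assoc, h, Category.assoc]

def cO : pullback (sO G O) (tO G O hO) ⟶ (G.s ⁻¹ᵁ O).toScheme :=
  liftR G O (cmp G (pullback.fst _ _ ≫ (G.s ⁻¹ᵁ O).ι) (pullback.snd _ _ ≫ (G.s ⁻¹ᵁ O).ι)
    (cond G O hO pullback.condition)) fun z => by
      rw [← Scheme.Hom.comp_apply, cmp_s, Category.assoc, ← sO_ι, ← Category.assoc, Scheme.Hom.comp_apply]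
      exact ((pullback.snd (sO G O) (tO G O hO) ≫ sO G O) z).2

theorem cO_ι {T : Scheme.{u}} (α β : T ⟶ (G.s ⁻¹ᵁ O).toScheme) (h : α ≫ sO G O = β ≫ tO G O hO) :
    (pullback.lift α β h ≫ cO G O hO) ≫ (G.s ⁻¹ᵁ O).ι =
      cmp G (α ≫ (G.s ⁻¹ᵁ O).ι) (β ≫ (G.s ⁻¹ᵁ O).ι) (cond G O hO h) := by
  rw [Category.assoc, cO, liftR_ι, comp_cmp]
  exact cmp_congr (by rw [← Category.assoc, pullback.lift_fst]) (by rw [← Category.assoc, pullback.lift_snd]) _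

include hO in
theorem mem_t (z : (G.s ⁻¹ᵁ O).toScheme) : G.t ((G.s ⁻¹ᵁ O).ι z) ∈ O := hO.le z.2

def eO : O.toScheme ⟶ (G.s ⁻¹ᵁ O).toScheme :=
  liftR G O (O.ι ≫ G.e) fun z => by
    rw [← Scheme.Hom.comp_apply, Category.assoc, G.e_s, Category.comp_id]; exact z.2

def iO : (G.s ⁻¹ᵁ O).toScheme ⟶ (G.s ⁻¹ᵁ O).toScheme :=
  liftR G O ((G.s ⁻¹ᵁ O).ι ≫ G.i) fun z => by
    rw [← Scheme.Hom.comp_apply, Category.assoc, G.i_s]; exact mem_t G O hO z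

theorem eO_ι : eO G O ≫ (G.s ⁻¹ᵁ O).ι = O.ι ≫ G.e := liftR_ι _ _ _ _

theorem iO_ι : iO G O hO ≫ (G.s ⁻¹ᵁ O).ι = (G.s ⁻¹ᵁ O).ι ≫ G.i := liftR_ι _ _ _ _

/-- The restriction of `G` to the invariant open `O`. -/
def restr : Grpd.GroupoidScheme S where
  U := O.toScheme
  R := (G.s ⁻¹ᵁ O).toScheme
  pU := O.ι ≫ G.pU
  pR := (G.s ⁻¹ᵁ O).ι ≫ G.pR
  s := sO G O
  t := tO G O hO
  e := eO G O
  i := iO G O hO
  c := cO G O hO
  s_over := by rw [sO_ι_assoc, G.s_over]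
  t_over := by rw [tO_ι_assoc G O hO, G.t_over]
  comp_s α β h := by
    rw [← cancel_mono O.ι, Category.assoc, Category.assoc β, sO_ι, ← Category.assoc, cO_ι, cmp_s, Category.assoc]
  comp_t α β h := by
    rw [← cancel_mono O.ι, Category.assoc, Category.assoc α, tO_ι G O hO, ← Category.assoc, cO_ι, cmp_t,
      Category.assoc]
  assoc α β γ h₁ h₂ := by
    rw [← cancel_mono (G.s ⁻¹ᵁ O).ι]
    refine (cO_ι G O hO _ _ _).trans (Eq.trans ?_ (cO_ι G O hO _ _ _).symm)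
    exact (cmp_congr (cO_ι G O hO α β h₁) rfl _).trans
      ((cmp_assoc _ _ _ (cond G O hO h₁) (cond G O hO h₂)).trans (cmp_congr rfl (cO_ι G O hO β γ h₂).symm _))
  e_s := by rw [← cancel_mono O.ι, Category.assoc, sO_ι, ← Category.assoc, eO_ι, Category.assoc, G.e_s,
    Category.id_comp, Category.comp_id]
  e_t := by rw [← cancel_mono O.ι, Category.assoc, tO_ι G O hO, ← Category.assoc, eO_ι, Category.assoc, G.e_t,
    Category.id_comp, Category.comp_id]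
  comp_e α := by
    rw [← cancel_mono (G.s ⁻¹ᵁ O).ι, cO_ι]
    refine (cmp_congr rfl (?_ : _ = (α ≫ (G.s ⁻¹ᵁ O).ι) ≫ G.s ≫ G.e) _).trans (G.comp_e _)
    rw [Category.assoc, Category.assoc, eO_ι, Category.assoc, ← sO_ι_assoc]
  e_comp α := by
    rw [← cancel_mono (G.s ⁻¹ᵁ O).ι, cO_ι]
    refine (cmp_congr (?_ : _ = (α ≫ (G.s ⁻¹ᵁ O).ι) ≫ G.t ≫ G.e) rfl _).trans (G.e_comp _)
    rw [Category.assoc, Category.assoc, eO_ι, Category.assoc, ← tO_ι_assoc G O hO]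
  i_s := by rw [← cancel_mono O.ι, Category.assoc, sO_ι, ← Category.assoc, iO_ι G O hO, Category.assoc, G.i_s,
    tO_ι G O hO]
  i_t := by rw [← cancel_mono O.ι, Category.assoc, tO_ι G O hO, ← Category.assoc, iO_ι G O hO, Category.assoc,
    G.i_t, sO_ι]
  comp_i α := by
    rw [← cancel_mono (G.s ⁻¹ᵁ O).ι, cO_ι]
    refine (cmp_congr rfl (?_ : _ = (α ≫ (G.s ⁻¹ᵁ O).ι) ≫ G.i) _).trans ((G.comp_i _).trans ?_)
    · rw [Category.assoc, iO_ι G O hO, Category.assoc]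
    · rw [Category.assoc, Category.assoc, Category.assoc, eO_ι, ← tO_ι_assoc G O hO]
  i_comp α := by
    rw [← cancel_mono (G.s ⁻¹ᵁ O).ι, cO_ι]
    refine (cmp_congr (?_ : _ = (α ≫ (G.s ⁻¹ᵁ O).ι) ≫ G.i) rfl _).trans ((G.i_comp _).trans ?_)
    · rw [Category.assoc, iO_ι G O hO, Category.assoc]
    · rw [Category.assoc, Category.assoc, Category.assoc, eO_ι, ← sO_ι_assoc]

instance isFinite_restr [IsFinite G.s] : IsFinite (restr G O hO).s :=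
  IsZariskiLocalAtTarget.restrict ‹IsFinite G.s› O

instance flat_restr [Flat G.s] : Flat (restr G O hO).s := IsZariskiLocalAtTarget.restrict ‹Flat G.s› O

instance lfp_restr [LocallyOfFinitePresentation G.s] : LocallyOfFinitePresentation (restr G O hO).s :=
  IsZariskiLocalAtTarget.restrict ‹LocallyOfFinitePresentation G.s› O

theorem comp_tO {T : Scheme.{u}} {r : T ⟶ (G.s ⁻¹ᵁ O).toScheme} {x : T ⟶ O.toScheme}
    (h : r ≫ tO G O hO = x) : (r ≫ (G.s ⁻¹ᵁ O).ι) ≫ G.t = x ≫ O.ι := by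
  rw [Category.assoc, ← tO_ι G O hO, ← Category.assoc, h]

theorem comp_sO {T : Scheme.{u}} {r : T ⟶ (G.s ⁻¹ᵁ O).toScheme} {x : T ⟶ O.toScheme}
    (h : r ≫ sO G O = x) : (r ≫ (G.s ⁻¹ᵁ O).ι) ≫ G.s = x ≫ O.ι := by
  rw [Category.assoc, ← sO_ι, ← Category.assoc, h]

theorem IsQuot.of_restr {Y : Scheme.{u}} {p : O.toScheme ⟶ Y}
    (h : IsQuot (restr G O hO) (𝟙 O.toScheme) p) : IsQuot G O.ι p := by
  have hlift : ∀ {T : Scheme.{u}} (r : T ⟶ G.R) (x y : T ⟶ O.toScheme), x ≫ O.ι = r ≫ G.t → y ≫ O.ι = r ≫ G.s →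
      ∃ r' : T ⟶ (G.s ⁻¹ᵁ O).toScheme, r' ≫ tO G O hO = x ∧ r' ≫ sO G O = y := by
    intro T r x y hx hy
    refine ⟨liftR G O r fun z => ?_, ?_, ?_⟩
    · rw [← Scheme.Hom.comp_apply, ← hy]; exact (y z).2
    · rw [← cancel_mono O.ι, Category.assoc, tO_ι G O hO, liftR_ι_assoc, hx]
    · rw [← cancel_mono O.ι, Category.assoc, sO_ι, liftR_ι_assoc, hy]
  refine ⟨?_, h.surj, h.isOpenMap, ?_, ?_, ?_⟩
  · intro T r x y hx hy
    obtain ⟨r', h1, h2⟩ := hlift r x y hx hy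
    exact h.inv r' x y ((Category.comp_id _).trans h1.symm) ((Category.comp_id _).trans h2.symm)
  · intro K _ _ x y e
    obtain ⟨r, h1, h2⟩ := h.pts x y e
    replace h1 : r ≫ tO G O hO = x := h1.trans (Category.comp_id _)
    replace h2 : r ≫ sO G O = y := h2.trans (Category.comp_id _)
    exact ⟨r ≫ (G.s ⁻¹ᵁ O).ι, comp_tO G O hO h1, comp_sO G O h2⟩
  · intro x y e
    obtain ⟨r, h1, h2⟩ := h.fibres x y e
    refine ⟨(G.s ⁻¹ᵁ O).ι r, ?_, ?_⟩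
    · rw [← Scheme.Hom.comp_apply, ← tO_ι G O hO, Scheme.Hom.comp_apply]; exact congrArg O.ι h1
    · rw [← Scheme.Hom.comp_apply, ← sO_ι, Scheme.Hom.comp_apply]; exact congrArg O.ι h2
  · intro W O' Z g₀ _ k q sq ψ hψ
    exact h.desc g₀ k q sq ψ fun r x y hx hy =>
      hψ (r ≫ (G.s ⁻¹ᵁ O).ι) x y
        (((Category.assoc x k O.ι).symm.trans (comp_tO G O hO (r := r) (x := x ≫ k)
          (hx.symm.trans ((congrArg (x ≫ ·) (Category.comp_id k)).trans rfl))).symm))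
        (((Category.assoc y k O.ι).symm.trans (comp_sO G O (r := r) (x := y ≫ k)
          (hy.symm.trans ((congrArg (y ≫ ·) (Category.comp_id k)).trans rfl))).symm))

theorem exists_quot_of_isAffineOpen [IsFinite G.s] [Flat G.s] [LocallyOfFinitePresentation G.s]
    (hOa : IsAffineOpen O) (hO : G.s ⁻¹ᵁ O = G.t ⁻¹ᵁ O) :
    ∃ (M : Scheme.{u}) (p : O.toScheme ⟶ M), IsAffine M ∧ IsIntegralHom p ∧ IsQuot G O.ι p := by
  haveI : IsAffine (restr G O hO).U := hOa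
  exact ⟨_, (restr G O hO).toQuot, inferInstance, isIntegralHom_toQuot (restr G O hO),
    IsQuot.of_restr G O hO isQuot_toQuot⟩

end Groth.Agent.GrpQuot
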