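import Groth.Agent.Lib.GrpQuot.SubDescFam
import Groth.Prelude.Def_DescFam

/-!
# Effectivity of descent data of closed and open subschemes
-/

universe u

set_option linter.style.haveILetI false
set_option backward.isDefEq.respectTransparency.types false

open CategoryTheory Limits AlgebraicGeometry TopologicalSpace

namespace Groth.Agent.GrpQuot.SubDesc

variable {S : Scheme.{u}} {ι : Type u} {X : ι → Scheme.{u}} {f : ∀ i, X i ⟶ S}

theorem exists_hom_of_mono (D D' : Desc.SchDDFam f) (hD' : ∀ i, Mono (D'.obj i).hom)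
    (a : ∀ i, ∃ g : (D.obj i).left ⟶ (D'.obj i).left, g ≫ (D'.obj i).hom = (D.obj i).hom) :
    Nonempty (D ⟶ D') := by
  choose g hg using a
  refine ⟨⟨fun i ↦ Over.homMk (g i) (hg i), fun T i j x₀ x₁ h v w _ ↦ ?_⟩⟩
  haveI := hD' j
  rw [← cancel_mono (D'.obj j).hom, (D'.φ x₀ x₁ h w).2, Category.assoc]
  erw [hg j]
  exact (D.φ x₀ x₁ h v).2.symm

theorem hom_eq_of_mono {D D' : Desc.SchDDFam f} (hD' : ∀ i, Mono (D'.obj i).hom) (a b : D ⟶ D') :
    a = b := by
  refine Desc.SchDDFam.hom_ext (funext fun i ↦ Over.OverMorphism.ext ?_)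
  haveI := hD' i
  rw [← cancel_mono (D'.obj i).hom, Over.w, Over.w]

/-- A descent datum of monomorphisms is effective as soon as some subobject of the base pulls back
to it. -/
theorem isEffective_of_mono (D : Desc.SchDDFam f) (hD : ∀ i, Mono (D.obj i).hom) (U : Over S)
    [Mono U.hom]
    (a : ∀ i, ∃ g : (D.obj i).left ⟶ pullback (f i) U.hom,
      g ≫ pullback.fst (f i) U.hom = (D.obj i).hom)
    (b : ∀ i, ∃ g : pullback (f i) U.hom ⟶ (D.obj i).left,
      g ≫ (D.obj i).hom = pullback.fst (f i) U.hom) :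
    D.IsEffective := by
  have hC : ∀ i, Mono ((Desc.canonicalDDFam f U).obj i).hom := fun i ↦
    inferInstanceAs (Mono (pullback.fst (f i) U.hom))
  obtain ⟨p⟩ := exists_hom_of_mono D (Desc.canonicalDDFam f U) hC a
  obtain ⟨q⟩ := exists_hom_of_mono (Desc.canonicalDDFam f U) D hD b
  exact ⟨U, ⟨⟨q, p, hom_eq_of_mono hC _ _, hom_eq_of_mono hD _ _⟩⟩⟩

theorem exists_lift_of_datum (D : Desc.SchDDFam f) {T : Scheme.{u}} {i j : ι} (x₀ : T ⟶ X i)
    (x₁ : T ⟶ X j) (h : x₀ ≫ f i = x₁ ≫ f j) :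
    ∃ g : pullback x₀ (D.obj i).hom ⟶ pullback x₁ (D.obj j).hom,
      g ≫ pullback.fst _ _ = pullback.fst _ _ := by
  let p := pullback.fst x₀ (D.obj i).hom
  let w := D.φ (p ≫ x₀) (p ≫ x₁) (by rw [Category.assoc, Category.assoc, h])
    ⟨pullback.snd x₀ (D.obj i).hom, pullback.condition.symm⟩
  exact ⟨pullback.lift p w.1 w.2.symm, pullback.lift_fst _ _ _⟩

theorem ker_le_of_fac {A B C : Scheme.{u}} (a : A ⟶ C) (b : B ⟶ C) (g : A ⟶ B)
    (h : g ≫ b = a) : b.ker ≤ a.ker := by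
  subst h; exact Scheme.Hom.le_ker_comp g b

theorem isEffective_of_isClosedImmersion (D : Desc.SchDDFam f) (hflat : ∀ i, Flat (f i))
    (hqc : IsQCCovering f) (hD : ∀ i, IsClosedImmersion (D.obj i).hom) : D.IsEffective := by
  haveI := hD
  let J : ∀ i, (X i).IdealSheafData := fun i ↦ (D.obj i).hom.ker
  have hJ : ∀ (T : Scheme.{u}) (i j : ι) (x₀ : T ⟶ X i) (x₁ : T ⟶ X j),
      x₀ ≫ f i = x₁ ≫ f j → (J i).comap x₀ = (J j).comap x₁ := fun T i j x₀ x₁ h ↦ by
    simp only [J, ← Scheme.IdealSheafData.ker_fst_of_isClosedImmersion]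
    obtain ⟨g, hg⟩ := exists_lift_of_datum D x₀ x₁ h
    obtain ⟨g', hg'⟩ := exists_lift_of_datum D x₁ x₀ h.symm
    exact le_antisymm (ker_le_of_fac _ _ g' hg') (ker_le_of_fac _ _ g hg)
  obtain ⟨I, hI⟩ := exists_descend_family f J hJ hflat hqc
  have e : ∀ i, (pullback.fst (f i) I.subschemeι).ker = (D.obj i).hom.ker := fun i ↦ by
    rw [Scheme.IdealSheafData.ker_fst_of_isClosedImmersion,
      Scheme.IdealSheafData.ker_subschemeι, hI]
  haveI : Mono (Over.mk I.subschemeι).hom := inferInstanceAs (Mono I.subschemeι)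
  refine isEffective_of_mono D (fun i ↦ inferInstance) (Over.mk I.subschemeι) (fun i ↦ ?_)
    fun i ↦ ?_
  · exact ⟨IsClosedImmersion.lift (pullback.fst (f i) I.subschemeι) (D.obj i).hom (e i).le,
      IsClosedImmersion.lift_fac _ _ _⟩
  · exact ⟨IsClosedImmersion.lift (D.obj i).hom (pullback.fst (f i) I.subschemeι) (e i).ge,
      IsClosedImmersion.lift_fac _ _ _⟩

theorem isEffective_of_isOpenImmersion (D : Desc.SchDDFam f) (hflat : ∀ i, Flat (f i))
    (hqc : IsQCCovering f) (hD : ∀ i, IsOpenImmersion (D.obj i).hom) : D.IsEffective := by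
  haveI := hD
  let A : ∀ i, Set (X i) := fun i ↦ Set.range (D.obj i).hom
  obtain ⟨Wo, hpre⟩ := exists_open_descend f hflat hqc A
    (fun i ↦ (D.obj i).hom.isOpenEmbedding.isOpen_range) fun i j z hz ↦ by
      obtain ⟨g, hg⟩ := exists_lift_of_datum D (pullback.fst (f j) (f i))
        (pullback.snd (f j) (f i)) pullback.condition
      have hz' : z ∈ Set.range (pullback.fst (pullback.fst (f j) (f i)) (D.obj j).hom) := by
        rw [Scheme.Pullback.range_fst]; exact hz
      obtain ⟨z', hz'⟩ := hz'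
      have : z ∈ Set.range (pullback.fst (pullback.snd (f j) (f i)) (D.obj i).hom) :=
        ⟨g z', by rw [← Scheme.Hom.comp_apply, hg, hz']⟩
      rw [Scheme.Pullback.range_fst] at this
      exact this
  have e : ∀ i, Set.range (pullback.fst (f i) Wo.ι) = Set.range (D.obj i).hom := fun i ↦ by
    rw [Scheme.Pullback.range_fst, Scheme.Opens.range_ι]
    exact hpre i
  haveI : Mono (Over.mk Wo.ι).hom := inferInstanceAs (Mono Wo.ι)
  refine isEffective_of_mono D (fun i ↦ inferInstance) (Over.mk Wo.ι) (fun i ↦ ?_) fun i ↦ ?_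
  · exact ⟨IsOpenImmersion.lift (pullback.fst (f i) Wo.ι) (D.obj i).hom (e i).ge,
      IsOpenImmersion.lift_fac _ _ _⟩
  · exact ⟨IsOpenImmersion.lift (D.obj i).hom (pullback.fst (f i) Wo.ι) (e i).le,
      IsOpenImmersion.lift_fac _ _ _⟩

end Groth.Agent.GrpQuot.SubDesc
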